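import Cfsg.Agent.GH.L2Aut
import Cfsg.Agent.ClassicalGeometry.PSL2Basic
import Cfsg.Agent.Prune
set_option linter.all false
prune_inst 0x7f00000000000000000000000000000000000000000000000000000000000000000000000000000000000000000000000000000000000000000000000000000000000000000000000000000000000000003fffffffffffffffffffffffffffbeffbdffffffff
open scoped Cfsg.Agent.FastGrp

/-!
# `Aut(PSL(2,p)) = PGL(2,p)`, orders

For `R : Rep F L` with `|F| = p` prime: `autEquiv : MulAut L ≃* GL(2,F) / Z`, `card_aut`,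
`card_L`.
-/

set_option autoImplicit false

namespace Cfsg.Agent.H397.ZAut

open Matrix Cfsg.Agent.GH.L2Aut

variable {F : Type*} [Field F] {L : Type*} [Group L]

theorem ker_gl [Finite F] (R : GH.L2Aut.Rep F L) : R.gl.ker = Subgroup.center (GL (Fin 2) F) := by
  ext g
  rw [MonoidHom.mem_ker, R.gl_eq_one_iff, Matrix.GeneralLinearGroup.mem_center_iff_val_mem_range_scalar]
  constructor
  · rintro ⟨c, hc⟩
    exact ⟨c, by rw [hc, Matrix.smul_one_eq_diagonal]; rfl⟩
  · rintro ⟨c, hc⟩
    exact ⟨c, by rw [← hc, Matrix.smul_one_eq_diagonal]; rfl⟩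

theorem fieldAut_eq_one [Fintype F] (hp : (Fintype.card F).Prime) (σ : F ≃+* F) : σ = 1 := by
  have : Fact (Fintype.card F).Prime := ⟨hp⟩
  ext x
  have h1 : x ∈ AddSubgroup.zmultiples (1 : F) :=
    mem_zmultiples_of_prime_card (by rw [Nat.card_eq_fintype_card]) one_ne_zero
  obtain ⟨k, hk⟩ := h1
  simp only at hk
  rw [← hk, map_zsmul, map_one]
  rfl

theorem gl_surjective [Fintype F] (hp : (Fintype.card F).Prime) (R : GH.L2Aut.Rep F L) :
    Function.Surjective R.gl := by
  intro α
  obtain ⟨g, hg⟩ := R.exists_eq α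
  exact ⟨g, by rw [hg, fieldAut_eq_one hp (R.fld α), map_one, mul_one]⟩

/-- `Aut(PSL(2,p)) = PGL(2,p)` -/
noncomputable def autEquiv [Fintype F] (hp : (Fintype.card F).Prime) (R : GH.L2Aut.Rep F L) :
    MulAut L ≃* (GL (Fin 2) F ⧸ Subgroup.center (GL (Fin 2) F)) :=
  (QuotientGroup.quotientKerEquivOfSurjective R.gl (gl_surjective hp R)).symm.trans
    (QuotientGroup.quotientMulEquivOfEq (ker_gl R))

theorem card_center [Fintype F] :
    Nat.card (Subgroup.center (GL (Fin 2) F)) = Fintype.card F - 1 := by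
  classical
  rw [Matrix.GeneralLinearGroup.center_eq_range_scalar]
  have hinj : Function.Injective (Matrix.GeneralLinearGroup.scalar (Fin 2) : Fˣ →* GL (Fin 2) F) := by
    intro a b hab
    have h1 := congrArg (fun g : GL (Fin 2) F => g.1 0 0) hab
    apply Units.ext
    simpa using h1
  rw [← Nat.card_congr (MonoidHom.ofInjective hinj).toEquiv, Nat.card_eq_fintype_card,
    Fintype.card_units]

theorem card_pgl [Fintype F] :
    Nat.card (GL (Fin 2) F ⧸ Subgroup.center (GL (Fin 2) F)) =
      Fintype.card F * (Fintype.card F ^ 2 - 1) := by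
  classical
  have h1 := Subgroup.card_eq_card_quotient_mul_card_subgroup (Subgroup.center (GL (Fin 2) F))
  rw [card_center, Matrix.card_GL_field, Fin.prod_univ_two] at h1
  have h2 : 2 ≤ Fintype.card F := Fintype.one_lt_card
  simp only [Fin.val_zero, pow_zero, Fin.val_one, pow_one] at h1
  set q := Fintype.card F
  have h3 : (q ^ 2 - 1) * (q ^ 2 - q) = q * (q ^ 2 - 1) * (q - 1) := by
    have h4 : q ^ 2 - q = q * (q - 1) := by
      rw [Nat.mul_sub, mul_one, sq]
    rw [h4]; ring
  rw [h3] at h1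
  exact (Nat.eq_of_mul_eq_mul_right (by omega) h1).symm

theorem card_aut [Fintype F] (hp : (Fintype.card F).Prime) (R : GH.L2Aut.Rep F L) :
    Nat.card (MulAut L) = Fintype.card F * (Fintype.card F ^ 2 - 1) := by
  rw [Nat.card_congr (autEquiv hp R).toEquiv, card_pgl]

end Cfsg.Agent.H397.ZAut
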