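import Cfsg.Agent.H447.KRowM23
import Cfsg.Agent.ClassicalGeometry.PSL2Basic
import Cfsg.Agent.S0280
import Cfsg.Agent.S0813
import Cfsg.Agent.S0815
import Cfsg.Agent.S1069
import Cfsg.Agent.S1163
import Cfsg.Agent.S2126
import Cfsg.Agent.S2127
import Cfsg.Agent.H391.PslRow
import Cfsg.Agent.S2543
import Cfsg.Agent.S2119
import Cfsg.Agent.H623.PDEleven
import Cfsg.Agent.H249.SpTwoExport
import Cfsg.Agent.LieClassical.SympCount
import Mathlib
import Cfsg.Agent.S0735
import Cfsg.Agent.Solvable.SZ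
import Cfsg.Agent.SolvableStructure.PrimitiveSolvable
import Cfsg.Agent.PermutationGroups.RegularNormal
import Cfsg.Agent.H353.TwoLong_m3
import Cfsg.Agent.S0205
import Cfsg.Agent.H49.CoStab
import Cfsg.Agent.LeechPack.X100
import Cfsg.Agent.H921.SporCo
import Cfsg.Agent.S2071
import Cfsg.Agent.S2072
import Cfsg.Agent.FastGrp
import Cfsg.Agent.Prune
set_option linter.all false

section
prune_inst 0x7f00000000000000000000000000000000000000000000000000000000000000000000000000000000000000000000000000000000000000000000000000000000000000000000000000000000000000003fffffffffffffffffffffffffffbeffbdffbfffff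

-- part: H391/KPslTwo
section
prune_inst 0xfcfcf9eeb99fffdfff7e7ffef9dffe38d4dfffffdff94bffe8ebffafff23022be5fb8f0de0d0fe0ed7e29410b87853fb7eeeffe86fdc7ffffdfff45ffbee0ff5f7bd0851d798340fbc0fff63f0778e7f000000000000000000000000000000004200400000
set_option linter.all false
open scoped Cfsg.Agent.FastGrp

-- part: H391/KPslA
section
/-!
# Tools for the row `PSL_2(q)` of S3564 (helper391)

* `sylow_trick` : `C(n,k-1) p^a ≤ k |G|` if `p^(a+b)` divides `|G|` and `p^(b+1)` does not divide `C(n,k-1)` or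
  `C(n,k)`;
* `strict_five` : `C(n,4) < 5 |I^G|` for a 4-set `I` of a group `G` with `Hom G Ω 5`, `n ≥ 9`;
* `exists_regular` : a small subgroup of a group whose non-trivial elements fix at most two points has a regular orbit.
-/

set_option autoImplicit false
set_option linter.unusedSectionVars false

namespace Cfsg.Agent.H391.KPslA

open MulAction Cfsg.Agent.H397.KHom Cfsg.Agent.H384.TwoTrans Cfsg.Agent.H391.KOrb
open scoped Pointwise

section tools

variable {G Ω : Type*} [Group G] [MulAction G Ω] [DecidableEq Ω] [Fintype Ω]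

/-- a divisibility by orbits -/
theorem dvd_card_of_orbits {X : Type*} [Finite X] [MulAction G X] {m : ℕ}
    (h : ∀ x : X, m ∣ (orbit G x).ncard) : m ∣ Nat.card X := by
  classical
  have := Fintype.ofFinite X
  have : Fintype (Quotient (orbitRel G X)) := Fintype.ofFinite _
  have : ∀ ω : Quotient (orbitRel G X), Fintype (orbit G ω.out) := fun ω => Fintype.ofFinite _
  rw [Nat.card_congr (selfEquivSigmaOrbits G X), Nat.card_sigma]
  refine Finset.dvd_sum fun ω _ => ?_
  have := h ω.out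
  rwa [← Nat.card_coe_set_eq] at this

/-- some `j`-set has a big stabiliser -/
theorem exists_stab [Finite G] {p a b j : ℕ} (hp : p.Prime) (ha : p ^ (a + b) ∣ Nat.card G)
    (hb : ¬ p ^ (b + 1) ∣ (Fintype.card Ω).choose j) :
    ∃ I : Finset Ω, I.card = j ∧ ∃ H : Subgroup G, p ^ a ≤ Nat.card H ∧ ∀ g ∈ H, g • I = I := by
  classical
  have hfp : Fact p.Prime := ⟨hp⟩
  obtain ⟨P, hP⟩ := Sylow.exists_subgroup_card_pow_prime p ha
  have h1 : Nat.card (Set.powersetCard Ω j) = (Fintype.card Ω).choose j := by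
    rw [Set.powersetCard.card, Nat.card_eq_fintype_card]
  have hfin : Finite (Set.powersetCard Ω j) := inferInstance
  obtain ⟨x, hx⟩ : ∃ x : Set.powersetCard Ω j, ¬ p ^ (b + 1) ∣ (orbit P x).ncard := by
    by_contra hcon
    push Not at hcon
    exact hb (h1 ▸ dvd_card_of_orbits hcon)
  have h2 := ncard_orbit_mul P x
  rw [hP] at h2
  obtain ⟨i, hi, hi'⟩ := (Nat.dvd_prime_pow hp).1 (Dvd.intro _ h2)
  have hib : i ≤ b := by
    by_contra hcon
    apply hx
    rw [hi']
    exact pow_dvd_pow p (by omega)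
  refine ⟨x.1, x.2, P ⊓ stabilizer G x, ?_, fun g hg => ?_⟩
  · rw [hi'] at h2
    have h3 : p ^ (a + b) = p ^ i * p ^ (a + (b - i)) := by
      rw [← pow_add]
      congr 1
      omega
    rw [h3] at h2
    have h4 := Nat.eq_of_mul_eq_mul_left (pow_pos hp.pos i) h2
    rw [h4]
    exact Nat.pow_le_pow_right hp.pos (by omega)
  · have := hg.2
    exact congrArg Subtype.val (mem_stabilizer_iff.1 this)

/-- **Sylow trick** -/
theorem sylow_trick [Finite G] {k : ℕ} (h : Hom G Ω k) (hk : 1 ≤ k) (hn : k ≤ Fintype.card Ω) {p a b j : ℕ}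
    (hj : j = k - 1 ∨ j = k) (hp : p.Prime) (ha : p ^ (a + b) ∣ Nat.card G)
    (hb : ¬ p ^ (b + 1) ∣ (Fintype.card Ω).choose j) :
    (Fintype.card Ω).choose (k - 1) * p ^ a ≤ k * Nat.card G := by
  obtain ⟨I, hI, H, hH, hHI⟩ := exists_stab (Ω := Ω) hp ha hb
  refine (Nat.mul_le_mul_left _ hH).trans ?_
  rcases hj with rfl | rfl
  · exact h.choose_mul_card_le hk hn H hI hHI
  · exact h.choose_mul_card_le' hk H hI hHI

omit [Fintype Ω] in
theorem card_between {X A : Finset Ω} (hA : A ⊆ X) {r : ℕ} (hr : A.card = r) :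
    ((Finset.powersetCard (r + 1) X).filter (fun J => A ⊆ J)).card = X.card - r := by
  subst hr
  have h1 : ((Finset.powersetCard (A.card + 1) X).filter (fun J => A ⊆ J)) =
      (X \ A).image (fun x => insert x A) := by
    ext J
    simp only [Finset.mem_filter, Finset.mem_powersetCard, Finset.mem_image, Finset.mem_sdiff]
    constructor
    · rintro ⟨⟨hJX, hJc⟩, hAJ⟩
      have h2 : (J \ A).card = 1 := by rw [Finset.card_sdiff_of_subset hAJ, hJc]; omega
      obtain ⟨x, hx⟩ := Finset.card_eq_one.1 h2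
      have hxJ : x ∈ J \ A := by rw [hx]; exact Finset.mem_singleton_self x
      rw [Finset.mem_sdiff] at hxJ
      refine ⟨x, ⟨hJX hxJ.1, hxJ.2⟩, ?_⟩
      rw [Finset.insert_eq, ← hx, Finset.sdiff_union_of_subset hAJ]
    · rintro ⟨x, ⟨hx, hxA⟩, rfl⟩
      exact ⟨⟨Finset.insert_subset hx hA, Finset.card_insert_of_notMem hxA⟩, Finset.subset_insert _ _⟩
  rw [h1, Finset.card_image_of_injOn, Finset.card_sdiff_of_subset hA]
  intro x hx y hy hxy
  rw [Finset.mem_coe, Finset.mem_sdiff] at hx hy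
  have h2 : x ∈ insert y A := by
    have h3 : insert x A = insert y A := hxy
    rw [← h3]
    exact Finset.mem_insert_self x A
  rw [Finset.mem_insert] at h2
  exact h2.resolve_right hx.2

omit [Fintype Ω] in
theorem sum_between (O : Finset (Finset Ω)) {r : ℕ} (hO : ∀ A ∈ O, A.card = r) (X : Finset Ω) :
    ∑ J ∈ Finset.powersetCard (r + 1) X, (O.filter (fun A => A ⊆ J)).card =
      (O.filter (fun A => A ⊆ X)).card * (X.card - r) := by
  have h1 := Finset.sum_card_bipartiteAbove_eq_sum_card_bipartiteBelow (s := Finset.powersetCard (r + 1) X)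
    (t := O.filter (fun A => A ⊆ X)) (fun J A => A ⊆ J)
  have h2 : ∑ J ∈ Finset.powersetCard (r + 1) X, (O.filter (fun A => A ⊆ J)).card =
      ∑ J ∈ Finset.powersetCard (r + 1) X,
        ((O.filter (fun A => A ⊆ X)).bipartiteAbove (fun J A => A ⊆ J) J).card := by
    refine Finset.sum_congr rfl fun J hJ => ?_
    rw [Finset.mem_powersetCard] at hJ
    congr 1
    ext A
    simp only [Finset.bipartiteAbove, Finset.mem_filter]
    constructor
    · rintro ⟨h3, h4⟩
      exact ⟨⟨h3, h4.trans hJ.1⟩, h4⟩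
    · rintro ⟨⟨h3, h5⟩, h4⟩
      exact ⟨h3, h4⟩
  rw [h2, h1, ← smul_eq_mul, ← Finset.sum_const]
  refine Finset.sum_congr rfl fun A hA => ?_
  rw [Finset.mem_filter] at hA
  exact card_between hA.2 (hO A hA.1)

/-- **Strictness.** -/
theorem strict_five (h : Hom G Ω 5) (hn : 9 ≤ Fintype.card Ω) {I : Finset Ω} (hI : I.card = 4) :
    (Fintype.card Ω).choose 4 < 5 * (orbit G I).ncard := by
  classical
  obtain ⟨O, hO⟩ : ∃ O : Finset (Finset Ω), O = (Set.toFinite (orbit G I)).toFinset := ⟨_, rfl⟩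
  have hOc : O.card = (orbit G I).ncard := by rw [hO, Set.ncard_eq_toFinset_card _ (Set.toFinite (orbit G I))]
  have hmem : ∀ A, A ∈ O ↔ A ∈ orbit G I := fun A => by rw [hO]; exact Set.Finite.mem_toFinset _
  have hcard : ∀ A ∈ O, A.card = 4 := by
    intro A hA
    rw [hmem] at hA
    obtain ⟨g, rfl⟩ := hA
    rw [← hI]
    exact Finset.card_smul_finset g I
  have hpos : ∀ J ∈ Finset.powersetCard (4 + 1) (Finset.univ : Finset Ω),
      1 ≤ (O.filter (fun A => A ⊆ J)).card := by
    intro J hJ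
    rw [Finset.mem_powersetCard_univ] at hJ
    obtain ⟨g, hg⟩ := h.exists_subset hI hJ
    rw [Finset.one_le_card]
    exact ⟨g • I, Finset.mem_filter.2 ⟨(hmem _).2 ⟨g, rfl⟩, hg⟩⟩
  rw [← hOc]
  by_contra hcon
  push Not at hcon
  have h1 := sum_between O hcard Finset.univ
  have h2 : (O.filter (fun A => A ⊆ Finset.univ)) = O := by
    rw [Finset.filter_true_of_mem]
    intro A _
    exact Finset.subset_univ A
  rw [h2, Finset.card_univ] at h1
  -- the number of 5-sets
  have h3 : (Finset.powersetCard (4 + 1) (Finset.univ : Finset Ω)).card * 5 =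
      (Fintype.card Ω).choose 4 * (Fintype.card Ω - 4) := by
    rw [Finset.card_powersetCard, Finset.card_univ]
    exact Nat.choose_succ_right_eq (Fintype.card Ω) 4
  have h4 : ∑ J ∈ Finset.powersetCard (4 + 1) (Finset.univ : Finset Ω), (O.filter (fun A => A ⊆ J)).card ≤
      ∑ J ∈ Finset.powersetCard (4 + 1) (Finset.univ : Finset Ω), 1 := by
    rw [h1, Finset.sum_const, smul_eq_mul, mul_one]
    have h5 : 5 * (O.card * (Fintype.card Ω - 4)) ≤
        5 * (Finset.powersetCard (4 + 1) (Finset.univ : Finset Ω)).card := by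
      rw [mul_comm 5 (Finset.card _), h3, ← mul_assoc]
      exact Nat.mul_le_mul_right _ hcon
    omega
  have h5 : ∀ J ∈ Finset.powersetCard (4 + 1) (Finset.univ : Finset Ω),
      (O.filter (fun A => A ⊆ J)).card = 1 := by
    intro J hJ
    have h6 := (Finset.sum_eq_sum_iff_of_le hpos).1
      (le_antisymm (Finset.sum_le_sum hpos) h4) J hJ
    exact h6.symm
  obtain ⟨X, -, hX⟩ := Finset.exists_subset_card_eq (s := (Finset.univ : Finset Ω))
        (n := 9) (by rw [Finset.card_univ]; omega)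
  have h6 := sum_between O hcard X
  have h7 : ∑ J ∈ Finset.powersetCard (4 + 1) X, (O.filter (fun A => A ⊆ J)).card =
      ∑ J ∈ Finset.powersetCard (4 + 1) X, 1 := by
    refine Finset.sum_congr rfl fun J hJ => h5 J ?_
    rw [Finset.mem_powersetCard] at hJ
    exact Finset.mem_powersetCard.2 ⟨Finset.subset_univ J, hJ.2⟩
  rw [h7, Finset.sum_const, smul_eq_mul, mul_one, Finset.card_powersetCard, hX] at h6
  have h8 : Nat.choose 9 (4 + 1) = 126 := by decide
  rw [h8] at h6
  omega

theorem strict_five_mul [Finite G] (h : Hom G Ω 5) (hn : 9 ≤ Fintype.card Ω) (H : Subgroup G) {I : Finset Ω}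
    (hI : I.card = 4) (hH : ∀ g ∈ H, g • I = I) :
    (Fintype.card Ω).choose 4 * Nat.card H < 5 * Nat.card G := by
  have h1 := strict_five h hn hI
  have h2 := ncard_orbit_mul_le H I hH
  have h3 : 0 < Nat.card H := Nat.card_pos
  calc _ < 5 * (orbit G I).ncard * Nat.card H := Nat.mul_lt_mul_of_pos_right h1 h3
    _ = 5 * ((orbit G I).ncard * Nat.card H) := mul_assoc _ _ _
    _ ≤ _ := Nat.mul_le_mul_left _ h2

end tools

section regular

variable {G Ω : Type*} [Group G] [MulAction G Ω] [Finite G] [Finite Ω]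

/-- a small subgroup has a regular orbit -/
theorem exists_regular {T : Subgroup G} (hfix : ∀ t ∈ T, t ≠ 1 → {x : Ω | t • x = x}.ncard ≤ 2)
    {H : Subgroup G} (hH : H ≤ T) (hc : 2 * (Nat.card H - 1) < Nat.card Ω) :
    ∃ x : Ω, (orbit H x).ncard = Nat.card H := by
  classical
  have := Fintype.ofFinite G
  have := Fintype.ofFinite Ω
  obtain ⟨x, hx⟩ : ∃ x : Ω, ∀ h ∈ H, h ≠ 1 → h • x ≠ x := by
    by_contra hcon
    push Not at hcon
    let S : Finset G := Finset.univ.filter (fun h => h ∈ H ∧ h ≠ 1)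
    have h1 : (Finset.univ : Finset Ω) ⊆ S.biUnion (fun h => Finset.univ.filter (fun x => h • x = x)) := by
      intro x _
      obtain ⟨h, hh, h1, h2⟩ := hcon x
      rw [Finset.mem_biUnion]
      exact ⟨h, Finset.mem_filter.2 ⟨Finset.mem_univ _, hh, h1⟩, Finset.mem_filter.2 ⟨Finset.mem_univ _, h2⟩⟩
    have h2 := (Finset.card_le_card h1).trans Finset.card_biUnion_le
    have h3 : ∑ h ∈ S, (Finset.univ.filter (fun x : Ω => h • x = x)).card ≤ ∑ h ∈ S, 2 := by
      refine Finset.sum_le_sum fun h hh => ?_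
      have hh' := (Finset.mem_filter.1 hh).2
      have h4 := hfix h (hH hh'.1) hh'.2
      rwa [Set.ncard_eq_toFinset_card', Set.toFinset_ofPred] at h4
    have h4 : S.card + 1 = Nat.card H := by
      have h5 : S = (Finset.univ.filter (fun h => h ∈ H)).erase 1 := by
        ext h
        simp only [S, Finset.mem_filter, Finset.mem_univ, true_and, Finset.mem_erase]
        (clear * -; itauto)
      have h6 : (1 : G) ∈ Finset.univ.filter (fun h => h ∈ H) := by simp [one_mem]
      rw [h5, Finset.card_erase_add_one h6, Nat.card_eq_fintype_card, ← Fintype.card_subtype]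
    rw [Finset.sum_const, smul_eq_mul] at h3
    rw [Finset.card_univ, ← Nat.card_eq_fintype_card] at h2
    omega
  refine ⟨x, ?_⟩
  have h1 := ncard_orbit_mul H x
  have h2 : H ⊓ stabilizer G x = ⊥ := by
    rw [Subgroup.eq_bot_iff_forall]
    rintro g ⟨hg, hgx⟩
    by_contra h0
    exact hx g hg h0 hgx
  rw [h2, Subgroup.card_bot, mul_one] at h1
  exact h1

theorem homog_of_subgroup [DecidableEq Ω] {T : Subgroup G}
    (hfix : ∀ t ∈ T, t ≠ 1 → {x : Ω | t • x = x}.ncard ≤ 2) {k : ℕ} (h : Hom G Ω k) (hk : 1 ≤ k)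
    (h2k : 2 * k ≤ Nat.card Ω + 1) {H : Subgroup G} (hH : H ≤ T) (hc : Nat.card H = k) : Homog G Ω (k - 1) := by
  obtain ⟨x, hx⟩ := exists_regular hfix hH (by omega)
  exact h.homog_of_orbit hk H x (by rw [hx, hc])

/-- subgroups of prime power order of `T` -/
theorem exists_pow_subgroup {T : Subgroup G} {p a : ℕ} (hp : p.Prime) (h : p ^ a ∣ Nat.card ↥T) :
    ∃ H : Subgroup G, H ≤ T ∧ Nat.card H = p ^ a := by
  have hfp : Fact p.Prime := ⟨hp⟩
  obtain ⟨P, hP⟩ := Sylow.exists_subgroup_card_pow_prime p h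
  exact ⟨P.map T.subtype, Subgroup.map_subtype_le _, by
    rw [Subgroup.card_map_of_injective T.subtype_injective, hP]⟩

/-- fixed points modulo `p` -/
theorem fix_mod [DecidableEq Ω] {g : G} {p : ℕ} [Fact p.Prime] (hg : g ^ p = 1) (S : Finset Ω)
    (hS : ∀ x ∈ S, g • x ∈ S) : S.card ≡ (S.filter (fun x => g • x = x)).card [MOD p] := by
  classical
  let φ : ↥S → ↥S := fun x => ⟨g • x.1, hS x.1 x.2⟩
  have h1 : ∀ (m : ℕ) (x : ↥S), ((φ^[m]) x).1 = g ^ m • x.1 := by
    intro m
    induction m with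
    | zero => intro x; simp
    | succ m ih =>
      intro x
      rw [Function.iterate_succ_apply', pow_succ', mul_smul, ← ih]
  have h2 : φ^[p ^ 1] = id := by
    funext x
    apply Subtype.ext
    rw [h1, pow_one, hg, one_smul]
    rfl
  have h3 := Equiv.Perm.card_fixedPoints_modEq (f := φ) (p := p) (n := 1) h2
  rw [Fintype.card_coe] at h3
  have h4 : Fintype.card (Function.fixedPoints φ) = (S.filter (fun x => g • x = x)).card := by
    rw [← Fintype.card_coe]
    refine Fintype.card_congr ⟨fun x => ⟨x.1.1, Finset.mem_filter.2 ⟨x.1.2, congrArg Subtype.val x.2⟩⟩,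
      fun x => ⟨⟨x.1, (Finset.mem_filter.1 x.2).1⟩, Subtype.ext (Finset.mem_filter.1 x.2).2⟩, ?_, ?_⟩
    · intro x; rfl
    · intro x; rfl
  rwa [h4] at h3

theorem ncard_fix_mod {g : G} {p : ℕ} [Fact p.Prime] (hg : g ^ p = 1) :
    Nat.card Ω ≡ {x : Ω | g • x = x}.ncard [MOD p] := by
  classical
  have := Fintype.ofFinite Ω
  have h1 := fix_mod hg (Finset.univ : Finset Ω) (fun x _ => Finset.mem_univ _)
  rwa [Finset.card_univ, ← Nat.card_eq_fintype_card, ← Set.toFinset_ofPred, ← Set.ncard_eq_toFinset_card'] at h1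

end regular

end Cfsg.Agent.H391.KPslA
end

-- part: H391/KRankOne
section
/-!
# Rows `PSU₃(q)`, `Sz(q)`, `²G₂(q)`, `PSL₂(8)` on 28 points of S3564 (helper391)
-/

set_option autoImplicit false
set_option linter.unusedSectionVars false

namespace Cfsg.Agent.H391.KRankOne

open MulAction Cfsg.Agent.H397.KHom Cfsg.Agent.H384.TwoTrans Cfsg.Agent.H391.KOrb

universe u v

theorem mul_choose_five (n : ℕ) :
    n * (n - 1) * (n - 2) * (n - 3) * (n - 4) = 120 * n.choose 5 := by
  have := Nat.descFactorial_eq_factorial_mul_choose n 5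
  rw [show Nat.factorial 5 = 120 from rfl] at this
  rw [← this]
  simp only [Nat.descFactorial_succ, Nat.descFactorial_zero, Nat.sub_zero]
  ring

theorem mul_choose_four (n : ℕ) :
    n * (n - 1) * (n - 2) * (n - 3) = 24 * n.choose 4 := by
  have := Nat.descFactorial_eq_factorial_mul_choose n 4
  rw [show Nat.factorial 4 = 24 from rfl] at this
  rw [← this]
  simp only [Nat.descFactorial_succ, Nat.descFactorial_zero, Nat.sub_zero]
  ring

theorem num_five {x B N : ℕ} (h : N ≤ B * (x * (x + 1))) (hx : 1 ≤ x)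
    (hb : 600 * B < (x - 1) * (x - 2) * (x - 3)) : 5 * N < (x + 1).choose 5 := by
  have h1 := mul_choose_five (x + 1)
  have h2 : x + 1 - 1 = x := by omega
  have h3 : x + 1 - 2 = x - 1 := by omega
  have h4 : x + 1 - 3 = x - 2 := by omega
  have h5 : x + 1 - 4 = x - 3 := by omega
  rw [h2, h3, h4, h5] at h1
  have h6 : (600 * B) * (x * (x + 1)) < ((x - 1) * (x - 2) * (x - 3)) * (x * (x + 1)) :=
    Nat.mul_lt_mul_of_pos_right hb (by positivity)
  have h7 : ((x - 1) * (x - 2) * (x - 3)) * (x * (x + 1)) = 120 * (x + 1).choose 5 := by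
    rw [← h1]; ring
  have h8 : 600 * N ≤ (600 * B) * (x * (x + 1)) := by
    rw [mul_assoc]
    exact Nat.mul_le_mul_left _ h
  omega

theorem num_four {x B N : ℕ} (h : N ≤ B * (x * (x + 1))) (hx : 1 ≤ x)
    (hb : 96 * B < (x - 1) * (x - 2)) : 4 * N < (x + 1).choose 4 := by
  have h1 := mul_choose_four (x + 1)
  have h2 : x + 1 - 1 = x := by omega
  have h3 : x + 1 - 2 = x - 1 := by omega
  have h4 : x + 1 - 3 = x - 2 := by omega
  rw [h2, h3, h4] at h1
  have h6 : (96 * B) * (x * (x + 1)) < ((x - 1) * (x - 2)) * (x * (x + 1)) :=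
    Nat.mul_lt_mul_of_pos_right hb (by positivity)
  have h7 : ((x - 1) * (x - 2)) * (x * (x + 1)) = 24 * (x + 1).choose 4 := by
    rw [← h1]; ring
  have h8 : 96 * N ≤ (96 * B) * (x * (x + 1)) := by
    rw [mul_assoc]
    exact Nat.mul_le_mul_left _ h
  omega

variable {G : Type u} {Ω : Type v} [Group G] [MulAction G Ω] {T : Subgroup G} [DecidableEq Ω] [Fintype Ω]

/-- From order bounds to `Homog`. -/
theorem of_bounds (A : AS G Ω T) {k : ℕ} (hk : 4 ≤ k) (h2k : 2 * k ≤ Fintype.card Ω + 1) (h : Hom G Ω k)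
    (h4 : k = 4 → Homog G Ω 3) (h5 : k = 5 → Homog G Ω 4)
    (hb : 5 * Nat.card G < (Fintype.card Ω).choose 5) : Homog G Ω (k - 1) := by
  have := A.finG
  by_contra hnot
  rcases (show k = 4 ∨ k = 5 ∨ 6 ≤ k by omega) with rfl | rfl | h6
  · exact hnot (h4 rfl)
  · exact hnot (h5 rfl)
  · rcases bound h h6 h2k hnot with h1 | h1
    · omega
    · have := h1 5 (by omega)
      omega

/-! ### `Out` -/

theorem card_mulAut_eq {X : Type*} [Group X] [Finite X] (hc : Subgroup.center X = ⊥) :
    Nat.card (MulAut X) = Nat.card (Cfsg.Out X) * Nat.card X := by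
  have h1 := Subgroup.card_eq_card_quotient_mul_card_subgroup (Cfsg.Inn X)
  rw [h1]
  congr 1
  have hinj : Function.Injective (MulAut.conj : X →* MulAut X) := by
    rw [← MonoidHom.ker_eq_bot_iff, ← hc]
    ext x
    rw [MonoidHom.mem_ker, Subgroup.mem_center_iff]
    constructor
    · intro h y
      have := congrArg (fun f : MulAut X => f y) h
      simp only [MulAut.conj_apply, MulAut.one_apply] at this
      rw [mul_inv_eq_iff_eq_mul] at this
      exact this.symm
    · intro h
      ext y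
      rw [MulAut.conj_apply, MulAut.one_apply, mul_inv_eq_iff_eq_mul]
      exact (h y).symm
  exact (Nat.card_congr (MonoidHom.ofInjective hinj).toEquiv).symm

theorem center_eq_bot_of_equiv (A : AS G Ω T) {X : Type*} [Group X] (e : ↥T ≃* X) : Subgroup.center X = ⊥ := by
  have := A.simple
  have h1 : Subgroup.center ↥T = ⊥ := by
    rcases IsSimpleGroup.eq_bot_or_eq_top_of_normal (Subgroup.center ↥T) inferInstance with h | h
    · exact h
    · exfalso
      apply A.nonab
      exact ⟨⟨fun x y => by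
        have : y ∈ Subgroup.center ↥T := h ▸ Subgroup.mem_top y
        exact (Subgroup.mem_center_iff.1 this) x⟩⟩
  rw [eq_bot_iff]
  intro x hx
  rw [Subgroup.mem_center_iff] at hx
  have : e.symm x ∈ Subgroup.center ↥T := by
    rw [Subgroup.mem_center_iff]
    intro y
    apply e.injective
    rw [map_mul, map_mul, e.apply_symm_apply]
    exact hx _
  rw [h1, Subgroup.mem_bot] at this
  rw [Subgroup.mem_bot, ← e.apply_symm_apply x, this, map_one]

theorem card_le_out (A : AS G Ω T) {X : Type*} [Group X] [Finite X] (e : ↥T ≃* X) :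
    Nat.card G ≤ Nat.card (Cfsg.Out X) * Nat.card X := by
  have := A.finG
  have h1 := Cfsg.Agent.H436.TT.card_dvd_aut A
  rw [Cfsg.Agent.H436.TT.card_mulAut_congr e, card_mulAut_eq (center_eq_bot_of_equiv A e)] at h1
  have hfin : Finite (MulAut X) := inferInstance
  have hout : 0 < Nat.card (Cfsg.Out X) := by
    have : Finite (Cfsg.Out X) := inferInstance
    exact Nat.card_pos
  exact Nat.le_of_dvd (Nat.mul_pos hout Nat.card_pos) h1

/-! ### `PSL₂(8)` on 28 points -/

theorem psl2_8 (A : AS G Ω T) {F : Type} [Field F] [Fintype F] (hF : Fintype.card F = 8)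
    (e : Nonempty (↥T ≃* Matrix.ProjectiveSpecialLinearGroup (Fin 2) F)) (hn : Fintype.card Ω = 28)
    {k : ℕ} (hk : 4 ≤ k) (h2k : 2 * k ≤ Fintype.card Ω + 1) (h : Hom G Ω k) : Homog G Ω (k - 1) := by
  have := A.finG
  obtain ⟨e⟩ := e
  have hcard : Nat.card G ≤ 1512 := by
    have h1 := Cfsg.Agent.H436.TT.card_dvd_aut A
    have : Fact (Nat.Prime 2) := ⟨Nat.prime_two⟩
    rw [Cfsg.Agent.H436.TT.card_mulAut_congr e, Cfsg.Agent.S0813.result 2 3 (by norm_num) (by rw [hF]; norm_num) 2
      le_rfl (by norm_num), Cfsg.Agent.ClassicalGeometry.PSL2Basic.card_PGL2, hF] at h1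
    exact Nat.le_of_dvd (by norm_num) h1
  refine of_bounds A hk h2k h ?_ ?_ ?_
  · rintro rfl
    have h1 := homog_of_dvd_card (p := 2) (a := 2) A Nat.prime_two h (Or.inl (by rw [hn]; norm_num))
    exact h1
  · rintro rfl
    by_contra hnot
    have := bound_five h (by omega) hnot
    rw [hn, show Nat.choose 28 4 = 20475 by decide] at this
    omega
  · rw [hn, show Nat.choose 28 5 = 98280 by decide]
    omega

/-! ### `Sz(q)` -/

theorem sz (A : AS G Ω T) {F : Type} [Field F] [Fintype F] {m : ℕ} (hm : 1 ≤ m)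
    (hF : Fintype.card F = 2 ^ (2 * m + 1)) (e : Nonempty (↥T ≃* ↥(Cfsg.Lie.Sz F (2 ^ (m + 1)))))
    (hn : Fintype.card Ω = Fintype.card F ^ 2 + 1)
    {k : ℕ} (hk : 4 ≤ k) (h2k : 2 * k ≤ Fintype.card Ω + 1) (h : Hom G Ω k) : Homog G Ω (k - 1) := by
  obtain ⟨e⟩ := e
  have := A.finG
  have hfX : Finite ↥(Cfsg.Lie.Sz F (2 ^ (m + 1))) := Finite.of_equiv _ e.toEquiv
  have h1 := card_le_out A e
  rw [Cfsg.Agent.S2126.result hm hF, (Cfsg.Agent.S1163.result hm hF).1] at h1
  set q := 2 ^ (2 * m + 1) with hq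
  have hq8 : 8 ≤ q := by
    calc 8 = 2 ^ 3 := by norm_num
      _ ≤ _ := Nat.pow_le_pow_right (by norm_num) (by omega)
  have hmq : 2 * m + 1 ≤ q := Nat.lt_two_pow_self.le
  rw [hF] at hn
  have hsq : q ^ 2 = q * q := sq q
  refine of_bounds A hk h2k h ?_ ?_ ?_
  · rintro rfl
    have h2 := homog_of_dvd_card (p := 2) (a := 2) A Nat.prime_two h (Or.inr (by
      rw [hn, Nat.add_sub_cancel, hq, ← pow_mul]
      exact pow_dvd_pow 2 (by omega)))
    exact h2
  · rintro rfl
    have h5 : 5 ∣ q ^ 2 + 1 := by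
      have h6 : q ^ 2 = 4 * 16 ^ m := by
        rw [hq, ← pow_mul, show (2 * m + 1) * 2 = 2 + 4 * m by ring, pow_add, pow_mul]
        norm_num
      rw [h6]
      have : 16 ^ m % 5 = 1 := by
        rw [Nat.pow_mod]
        norm_num
      omega
    have h2 := homog_of_dvd_card (p := 5) (a := 1) A (by norm_num) (by simpa using h) (Or.inl (by
      rw [hn, pow_one]; exact h5))
    simpa using h2
  · rw [hn]
    refine num_five (B := q * (q - 1)) (h1.trans ?_) (by linarith only [hk, h2k, hn]) ?_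
    · calc (2 * m + 1) * (q ^ 2 * (q - 1) * (q ^ 2 + 1)) ≤ q * (q ^ 2 * (q - 1) * (q ^ 2 + 1)) :=
          Nat.mul_le_mul_right _ hmq
        _ = _ := by ring
    · clear_value q
      obtain ⟨t, rfl⟩ : ∃ t, q = t + 8 := ⟨q - 8, by omega⟩
      have e1 : t + 8 - 1 = t + 7 := by omega
      have e2 : (t + 8) ^ 2 - 1 = t ^ 2 + 16 * t + 63 := by rw [show (t + 8) ^ 2 = t ^ 2 + 16 * t + 64 by ring]; omega
      have e3 : (t + 8) ^ 2 - 2 = t ^ 2 + 16 * t + 62 := by rw [show (t + 8) ^ 2 = t ^ 2 + 16 * t + 64 by ring]; (clear * -; omega)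
      have e4 : (t + 8) ^ 2 - 3 = t ^ 2 + 16 * t + 61 := by rw [show (t + 8) ^ 2 = t ^ 2 + 16 * t + 64 by ring]; (clear * -; omega)
      rw [e1, e2, e3, e4]
      have f1 : 600 * ((t + 8) * (t + 7)) ≤ 600 * (t ^ 2 + 16 * t + 63) := by linarith only []
      have f2 : 63 ≤ t ^ 2 + 16 * t + 63 := by omega
      have f3 : 61 * 61 ≤ (t ^ 2 + 16 * t + 62) * (t ^ 2 + 16 * t + 61) :=
        Nat.mul_le_mul (by omega) (by omega)
      have f4 := Nat.mul_le_mul_left (t ^ 2 + 16 * t + 63) f3
      have f5 : (t ^ 2 + 16 * t + 63) * ((t ^ 2 + 16 * t + 62) * (t ^ 2 + 16 * t + 61)) =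
        (t ^ 2 + 16 * t + 63) * (t ^ 2 + 16 * t + 62) * (t ^ 2 + 16 * t + 61) := by ring
      (clear * - f1 f4 f5; omega)

/-! ### `²G₂(q)` -/

theorem ree (A : AS G Ω T) {K : Type} [Field K] [Fintype K] {m : ℕ} (hm : 1 ≤ m)
    (hK : Fintype.card K = 3 ^ (2 * m + 1)) (e : Nonempty (↥T ≃* ↥(Cfsg.Lie.twistedG2 K (3 ^ m))))
    (hn : Fintype.card Ω = Fintype.card K ^ 3 + 1)
    {k : ℕ} (hk : 4 ≤ k) (h2k : 2 * k ≤ Fintype.card Ω + 1) (h : Hom G Ω k) : Homog G Ω (k - 1) := by
  obtain ⟨e⟩ := e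
  have := A.finG
  have hfX : Finite ↥(Cfsg.Lie.twistedG2 K (3 ^ m)) := Finite.of_equiv _ e.toEquiv
  have h1 := card_le_out A e
  rw [Cfsg.Agent.S2127.result hm hK, Cfsg.Agent.S1069.result hK] at h1
  set q := 3 ^ (2 * m + 1) with hq
  have hq27 : 27 ≤ q := by
    calc 27 = 3 ^ 3 := by norm_num
      _ ≤ _ := Nat.pow_le_pow_right (by norm_num) (by omega)
  have hmq : 2 * m + 1 ≤ q := (Nat.lt_pow_self (by norm_num)).le
  rw [hK] at hn
  have hB : Nat.card G ≤ q * (q - 1) * (q ^ 3 * (q ^ 3 + 1)) := by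
    refine h1.trans ?_
    calc (2 * m + 1) * (q ^ 3 * (q - 1) * (q ^ 3 + 1)) ≤ q * (q ^ 3 * (q - 1) * (q ^ 3 + 1)) :=
          Nat.mul_le_mul_right _ hmq
      _ = _ := by ring
  have hx : 27 * q ^ 2 ≤ q ^ 3 := by
    rw [pow_succ q 2, mul_comm]
    exact Nat.mul_le_mul_left _ hq27
  have hB1 : q * (q - 1) ≤ q ^ 2 := by
    rw [sq]; exact Nat.mul_le_mul_left _ (by omega)
  have hq2 : 729 ≤ q ^ 2 := by nlinarith only [hq27]
  refine of_bounds A hk h2k h ?_ ?_ ?_
  · rintro rfl
    have h4 : 4 ∣ q ^ 3 + 1 := by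
      have h6 : q ^ 3 = 27 * 729 ^ m := by
        rw [hq, ← pow_mul, show (2 * m + 1) * 3 = 3 + 6 * m by ring, pow_add, pow_mul]
        norm_num
      rw [h6]
      have : 729 ^ m % 4 = 1 := by
        rw [Nat.pow_mod]
        norm_num
      omega
    have h2 := homog_of_dvd_card (p := 2) (a := 2) A Nat.prime_two h (Or.inl (by rw [hn]; exact h4))
    exact h2
  · rintro rfl
    by_contra hnot
    have h5 := bound_five h (by rw [hn]; omega) hnot
    rw [hn] at h5
    have h6 := num_four (x := q ^ 3) hB (by omega) (by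
      have e1 : 26 * q ^ 2 ≤ q ^ 3 - 1 := by omega
      have e2 : 26 * q ^ 2 ≤ q ^ 3 - 2 := by omega
      have e3 := Nat.mul_le_mul e1 e2
      nlinarith only [hB1, hq2, e3])
    omega
  · rw [hn]
    refine num_five (x := q ^ 3) hB (by omega) ?_
    have e1 : 26 * q ^ 2 ≤ q ^ 3 - 1 := by omega
    have e2 : 26 * q ^ 2 ≤ q ^ 3 - 2 := by omega
    have e4 : 26 * q ^ 2 ≤ q ^ 3 - 3 := by omega
    have e3 := Nat.mul_le_mul (Nat.mul_le_mul e1 e2) e4
    have e5 : 600 * (q * (q - 1)) < 26 * q ^ 2 * (26 * q ^ 2) * (26 * q ^ 2) := by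
      have : 26 * q ^ 2 * (26 * q ^ 2) * (26 * q ^ 2) = q ^ 2 * (17576 * (q ^ 2 * q ^ 2)) := by ring
      rw [this]
      have : 1 ≤ q ^ 2 * q ^ 2 := by nlinarith only [hq2]
      nlinarith only [hB1, this]
    omega

/-! ### `PSU₃(q)` -/

theorem two_mul_le_two_pow {f : ℕ} (hf : 0 < f) : 2 * f ≤ 2 ^ f := by
  obtain ⟨t, rfl⟩ : ∃ t, f = t + 1 := ⟨f - 1, by omega⟩
  have : t < 2 ^ t := Nat.lt_two_pow_self
  rw [pow_succ]; omega

open scoped Pointwise in
theorem zpowers_smul_eq {y : G} {I : Finset Ω} (h : ∀ x ∈ I, y • x ∈ I) :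
    ∀ g ∈ Subgroup.zpowers y, g • I = I := by
  have h1 : y • I = I := by
    apply Finset.eq_of_subset_of_card_le
    · exact smul_subset_iff.2 h
    · rw [Finset.card_smul_finset]
  have h2 : y ∈ stabilizer G I := h1
  intro g hg
  exact (Subgroup.zpowers_le.2 h2) hg

open scoped Pointwise in
/-- a fixed point and an orbit of length 3 -/
theorem exists_three_one [FaithfulSMul G Ω] {y : G} (hy : orderOf y = 3) (hn : Fintype.card Ω % 3 = 1) :
    ∃ I : Finset Ω, I.card = 4 ∧ ∀ g ∈ Subgroup.zpowers y, g • I = I := by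
  have : Fact (Nat.Prime 3) := ⟨Nat.prime_three⟩
  have hy1 : y ≠ 1 := by rintro rfl; rw [orderOf_one] at hy; omega
  have hy3 : y ^ 3 = 1 := by rw [← hy]; exact pow_orderOf_eq_one y
  obtain ⟨x, hx⟩ : ∃ x : Ω, y • x ≠ x := by
    by_contra hcon
    push Not at hcon
    exact hy1 (eq_of_smul_eq_smul (fun x : Ω => by rw [hcon x, one_smul]))
  have hp : IsPGroup 3 (Subgroup.zpowers y) := by
    apply IsPGroup.of_card (n := 1)
    rw [Nat.card_zpowers, hy, pow_one]
  obtain ⟨a, ha⟩ := hp.nonempty_fixed_point_of_prime_not_dvd_card Ω (by rw [Nat.card_eq_fintype_card]; omega)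
  have hya : y • a = a := ha ⟨y, Subgroup.mem_zpowers y⟩
  have h3 : y • y • y • x = x := by
    have h : y • y • y • x = (y ^ 3) • x := by
      rw [pow_succ, pow_two, mul_smul, mul_smul]
    rw [h, hy3, one_smul]
  have hne1 : y • y • x ≠ x := by
    intro h
    rw [h] at h3
    exact hx h3
  have hax : a ≠ x := by rintro rfl; exact hx hya
  have hax1 : a ≠ y • x := by
    intro h
    rw [← hya] at h
    exact hax (smul_left_cancel y h)
  have hax2 : a ≠ y • y • x := by
    intro h
    rw [← hya] at h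
    exact hax1 (smul_left_cancel y h)
  refine ⟨{a, x, y • x, y • y • x}, ?_, zpowers_smul_eq ?_⟩
  · rw [Finset.card_insert_of_notMem, Finset.card_insert_of_notMem, Finset.card_insert_of_notMem,
      Finset.card_singleton]
    · rw [Finset.mem_singleton]
      intro h
      exact hx (smul_left_cancel y h).symm
    · rw [Finset.mem_insert, Finset.mem_singleton]
      rintro (h | h)
      · exact hx h.symm
      · exact hne1 h.symm
    · rw [Finset.mem_insert, Finset.mem_insert, Finset.mem_singleton]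
      rintro (h | h | h)
      · exact hax h
      · exact hax1 h
      · exact hax2 h
  · intro z hz
    simp only [Finset.mem_insert, Finset.mem_singleton] at hz ⊢
    rcases hz with rfl | rfl | rfl | rfl
    · exact Or.inl hya
    · exact Or.inr (Or.inr (Or.inl rfl))
    · exact Or.inr (Or.inr (Or.inr rfl))
    · exact Or.inr (Or.inl h3)

section element

variable {F : Type*} [Field F]

/-- the signed permutation matrix of order 4 -/
def wm (F : Type*) [Field F] : Matrix.SpecialLinearGroup (Fin 3) F :=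
  ⟨!![0, 1, 0; -1, 0, 0; 0, 0, 1], by simp [Matrix.det_fin_three]⟩

def wm' (F : Type*) [Field F] : Matrix.SpecialLinearGroup (Fin 3) F :=
  ⟨!![1, 0, 0; 0, 0, 1; 0, -1, 0], by simp [Matrix.det_fin_three]⟩

theorem wm_mem {q : ℕ} (hq : Odd q) : wm F ∈ Cfsg.SU 3 F q := by
  intro u v
  change Cfsg.hermForm 3 F q ((wm F).1.mulVec u) ((wm F).1.mulVec v) = _
  simp only [wm, Cfsg.hermForm, Matrix.mulVec, dotProduct, Fin.sum_univ_three, hq.neg_pow, _root_.Matrix.of_apply, _root_.Matrix.cons_val', _root_.Matrix.cons_val_fin_one, _root_.Fin.isValue, _root_.Matrix.cons_val_zero, _root_.Matrix.cons_val_one, _root_.Matrix.cons_val, _root_.MulZeroClass.zero_mul, _root_.one_mul, _root_.zero_add, _root_.add_zero, _root_.neg_mul, _root_.mul_neg, _root_.neg_neg, _root_.add_left_inj]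
  ring

theorem wm'_mem {q : ℕ} (hq : Odd q) : wm' F ∈ Cfsg.SU 3 F q := by
  intro u v
  change Cfsg.hermForm 3 F q ((wm' F).1.mulVec u) ((wm' F).1.mulVec v) = _
  simp only [wm', Cfsg.hermForm, Matrix.mulVec, dotProduct, Fin.sum_univ_three, hq.neg_pow, _root_.Matrix.of_apply, _root_.Matrix.cons_val', _root_.Matrix.cons_val_fin_one, _root_.Fin.isValue, _root_.Matrix.cons_val_zero, _root_.Matrix.cons_val_one, _root_.Matrix.cons_val, _root_.one_mul, _root_.MulZeroClass.zero_mul, _root_.add_zero, _root_.zero_add, _root_.neg_mul, _root_.mul_neg, _root_.neg_neg]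
  ring

theorem wm_sq : (wm F * wm F).1 = !![-1, 0, 0; 0, -1, 0; 0, 0, 1] := by
  rw [Matrix.SpecialLinearGroup.coe_mul]
  ext i j
  (revert i j; simp only [wm, Matrix.mul_apply, Fin.sum_univ_three, _root_.Fin.forall_fin_succ, _root_.Matrix.of_apply, _root_.Matrix.cons_val', _root_.Matrix.cons_val_fin_one, Fin.isValue, _root_.Matrix.cons_val_zero, _root_.Matrix.cons_val_one, _root_.Matrix.cons_val, _root_.MulZeroClass.mul_zero, _root_.mul_neg, _root_.mul_one, _root_.zero_add, _root_.add_zero, _root_.Matrix.cons_val_succ, _root_.implies_true, _root_.and_self, _root_.and_true, _root_.neg_zero])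

theorem wm_four : wm F ^ 4 = 1 := by
  have h : wm F ^ 4 = (wm F * wm F) * (wm F * wm F) := by
    rw [← sq, ← sq, ← pow_mul]
  rw [h]
  apply Subtype.ext
  rw [Matrix.SpecialLinearGroup.coe_mul, wm_sq]
  ext i j
  (revert i j; simp only [Matrix.mul_apply, Fin.sum_univ_three, _root_.Fin.forall_fin_succ, _root_.Matrix.of_apply, _root_.Matrix.cons_val', _root_.Matrix.cons_val_fin_one, Fin.isValue, _root_.Matrix.cons_val_zero, _root_.Matrix.cons_val_one, _root_.Matrix.cons_val, _root_.Matrix.SpecialLinearGroup.coe_one, _root_.mul_neg, _root_.mul_one, _root_.MulZeroClass.mul_zero, _root_.add_zero, _root_.Matrix.cons_val_succ, _root_.zero_add, _root_.IsEmpty.forall_iff, _root_.and_true, _root_.neg_neg, _root_.Matrix.one_apply_eq, _root_.neg_zero, Nat.reduceAdd, _root_.Fin.succ_zero_eq_one, _root_.ne_eq, _root_.zero_ne_one, _root_.not_false_eq_true, _root_.Matrix.one_apply_ne, _root_.Fin.succ_one_eq_two, Fin.reduceEq, _root_.and_self, _root_.Fin.succ_ne_zero, _root_.neg_eq_zero,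 _root_.true_and])

theorem not_comm (h2 : (2 : F) ≠ 0) : wm F * wm F * wm' F ≠ wm' F * (wm F * wm F) := by
  intro h
  have h1 := congrArg (fun A : Matrix.SpecialLinearGroup (Fin 3) F => A.1 1 2) h
  simp only [Matrix.SpecialLinearGroup.coe_mul (wm F * wm F), Matrix.SpecialLinearGroup.coe_mul (wm' F), wm_sq] at h1
  simp [wm', Matrix.mul_apply, Fin.sum_univ_three] at h1
  apply h2
  linear_combination -h1

theorem exists_order_four {q : ℕ} (hq : Odd q) (h2 : (2 : F) ≠ 0) : ∃ x : Cfsg.PSU 3 F q, orderOf x = 4 := by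
  let w : Cfsg.SU 3 F q := ⟨wm F, wm_mem hq⟩
  let w' : Cfsg.SU 3 F q := ⟨wm' F, wm'_mem hq⟩
  refine ⟨QuotientGroup.mk w, ?_⟩
  have : Fact (Nat.Prime 2) := ⟨Nat.prime_two⟩
  refine orderOf_eq_prime_pow (p := 2) (n := 1) ?_ ?_
  · intro h
    rw [pow_one, ← QuotientGroup.mk_pow, QuotientGroup.eq_one_iff, Subgroup.mem_center_iff] at h
    have h1 := congrArg Subtype.val (h w')
    apply not_comm (F := F) h2
    rw [sq] at h1
    exact h1.symm
  · rw [← QuotientGroup.mk_pow]
    have h1 : w ^ 2 ^ (1 + 1) = 1 := Subtype.ext wm_four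
    rw [h1]
    rfl

end element

theorem psu (A : AS G Ω T) {F : Type} [Field F] [Fintype F] {q : ℕ} (hq : 3 ≤ q)
    (hF : Fintype.card F = q ^ 2) (e : Nonempty (↥T ≃* Cfsg.PSU 3 F q))
    (hn : Fintype.card Ω = q ^ 3 + 1)
    {k : ℕ} (hk : 4 ≤ k) (h2k : 2 * k ≤ Fintype.card Ω + 1) (h : Hom G Ω k) : Homog G Ω (k - 1) := by
  obtain ⟨e⟩ := e
  have := A.finG
  have := A.faithful
  -- q is a prime power
  obtain ⟨p, f', hp, hf', hpf⟩ := (isPrimePow_nat_iff _).1 (FiniteField.isPrimePow_card F)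
  have hpp : IsPrimePow q := by
    have := FiniteField.isPrimePow_card F
    rw [hF] at this
    exact (isPrimePow_pow_iff (by norm_num)).mp this
  obtain ⟨p, f, hp, hf, hpf⟩ := (isPrimePow_nat_iff _).1 hpp
  have hfp : Fact p.Prime := ⟨hp⟩
  have h1 := Cfsg.Agent.H436.TT.card_dvd_aut A
  rw [Cfsg.Agent.H436.TT.card_mulAut_congr e, Cfsg.Agent.S0815.result p f hf hpf.symm hF 3 le_rfl (by omega)] at h1
  have h2 := Cfsg.Agent.S0280.result hF 3 (by norm_num)
  norm_num only [Finset.prod_range_succ, Nat.even_iff, _root_.Finset.range_one, _root_.Finset.prod_singleton, _root_.pow_one, _root_.ite_true, _root_.ite_false] at h2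
  have h3 : Nat.gcd 3 (q + 1) * (2 * f) * Nat.card (Cfsg.PSU 3 F q) = 2 * f * (q ^ 3 * ((q ^ 2 - 1) * (q ^ 3 + 1))) := by
    refine Nat.eq_of_mul_eq_mul_left (show 0 < q + 1 by omega) ?_
    calc (q + 1) * (Nat.gcd 3 (q + 1) * (2 * f) * Nat.card (Cfsg.PSU 3 F q)) =
        2 * f * (Nat.gcd 3 (q + 1) * ((q + 1) * Nat.card (Cfsg.PSU 3 F q))) := by ring
      _ = _ := by rw [h2]; ring
  rw [h3] at h1
  have hqsq : 9 ≤ q ^ 2 := by nlinarith only [hq]
  have hq3 : 27 ≤ q ^ 3 := by
    calc 27 = 3 ^ 3 := by norm_num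
      _ ≤ q ^ 3 := Nat.pow_le_pow_left hq 3
  have hle : Nat.card G ≤ 2 * f * (q ^ 3 * ((q ^ 2 - 1) * (q ^ 3 + 1))) := by
    refine Nat.le_of_dvd ?_ h1
    have : 0 < q ^ 2 - 1 := by omega
    (clear * - hq hf this; positivity)
  have hfq : 2 * f ≤ q := by
    rw [← hpf]
    calc 2 * f ≤ 2 ^ f := two_mul_le_two_pow hf
      _ ≤ p ^ f := Nat.pow_le_pow_left hp.two_le f
  have hB : Nat.card G ≤ q * (q ^ 2 - 1) * (q ^ 3 * (q ^ 3 + 1)) := by
    refine hle.trans ?_
    calc 2 * f * (q ^ 3 * ((q ^ 2 - 1) * (q ^ 3 + 1))) ≤ q * (q ^ 3 * ((q ^ 2 - 1) * (q ^ 3 + 1))) :=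
          Nat.mul_le_mul_right _ hfq
      _ = _ := by ring
  have hBx : q * (q ^ 2 - 1) ≤ q ^ 3 := by
    calc q * (q ^ 2 - 1) ≤ q * q ^ 2 := Nat.mul_le_mul_left _ (by omega)
      _ = _ := by ring
  refine of_bounds A hk h2k h ?_ ?_ ?_
  · rintro rfl
    rcases Nat.even_or_odd q with hev | hodd
    · have h4 : 2 ^ 2 ∣ q ^ 3 := by
        obtain ⟨t, ht⟩ := hev
        exact ⟨2 * t ^ 3, by rw [ht]; ring⟩
      exact homog_of_dvd_card (p := 2) (a := 2) A Nat.prime_two h (Or.inr (by rw [hn, Nat.add_sub_cancel]; exact h4))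
    · have h20 : (2 : F) ≠ 0 := (Cfsg.Agent.ClassicalGeometry.PSL2Basic.two_ne_zero_iff_odd F).2 (by
        rw [hF]; exact hodd.pow)
      obtain ⟨x, hx⟩ := exists_order_four (F := F) hodd h20
      have h5 : orderOf ((e.symm x : ↥T) : G) = 2 ^ (1 + 1) := by
        rw [Subgroup.orderOf_coe, ← MulEquiv.orderOf_eq e, e.apply_symm_apply, hx]
        norm_num
      exact homog_of_orderOf (p := 2) (a := 1) Nat.prime_two h h5
  · rintro rfl
    rcases (show q = 3 ∨ q = 4 ∨ 5 ≤ q by omega) with rfl | rfl | h5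
    · -- q = 3
      by_contra hnot
      have hf1 : f = 1 := by
        rcases Nat.lt_or_ge f 2 with h | h
        · omega
        · exfalso
          have h4 : 2 ^ 2 ≤ p ^ f := (Nat.pow_le_pow_left hp.two_le 2).trans (Nat.pow_le_pow_right hp.pos h)
          rw [hpf] at h4
          omega
      rw [hf1] at hle
      norm_num at hle
      have h3G : 3 ∣ Nat.card G := by
        have := Cfsg.Agent.H436.TT.mul_dvd_card A
        rw [Nat.card_eq_fintype_card (α := Ω), hn] at this
        exact (by norm_num : 3 ∣ (3 ^ 3 + 1) * (3 ^ 3 + 1 - 1)).trans this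
      have : Fact (Nat.Prime 3) := ⟨Nat.prime_three⟩
      obtain ⟨y, hy⟩ := exists_prime_orderOf_dvd_card' 3 h3G
      obtain ⟨I, hI, hI'⟩ := exists_three_one (Ω := Ω) hy (by rw [hn]; norm_num)
      have h6 := h.choose_mul_card_le (by norm_num) (by rw [hn]; norm_num) (Subgroup.zpowers y) hI hI'
      rw [Nat.card_zpowers, hy, hn] at h6
      norm_num only [Nat.choose, _root_.add_zero] at h6
      omega
    · -- q = 4
      have h2 := homog_of_dvd_card (p := 5) (a := 1) A (by norm_num) (by simpa using h) (Or.inl (by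
        rw [hn]; norm_num))
      simpa using h2
    · by_contra hnot
      have h6 := bound_five h (by rw [hn]; omega) hnot
      rw [hn] at h6
      have hq5 : 125 ≤ q ^ 3 := by
        calc 125 = 5 ^ 3 := by norm_num
          _ ≤ q ^ 3 := Nat.pow_le_pow_left h5 3
      have h7 := num_four (x := q ^ 3) hB (by omega) (by
        have e1 : 123 * (q ^ 3 - 2) ≤ (q ^ 3 - 1) * (q ^ 3 - 2) := Nat.mul_le_mul_right _ (by omega)
        omega)
      omega
  · rw [hn]
    refine num_five (x := q ^ 3) hB (by omega) ?_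
    rcases (show q = 3 ∨ 4 ≤ q by omega) with rfl | h4
    · norm_num
    · have hq4 : 64 ≤ q ^ 3 := by
        calc 64 = 4 ^ 3 := by norm_num
          _ ≤ q ^ 3 := Nat.pow_le_pow_left h4 3
      have e1 : 63 * 61 ≤ (q ^ 3 - 1) * (q ^ 3 - 3) := Nat.mul_le_mul (by omega) (by omega)
      have e2 := Nat.mul_le_mul_right (q ^ 3 - 2) e1
      have e3 : (q ^ 3 - 1) * (q ^ 3 - 3) * (q ^ 3 - 2) = (q ^ 3 - 1) * (q ^ 3 - 2) * (q ^ 3 - 3) := by ring
      omega

end Cfsg.Agent.H391.KRankOne
end

-- part: H391/KPslNum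
section
/-!
# Row `PSL_2(q)` of S3564: numbers (helper391)
-/

set_option autoImplicit false
set_option linter.unusedSectionVars false

namespace Cfsg.Agent.H391.KPslNum

open MulAction Cfsg.Agent.H397.KHom Cfsg.Agent.H384.TwoTrans Cfsg.Agent.H391.KOrb Cfsg.Agent.H391.KPslA
open scoped Pointwise

def ch (n j : ℕ) : ℕ := n.descFactorial j / j.factorial

theorem ch_eq (n j : ℕ) : ch n j = n.choose j := (Nat.choose_eq_descFactorial_div_factorial n j).symm

def syl (n k N : ℕ) : Bool :=
  [2, 3, 5].any fun p => (List.range 8).any fun a => (List.range 8).any fun b =>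
    decide (N % p ^ (a + b) = 0) &&
      ((decide (ch n (k - 1) % p ^ (b + 1) ≠ 0) || decide (ch n k % p ^ (b + 1) ≠ 0)) &&
        decide (k * N < ch n (k - 1) * p ^ a))

def chk6 (n k N : ℕ) : Bool :=
  (decide (k = 7 ∨ k = 11 ∨ k = 13 ∨ k = 17) && decide (N % k = 0)) ||
    ((List.range k).any fun j => decide (5 * N < ch n j)) || syl n k N

section sound

variable {G Ω : Type*} [Group G] [MulAction G Ω] [DecidableEq Ω] [Fintype Ω]

theorem syl_sound [Finite G] {k : ℕ} (h : Hom G Ω k) (hk : 1 ≤ k) (hn : k ≤ Fintype.card Ω)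
    (hs : syl (Fintype.card Ω) k (Nat.card G) = true) : False := by
  simp only [syl, List.any_eq_true, Bool.and_eq_true, Bool.or_eq_true, decide_eq_true_eq] at hs
  obtain ⟨p, hp, a, -, b, -, h1, h2, h3⟩ := hs
  have hpp : p.Prime := by
    simp only [List.mem_cons, List.not_mem_nil, or_false] at hp
    rcases hp with rfl | rfl | rfl <;> norm_num
  rw [ch_eq, ch_eq] at h2
  rw [ch_eq] at h3
  have h4 : (Fintype.card Ω).choose (k - 1) * p ^ a ≤ k * Nat.card G := by
    rcases h2 with h2 | h2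
    · exact sylow_trick h hk hn (Or.inl rfl) hpp (Nat.dvd_of_mod_eq_zero h1)
        (fun h0 => h2 (Nat.mod_eq_zero_of_dvd h0))
    · exact sylow_trick h hk hn (Or.inr rfl) hpp (Nat.dvd_of_mod_eq_zero h1)
        (fun h0 => h2 (Nat.mod_eq_zero_of_dvd h0))
  omega

theorem homog_dvd {j : ℕ} (h : Homog G Ω j) (hj : j ≤ Fintype.card Ω) :
    (Fintype.card Ω).choose j ∣ Nat.card G := by
  have h1 := homog_iff_pretransitive.1 h
  have h2 : Nat.card (Set.powersetCard Ω j) = (Fintype.card Ω).choose j := by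
    rw [Set.powersetCard.card, Nat.card_eq_fintype_card]
  obtain ⟨I, -, hI⟩ := Finset.exists_subset_card_eq (s := (Finset.univ : Finset Ω))
        (n := j) (by rw [Finset.card_univ]; omega)
  rw [← h2, ← index_stabilizer_of_transitive G (⟨I, hI⟩ : Set.powersetCard Ω j)]
  exact Subgroup.index_dvd_card _

theorem bound' [Finite G] {k : ℕ} (h : Hom G Ω k) (hk : 6 ≤ k) (hn : 2 * k ≤ Fintype.card Ω + 1)
    (hnot : ¬ Homog G Ω (k - 1)) : (Fintype.card Ω).choose 5 ∣ Nat.card G ∨
      ∀ j ≤ k - 1, (Fintype.card Ω).choose j ≤ 5 * Nat.card G := by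
  obtain ⟨s, hs3, hsk, hs1, hs2, hmono, -⟩ := h.exists_level (by omega) hn (by omega) hnot
  by_cases h5 : s ≤ 5
  · right
    intro j hj
    refine (choose_le_numOrb_mul j).trans (Nat.mul_le_mul_right _ ((hmono j hj).trans h5))
  · left
    have h6 : Homog G Ω 5 := hs1.mono (by omega) (by omega)
    exact homog_dvd h6 (by omega)

theorem chk6_sound [Finite G] [FaithfulSMul G Ω] {k : ℕ} (h : Hom G Ω k) (hk : 6 ≤ k)
    (hn : 2 * k ≤ Fintype.card Ω + 1) (hd : Nat.card G % ch (Fintype.card Ω) 5 ≠ 0)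
    (hs : chk6 (Fintype.card Ω) k (Nat.card G) = true) : Homog G Ω (k - 1) := by
  simp only [chk6, Bool.or_eq_true, Bool.and_eq_true, decide_eq_true_eq, List.any_eq_true, List.mem_range] at hs
  rcases hs with (⟨h1, h2⟩ | ⟨j, hj, h1⟩) | h1
  · refine homog_of_prime_dvd ?_ h (Nat.dvd_of_mod_eq_zero h2)
    rcases h1 with rfl | rfl | rfl | rfl <;> norm_num
  · by_contra hnot
    rcases bound' h hk hn hnot with h2 | h2
    · rw [ch_eq] at hd
      exact hd (Nat.mod_eq_zero_of_dvd h2)
    · have := h2 j (by omega)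
      rw [ch_eq] at h1
      omega
  · exact absurd h1 (fun h1 => syl_sound h (by omega) (by omega) h1)

end sound

/-- the relevant `(q, gcd(2, q-1), f)` -/
def lst : List (ℕ × ℕ × ℕ) :=
  [(11, 2, 1), (13, 2, 1), (16, 1, 4), (17, 2, 1), (19, 2, 1), (23, 2, 1), (25, 2, 2), (27, 2, 3), (32, 1, 5)]

def numB6 (x : ℕ × ℕ × ℕ) (k d : ℕ) : Bool :=
  decide (k < 6) || decide (x.1 + 2 < 2 * k) || decide (d = 0) || decide ((x.2.1 * x.2.2) % d ≠ 0) ||
    decide (x.1 = 11 ∧ k = 6) || decide (x.1 = 16 ∧ k = 7) ||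
      (decide ((d * (x.1 * (x.1 ^ 2 - 1) / x.2.1)) % ch (x.1 + 1) 5 ≠ 0) &&
        chk6 (x.1 + 1) k (d * (x.1 * (x.1 ^ 2 - 1) / x.2.1)))

theorem num6_dec : (lst.all fun x => (List.range 18).all fun k => (List.range 7).all fun d => numB6 x k d) = true := by
  decide +kernel

theorem num6 {x : ℕ × ℕ × ℕ} (hx : x ∈ lst) {k : ℕ} (hk : k < 18) (h6 : 6 ≤ k) (h2k : 2 * k ≤ x.1 + 2) {d : ℕ}
    (hd : d < 7) (hd0 : d ≠ 0) (hdd : (x.2.1 * x.2.2) % d = 0) :
    ((x.1 = 11 ∧ k = 6) ∨ (x.1 = 16 ∧ k = 7) ∨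
      ((d * (x.1 * (x.1 ^ 2 - 1) / x.2.1)) % ch (x.1 + 1) 5 ≠ 0 ∧
        chk6 (x.1 + 1) k (d * (x.1 * (x.1 ^ 2 - 1) / x.2.1)) = true)) := by
  have h := num6_dec
  rw [List.all_eq_true] at h
  have h := h x hx
  rw [List.all_eq_true] at h
  have h := h k (List.mem_range.2 hk)
  rw [List.all_eq_true] at h
  have h := h d (List.mem_range.2 hd)
  simp only [numB6, Bool.or_eq_true, Bool.and_eq_true, decide_eq_true_eq] at h
  rcases h with (((((h | h) | h) | h) | h) | h) | h
  · omega
  · omega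
  · exact absurd h hd0
  · exact absurd hdd h
  · exact Or.inl h
  · exact Or.inr (Or.inl h)
  · exact Or.inr (Or.inr h)

def isP (p : ℕ) : Bool := decide (2 ≤ p) && (List.range p).all (fun m => decide (m < 2) || decide (p % m ≠ 0))

theorem isP_of {p : ℕ} (hp : p.Prime) : isP p = true := by
  simp only [isP, Bool.and_eq_true, decide_eq_true_eq, List.all_eq_true, List.mem_range, Bool.or_eq_true]
  refine ⟨hp.two_le, fun m hm => ?_⟩
  by_cases h : m < 2
  · exact Or.inl h
  · right
    intro h0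
    rcases (Nat.dvd_prime hp).1 (Nat.dvd_of_mod_eq_zero h0) with h1 | h1 <;> omega

theorem class6_dec : ((List.range 6).all fun f => (List.range 58).all fun p =>
    decide (f = 0) || !(isP p) || decide (p ^ f < 10) || decide (600 * f < (p ^ f - 2) * (p ^ f - 3)) ||
      decide ((p ^ f, Nat.gcd 2 (p ^ f - 1), f) ∈ lst)) = true := by
  decide +kernel

theorem two_pow_ge {f : ℕ} (hf : 6 ≤ f) : 10 * f + 4 ≤ 2 ^ f := by
  induction f, hf using Nat.le_induction with
  | base => norm_num
  | succ f hf ih => rw [pow_succ]; omega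

theorem class6 {p f q : ℕ} (hp : p.Prime) (hf : 1 ≤ f) (hq : q = p ^ f) (h10 : 10 ≤ q)
    (h : (q - 2) * (q - 3) ≤ 600 * f) : (q, Nat.gcd 2 (q - 1), f) ∈ lst := by
  have h2f : 2 ^ f ≤ q := by rw [hq]; exact Nat.pow_le_pow_left hp.two_le f
  have hf6 : f < 6 := by
    by_contra hcon
    have h1 := two_pow_ge (f := f) (by omega)
    have h2 : 64 ≤ q := by
      have : (2 : ℕ) ^ 6 ≤ 2 ^ f := Nat.pow_le_pow_right (by norm_num) (by omega)
      norm_num at this
      omega
    have h3 : 62 * (10 * f + 1) ≤ (q - 2) * (q - 3) := Nat.mul_le_mul (by omega) (by omega)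
    omega
  have hq58 : q < 58 := by
    by_contra hcon
    have h3 : 56 * 55 ≤ (q - 2) * (q - 3) := Nat.mul_le_mul (by omega) (by omega)
    omega
  have hpq : p ≤ q := by rw [hq]; exact Nat.le_self_pow (by omega) p
  subst hq
  have h1 := class6_dec
  rw [List.all_eq_true] at h1
  have h1 := h1 f (List.mem_range.2 hf6)
  rw [List.all_eq_true] at h1
  have h1 := h1 p (List.mem_range.2 (by omega))
  simp only [Bool.or_eq_true, decide_eq_true_eq, isP_of hp, Bool.not_true, Bool.false_eq_true, or_false] at h1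
  rcases h1 with ((h1 | h1) | h1) | h1
  · omega
  · omega
  · omega
  · exact h1

theorem class5_dec : ((List.range 8).all fun f => (List.range 212).all fun p =>
    decide (f = 0) || !(isP p) || decide (p ^ f < 8) || decide (30 * f + 2 ≤ p ^ f) ||
      decide (p ^ f * ((p ^ f) ^ 2 - 1) % 5 = 0) ||
      decide ((p ^ f, f) ∈ [(8, 3), (13, 1), (17, 1), (23, 1), (27, 3), (32, 5), (128, 7)])) = true := by
  decide +kernel

theorem two_pow_ge5 {f : ℕ} (hf : 8 ≤ f) : 30 * f + 2 ≤ 2 ^ f := by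
  induction f, hf using Nat.le_induction with
  | base => norm_num
  | succ f hf ih => rw [pow_succ]; omega

theorem class5 {p f q : ℕ} (hp : p.Prime) (hf : 1 ≤ f) (hq : q = p ^ f) (h8 : 8 ≤ q)
    (h : q < 30 * f + 2) (h5 : ¬ 5 ∣ q * (q ^ 2 - 1)) :
    (q, f) ∈ [(8, 3), (13, 1), (17, 1), (23, 1), (27, 3), (32, 5), (128, 7)] := by
  have h2f : 2 ^ f ≤ q := by rw [hq]; exact Nat.pow_le_pow_left hp.two_le f
  have hf8 : f < 8 := by
    by_contra hcon
    have h1 := two_pow_ge5 (f := f) (by omega)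
    omega
  have hpq : p ≤ q := by rw [hq]; exact Nat.le_self_pow (by omega) p
  subst hq
  have h1 := class5_dec
  rw [List.all_eq_true] at h1
  have h1 := h1 f (List.mem_range.2 hf8)
  rw [List.all_eq_true] at h1
  have h1 := h1 p (List.mem_range.2 (by omega))
  simp only [Bool.or_eq_true, decide_eq_true_eq, isP_of hp, Bool.not_true, Bool.false_eq_true, or_false] at h1
  rcases h1 with (((h1 | h1) | h1) | h1) | h1
  · omega
  · omega
  · omega
  · exact absurd (Nat.dvd_of_mod_eq_zero h1) h5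
  · exact h1

/-- the case `k = 5`, `q = 23`: Sylow -/
theorem num23 : ∀ d < 3, d ≠ 0 → syl 24 5 (d * 6072) = true := by decide +kernel

end Cfsg.Agent.H391.KPslNum
end

-- part: H391/KPslC
section
/-!
# Row `PSL_2(q)` of S3564: abstract special cases (helper391)
-/

set_option autoImplicit false
set_option linter.unusedSectionVars false

namespace Cfsg.Agent.H391.KPslC

open MulAction Cfsg.Agent.H397.KHom Cfsg.Agent.H384.TwoTrans Cfsg.Agent.H391.KOrb Cfsg.Agent.H391.KPslA
open scoped Pointwise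

variable {G Ω : Type*} [Group G] [MulAction G Ω] [DecidableEq Ω] [Fintype Ω] {T : Subgroup G}

theorem stab_mem {g : G} {I : Finset Ω} (h : ∀ x ∈ I, g • x ∈ I) : g • I = I :=
  Finset.eq_of_subset_of_card_le (smul_subset_iff.2 h) (by rw [Finset.card_smul_finset])

/-- nine points -/
theorem homog_nine [Finite G] (hfix : ∀ t ∈ T, t ≠ 1 → {x : Ω | t • x = x}.ncard ≤ 2)
    (hn : Fintype.card Ω = 9) (hT : Nat.card ↥T = 504) : Homog G Ω 4 := by
  classical
  have key : ∀ I : Finset Ω, I.card = 4 → Nat.card ↥(T ⊓ stabilizer G I) ≤ 4 := by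
    intro I hI
    obtain ⟨a, ha⟩ : ∃ a, a ∈ I := Finset.card_pos.1 (by omega)
    have h1 : (T ⊓ stabilizer G I) ⊓ stabilizer G a = ⊥ := by
      by_contra hcon
      have hne : Nat.card ↥((T ⊓ stabilizer G I) ⊓ stabilizer G a) ≠ 1 := by
        intro h
        exact hcon (Subgroup.card_eq_one.1 h)
      obtain ⟨p, hp, hpd⟩ := Nat.exists_prime_and_dvd hne
      have hfp : Fact p.Prime := ⟨hp⟩
      obtain ⟨⟨g, hgm⟩, hg⟩ := exists_prime_orderOf_dvd_card' p hpd
      rw [Subgroup.orderOf_mk] at hg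
      rw [Subgroup.mem_inf, Subgroup.mem_inf, mem_stabilizer_iff, mem_stabilizer_iff] at hgm
      obtain ⟨⟨hgT, hgI⟩, hga⟩ := hgm
      have hg1 : g ≠ 1 := by
        rintro rfl
        rw [orderOf_one] at hg
        exact hp.one_lt.ne hg
      have hgp : g ^ p = 1 := by rw [← hg, pow_orderOf_eq_one]
      have h2 := hfix g hgT hg1
      have h3 := ncard_fix_mod (Ω := Ω) hgp
      rw [Nat.card_eq_fintype_card, hn] at h3
      have hst : ∀ x ∈ I.erase a, g • x ∈ I.erase a := by
        intro x hx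
        rw [Finset.mem_erase] at hx ⊢
        refine ⟨fun h => hx.1 ?_, ?_⟩
        · rw [← hga] at h
          exact smul_left_cancel g h
        · rw [← hgI]
          exact Finset.smul_mem_smul_finset hx.2
      have h4 := fix_mod hgp (I.erase a) hst
      rw [Finset.card_erase_of_mem ha, hI] at h4
      obtain ⟨c3, hc3⟩ : ∃ c3, ((I.erase a).filter (fun x => g • x = x)).card = c3 := ⟨_, rfl⟩
      obtain ⟨c, hc⟩ : ∃ c, {x : Ω | g • x = x}.ncard = c := ⟨_, rfl⟩
      have h5 : c3 + 1 ≤ c := by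
        rw [← hc, ← hc3]
        have h6 : insert a ((I.erase a).filter (fun x => g • x = x)) ⊆
            Finset.univ.filter (fun x => g • x = x) := by
          intro x hx
          rw [Finset.mem_insert] at hx
          rcases hx with rfl | hx
          · simp [hga]
          · simp only [(Finset.mem_filter.1 hx).2, _root_.Finset.mem_filter, _root_.Finset.mem_univ, _root_.and_self]
        have h7 := Finset.card_le_card h6
        rw [Finset.card_insert_of_notMem (by simp)] at h7
        rwa [Set.ncard_eq_toFinset_card', Set.toFinset_ofPred]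
      rw [hc3] at h4
      rw [hc] at h2 h3
      have h8 : c3 = 0 ∨ c3 = 1 := by omega
      rcases h8 with rfl | rfl
      · have h9 : p ∣ 3 := by
          have := (Nat.modEq_zero_iff_dvd.1 h4)
          simpa using this
        rw [Nat.prime_dvd_prime_iff_eq hp Nat.prime_three] at h9
        subst h9
        have h10 : c = 1 ∨ c = 2 := by omega
        rcases h10 with rfl | rfl <;> simp [Nat.ModEq] at h3
      · have h9 : p ∣ 2 := by
          have := (Nat.modEq_iff_dvd' (by norm_num)).1 h4.symm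
          simpa using this
        rw [Nat.prime_dvd_prime_iff_eq hp Nat.prime_two] at h9
        subst h9
        have h10 : c = 2 := by omega
        subst h10
        simp [Nat.ModEq] at h3
    have h2 := ncard_orbit_mul (T ⊓ stabilizer G I) a
    rw [h1, Subgroup.card_bot, mul_one] at h2
    rw [← h2]
    have h3 : orbit ↥(T ⊓ stabilizer G I) a ⊆ (I : Set Ω) := by
      rintro _ ⟨⟨g, hgT, hgI⟩, rfl⟩
      have hgI' : g • I = I := hgI
      change g • a ∈ (I : Set Ω)
      rw [Finset.mem_coe, ← hgI']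
      exact Finset.smul_mem_smul_finset ha
    have h4 := Set.ncard_le_ncard h3 (Set.toFinite _)
    rwa [Set.ncard_coe_finset, hI] at h4
  refine homog_of_exists fun I J hI hJ => ?_
  have h1 := ncard_orbit_mul T I
  rw [hT] at h1
  have h2 := key I hI
  have h3 : 126 ≤ (orbit T I).ncard := by
    by_contra hcon
    push Not at hcon
    have : (orbit T I).ncard * Nat.card ↥(T ⊓ stabilizer G I) ≤ 125 * 4 := Nat.mul_le_mul (by omega) h2
    omega
  have h4 : orbit T I ⊆ ((Finset.powersetCard 4 (Finset.univ : Finset Ω) : Finset (Finset Ω)) : Set (Finset Ω)) := by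
    rintro _ ⟨g, rfl⟩
    rw [Finset.mem_coe, Finset.mem_powersetCard_univ]
    change ((g : G) • I).card = 4
    rw [Finset.card_smul_finset, hI]
  have h5 : orbit T I = ((Finset.powersetCard 4 (Finset.univ : Finset Ω) : Finset (Finset Ω)) : Set (Finset Ω)) := by
    refine Set.eq_of_subset_of_ncard_le h4 ?_ (Set.toFinite _)
    rw [Set.ncard_coe_finset, Finset.card_powersetCard, Finset.card_univ, hn]
    exact h3
  have h6 : J ∈ orbit T I := by
    rw [h5, Finset.mem_coe, Finset.mem_powersetCard_univ]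
    exact hJ
  obtain ⟨g, hg⟩ := h6
  exact ⟨g, hg⟩

/-- number of elements with exactly one fixed point -/
theorem card_one_fix [Finite G] [IsPretransitive ↥T Ω]
    (hfix : ∀ t ∈ T, t ≠ 1 → {x : Ω | t • x = x}.ncard ≤ 2) (hn : 2 ≤ Fintype.card Ω) :
    {t : G | t ∈ T ∧ {x : Ω | t • x = x}.ncard = 1}.ncard ≤ Fintype.card Ω * (Fintype.card Ω - 2) := by
  classical
  have := Fintype.ofFinite ↥T
  have hne : Nonempty Ω := Fintype.card_pos_iff.1 (by omega)
  have i1 : ∀ t : ↥T, Fintype (fixedBy Ω t) := fun t => Fintype.ofFinite _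
  have i2 : ∀ t : ↥T, Fintype (fixedBy (Ω × Ω) t) := fun t => Fintype.ofFinite _
  have i3 : Fintype (Quotient (orbitRel ↥T Ω)) := Fintype.ofFinite _
  have i4 : Fintype (Quotient (orbitRel ↥T (Ω × Ω))) := Fintype.ofFinite _
  have h1 := sum_card_fixedBy_eq_card_orbits_mul_card_group ↥T Ω
  have h2 := sum_card_fixedBy_eq_card_orbits_mul_card_group ↥T (Ω × Ω)
  let fx : ↥T → ℕ := fun t => Fintype.card (fixedBy Ω t)
  have hfx : ∀ t : ↥T, fx t = {x : Ω | (t : G) • x = x}.ncard := by
    intro t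
    change Fintype.card (fixedBy Ω t) = _
    rw [← Nat.card_eq_fintype_card, Nat.card_coe_set_eq]
    rfl
  have hfx2 : ∀ t : ↥T, Fintype.card (fixedBy (Ω × Ω) t) = fx t * fx t := by
    intro t
    change _ = Fintype.card (fixedBy Ω t) * Fintype.card (fixedBy Ω t)
    rw [← Fintype.card_prod]
    refine Fintype.card_congr ⟨fun x => (⟨x.1.1, congrArg Prod.fst x.2⟩, ⟨x.1.2, congrArg Prod.snd x.2⟩),
      fun y => ⟨(y.1.1, y.2.1), Prod.ext y.1.2 y.2.2⟩, fun x => rfl, fun y => rfl⟩
  have h3 : Fintype.card (Quotient (orbitRel ↥T Ω)) = 1 := by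
    rw [Fintype.card_eq_one_iff_nonempty_unique]
    refine ⟨⟨⟨Quotient.mk'' (Classical.arbitrary Ω)⟩, fun q => ?_⟩⟩
    induction q using Quotient.inductionOn' with
    | h y =>
      apply Quotient.sound'
      obtain ⟨g, hg⟩ := exists_smul_eq ↥T (Classical.arbitrary Ω) y
      exact ⟨g, hg⟩
  have h4 : 2 ≤ Fintype.card (Quotient (orbitRel ↥T (Ω × Ω))) := by
    obtain ⟨a, b, hab⟩ := (Fintype.one_lt_card_iff.1 (show 1 < Fintype.card Ω by omega))
    change 1 < _
    rw [Fintype.one_lt_card_iff]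
    refine ⟨Quotient.mk'' (a, a), Quotient.mk'' (a, b), fun h => hab ?_⟩
    obtain ⟨g, hg⟩ := Quotient.exact' h
    have hg1 : g • a = a := congrArg Prod.fst hg
    have hg2 : g • b = a := congrArg Prod.snd hg
    exact smul_left_cancel g (hg1.trans hg2.symm)
  rw [h3, one_mul] at h1
  have h5 : 2 * Fintype.card ↥T ≤ ∑ t : ↥T, fx t * fx t := by
    rw [← Finset.sum_congr rfl (fun t _ => hfx2 t), h2]
    exact Nat.mul_le_mul_right _ h4
  have h6 : ∑ t : ↥T, fx t = Fintype.card ↥T := h1
  have hfx1 : fx 1 = Fintype.card Ω := by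
    rw [hfx]
    have : {x : Ω | ((1 : ↥T) : G) • x = x} = Set.univ := by
      ext x
      simp
    rw [this, Set.ncard_univ, Nat.card_eq_fintype_card]
  have h7 := Finset.add_sum_erase Finset.univ fx (Finset.mem_univ (1 : ↥T))
  have h8 := Finset.add_sum_erase Finset.univ (fun t => fx t * fx t) (Finset.mem_univ (1 : ↥T))
  rw [h6, hfx1] at h7
  simp only [hfx1] at h8
  -- the elements with one fixed point
  let S : Finset ↥T := (Finset.univ.erase 1).filter (fun t => fx t = 1)
  have h9 : S.card + ∑ t ∈ Finset.univ.erase (1 : ↥T), fx t * fx t = 2 * ∑ t ∈ Finset.univ.erase (1 : ↥T), fx t := by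
    rw [Finset.card_filter, ← Finset.sum_add_distrib, Finset.mul_sum]
    refine Finset.sum_congr rfl fun t ht => ?_
    have h10 : fx t ≤ 2 := by
      rw [hfx]
      refine hfix t t.2 ?_
      intro h
      exact (Finset.mem_erase.1 ht).1 (Subtype.ext h)
    interval_cases fx t <;> simp
  have h10 : {t : G | t ∈ T ∧ {x : Ω | t • x = x}.ncard = 1}.ncard = S.card := by
    have h11 : {t : G | t ∈ T ∧ {x : Ω | t • x = x}.ncard = 1} =
        ((S.map ⟨Subtype.val, Subtype.val_injective⟩ : Finset G) : Set G) := by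
      ext t
      simp only [Set.mem_ofPred_eq, Finset.coe_map, Function.Embedding.coeFn_mk, Set.mem_image, Finset.mem_coe]
      constructor
      · rintro ⟨ht, h1⟩
        refine ⟨⟨t, ht⟩, ?_, rfl⟩
        rw [Finset.mem_filter, Finset.mem_erase]
        have h12 : fx ⟨t, ht⟩ = 1 := by rw [hfx]; exact h1
        refine ⟨⟨fun h0 => ?_, Finset.mem_univ _⟩, h12⟩
        rw [h0, hfx1] at h12
        omega
      · rintro ⟨t, ht, rfl⟩
        exact ⟨t.2, by rw [← hfx]; exact (Finset.mem_filter.1 ht).2⟩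
    rw [h11, Set.ncard_coe_finset, Finset.card_map]
  rw [h10]
  obtain ⟨n, hn'⟩ : ∃ n, Fintype.card Ω = n + 2 := ⟨Fintype.card Ω - 2, by omega⟩
  rw [hn'] at h7 h8 ⊢
  rw [Nat.add_sub_cancel]
  linarith only [h5, h9, h8, h7]

end Cfsg.Agent.H391.KPslC
end

-- part: H391/KPslC2
section
/-!
# Row `PSL_2(q)` of S3564: elements of order 3 with one fixed point; sharply 3-transitive socle (helper391)
-/

set_option autoImplicit false
set_option linter.unusedSectionVars false
set_option linter.unusedSimpArgs false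

namespace Cfsg.Agent.H391.KPslC

open MulAction Cfsg.Agent.H397.KHom Cfsg.Agent.H384.TwoTrans Cfsg.Agent.H391.KOrb Cfsg.Agent.H391.KPslA
open scoped Pointwise

variable {G Ω : Type*} [Group G] [MulAction G Ω] [DecidableEq Ω] [Fintype Ω] {T : Subgroup G}

/-- the fixed points and an orbit of an element of order 3 -/
def F3 (u : G) (y : Ω) : Finset Ω := Finset.univ.filter (fun z => u • z = z) ∪ {y, u • y, u • u • y}

theorem F3_conj (g u : G) (y : Ω) : F3 (g * u * g⁻¹) (g • y) = g • F3 u y := by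
  unfold F3
  rw [Finset.smul_finset_union, Finset.smul_finset_insert, Finset.smul_finset_insert, Finset.smul_finset_singleton]
  congr 1
  · ext z
    rw [← Finset.inv_smul_mem_iff]
    simp only [Finset.mem_filter, Finset.mem_univ, true_and, mul_smul]
    rw [smul_eq_iff_eq_inv_smul]
  · simp only [mul_smul, _root_.inv_smul_smul]

theorem F3_smul {t : G} (ht : t ^ 3 = 1) (a : Ω) : F3 t (t • a) = F3 t a := by
  have h3 : ∀ z : Ω, t • t • t • z = z := by
    intro z
    rw [← mul_smul, ← mul_smul]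
    have : t * t * t = 1 := by rw [← ht, pow_succ, pow_two]
    rw [this, one_smul]
  unfold F3
  rw [h3]
  congr 1
  ext z
  simp only [Finset.mem_insert, Finset.mem_singleton]
  (clear * -; itauto)

theorem F3_pow_smul {t : G} (ht : t ^ 3 = 1) (a : Ω) (j : ℕ) : F3 t (t ^ j • a) = F3 t a := by
  induction j with
  | zero => rw [pow_zero, one_smul]
  | succ j ih => rw [pow_succ', mul_smul, F3_smul ht, ih]

theorem F3_sq {t : G} (ht : t ^ 3 = 1) (a : Ω) : F3 (t * t) a = F3 t a := by
  have h3 : ∀ z : Ω, t • t • t • z = z := by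
    intro z
    rw [← mul_smul, ← mul_smul]
    have : t * t * t = 1 := by rw [← ht, pow_succ, pow_two]
    rw [this, one_smul]
  unfold F3
  congr 1
  · ext z
    simp only [Finset.mem_filter, Finset.mem_univ, true_and, mul_smul]
    constructor
    · intro h
      have := h3 z
      rwa [h] at this
    · intro h
      rw [h, h]
  · ext z
    simp only [Finset.mem_insert, Finset.mem_singleton, mul_smul, h3]
    (clear * -; itauto)

theorem orbit_three [Finite G] (hTn : T.Normal) [IsPretransitive ↥T Ω]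
    (hfix : ∀ t ∈ T, t ≠ 1 → {x : Ω | t • x = x}.ncard ≤ 2) (hn : Fintype.card Ω % 3 = 1)
    (h4 : 4 ≤ Fintype.card Ω) (h3 : 3 ∣ Nat.card ↥T) :
    ∃ I : Finset Ω, I.card = 4 ∧
      6 * (orbit G I).ncard ≤ Fintype.card Ω * (Fintype.card Ω - 2) * (Fintype.card Ω - 1) := by
  classical
  obtain ⟨⟨t, htT⟩, ht⟩ := exists_prime_orderOf_dvd_card' 3 h3
  rw [Subgroup.orderOf_mk] at ht
  have ht3 : t ^ 3 = 1 := by rw [← ht, pow_orderOf_eq_one]
  have ht1 : t ≠ 1 := by
    rintro rfl
    rw [orderOf_one] at ht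
    omega
  -- one fixed point
  have one_fix : ∀ u ∈ T, u ^ 3 = 1 → u ≠ 1 → {x : Ω | u • x = x}.ncard = 1 := by
    intro u hu h3 h1
    have h5 := hfix u hu h1
    have h6 := ncard_fix_mod (Ω := Ω) (p := 3) h3
    rw [Nat.card_eq_fintype_card] at h6
    have h7 : Fintype.card Ω % 3 = {x : Ω | u • x = x}.ncard % 3 := h6
    omega
  have hcount : ∀ u : G, {x : Ω | u • x = x}.ncard = (Finset.univ.filter (fun z : Ω => u • z = z)).card := by
    intro u
    rw [Set.ncard_eq_toFinset_card', Set.toFinset_ofPred]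
  have hfx := one_fix t htT ht3 ht1
  rw [hcount, Finset.card_eq_one] at hfx
  obtain ⟨x₀, hx₀⟩ := hfx
  have hfixx : ∀ z : Ω, t • z = z ↔ z = x₀ := by
    intro z
    have : z ∈ (Finset.univ.filter (fun z : Ω => t • z = z)) ↔ z ∈ ({x₀} : Finset Ω) := by rw [hx₀]
    simpa only [_root_.Finset.mem_filter, _root_.Finset.mem_univ, _root_.true_and, _root_.Finset.mem_singleton] using this
  obtain ⟨a, ha⟩ : ∃ a : Ω, a ≠ x₀ := by
    have : Nontrivial Ω := Fintype.one_lt_card_iff_nontrivial.1 (by omega)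
    exact exists_ne x₀
  have h3z : ∀ z : Ω, t • t • t • z = z := by
    intro z
    rw [← mul_smul, ← mul_smul]
    have : t * t * t = 1 := by rw [← ht3, pow_succ, pow_two]
    rw [this, one_smul]
  have hta : t • a ≠ a := fun h => ha ((hfixx a).1 h)
  have htta : t • t • a ≠ t • a := fun h => hta (smul_left_cancel t h)
  have htta' : t • t • a ≠ a := fun h => hta (by have := h3z a; rwa [h] at this)
  have hx0' : t • x₀ = x₀ := (hfixx x₀).2 rfl
  have hx0a : x₀ ≠ t • a := fun h => ha (by rw [← hx0'] at h; exact (smul_left_cancel t h).symm)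
  have hx0b : x₀ ≠ t • t • a := fun h => hx0a (by rw [← hx0'] at h; exact smul_left_cancel t h)
  have hIc : (F3 t a).card = 4 := by
    unfold F3
    rw [hx₀, ← Finset.insert_eq, Finset.card_insert_of_notMem, Finset.card_insert_of_notMem,
      Finset.card_insert_of_notMem, Finset.card_singleton]
    · simpa using htta.symm
    · simp only [Finset.mem_insert, Finset.mem_singleton, not_or]
      exact ⟨hta.symm, htta'.symm⟩
    · simp only [Finset.mem_insert, Finset.mem_singleton, not_or]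
      exact ⟨ha.symm, hx0a, hx0b⟩
  refine ⟨F3 t a, hIc, ?_⟩
  -- the double counting
  let X : Set G := {u : G | u ∈ T ∧ {x : Ω | u • x = x}.ncard = 1}
  obtain ⟨X', hX'⟩ : ∃ X' : Finset G, X' = (Set.toFinite X).toFinset := ⟨_, rfl⟩
  have hX'c : X'.card ≤ Fintype.card Ω * (Fintype.card Ω - 2) := by
    rw [hX', ← Set.ncard_eq_toFinset_card _ (Set.toFinite X)]
    exact card_one_fix hfix (by omega)
  have hX'm : ∀ u, u ∈ X' ↔ u ∈ X := fun u => by rw [hX']; exact Set.Finite.mem_toFinset _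
  obtain ⟨O, hO⟩ : ∃ O : Finset (Finset Ω), O = (Set.toFinite (orbit G (F3 t a))).toFinset := ⟨_, rfl⟩
  have hOc : O.card = (orbit G (F3 t a)).ncard := by
    rw [hO, Set.ncard_eq_toFinset_card _ (Set.toFinite (orbit G (F3 t a)))]
  have hmem : ∀ A, A ∈ O ↔ A ∈ orbit G (F3 t a) := fun A => by rw [hO]; exact Set.Finite.mem_toFinset _
  have hch : ∀ A : Finset Ω, ∃ g : G, A ∈ O → g • F3 t a = A := by
    intro A
    by_cases hA : A ∈ O
    · obtain ⟨g, hg⟩ := (hmem A).1 hA
      exact ⟨g, fun _ => hg⟩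
    · exact ⟨1, fun h => absurd h hA⟩
  choose γ hγ using hch
  let Φ : Finset Ω × (Fin 2 × Fin 3) → (_ : G) × Ω := fun q =>
    ⟨γ q.1 * t ^ (q.2.1.1 + 1) * (γ q.1)⁻¹, γ q.1 • (t ^ q.2.2.1 • a)⟩
  have hpow : ∀ i : Fin 2, F3 (t ^ (i.1 + 1)) a = F3 t a := by
    intro i
    fin_cases i
    · simp
    · simp only [Fin.mk_one, Fin.isValue, Fin.coe_ofNat_eq_mod, Nat.mod_succ]
      rw [show 1 + 1 = 2 from rfl, pow_two, F3_sq ht3]
  have hpow3 : ∀ i : Fin 2, (t ^ (i.1 + 1)) ^ 3 = 1 := by
    intro i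
    rw [← pow_mul, mul_comm, pow_mul, ht3, one_pow]
  have hpow1 : ∀ i : Fin 2, t ^ (i.1 + 1) ≠ 1 := by
    intro i h
    have h5 := orderOf_dvd_of_pow_eq_one h
    rw [ht] at h5
    have := Nat.le_of_dvd (by omega) h5
    have := i.2
    omega
  have hFΦ : ∀ A ∈ O, ∀ i : Fin 2, ∀ j : Fin 3, F3 (Φ (A, i, j)).1 (Φ (A, i, j)).2 = A := by
    intro A hA i j
    change F3 (γ A * t ^ (i.1 + 1) * (γ A)⁻¹) (γ A • (t ^ j.1 • a)) = A
    rw [F3_conj]
    have h5 : F3 (t ^ (i.1 + 1)) (t ^ j.1 • a) = F3 t a := by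
      -- `t` is a power of `t ^ (i + 1)`
      have h6 : ∀ m : ℕ, F3 (t ^ (i.1 + 1)) ((t ^ (i.1 + 1)) ^ m • a) = F3 t a := by
        intro m
        rw [F3_pow_smul (hpow3 i), hpow]
      have h7 : ∃ m : ℕ, (t ^ (i.1 + 1)) ^ m = t ^ j.1 := by
        fin_cases i
        · exact ⟨j.1, by simp⟩
        · refine ⟨2 * j.1, ?_⟩
          simp only [Fin.mk_one, Fin.isValue, Fin.coe_ofNat_eq_mod, Nat.mod_succ]
          rw [← pow_mul]
          have : (1 + 1) * (2 * j.1) = 3 * j.1 + j.1 := by ring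
          rw [this, pow_add, pow_mul, ht3, one_pow, one_mul]
      obtain ⟨m, hm⟩ := h7
      rw [← hm, h6]
    rw [h5, hγ A hA]
  have hmaps : ∀ q ∈ O ×ˢ (Finset.univ : Finset (Fin 2 × Fin 3)),
      Φ q ∈ X'.sigma (fun u => Finset.univ.filter (fun y : Ω => u • y ≠ y)) := by
    rintro ⟨A, i, j⟩ hq
    rw [Finset.mem_product] at hq
    rw [Finset.mem_sigma]
    have hu : γ A * t ^ (i.1 + 1) * (γ A)⁻¹ ∈ X := by
      have h5 : γ A * t ^ (i.1 + 1) * (γ A)⁻¹ ∈ T := hTn.conj_mem _ (pow_mem htT _) _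
      refine ⟨h5, one_fix _ h5 ?_ ?_⟩
      · rw [conj_pow, hpow3, mul_one, mul_inv_cancel]
      · intro h
        apply hpow1 i
        rwa [mul_inv_eq_one, mul_eq_left] at h
    refine ⟨(hX'm _).2 hu, ?_⟩
    rw [Finset.mem_filter]
    refine ⟨Finset.mem_univ _, ?_⟩
    change (γ A * t ^ (i.1 + 1) * (γ A)⁻¹) • (γ A • (t ^ j.1 • a)) ≠ γ A • (t ^ j.1 • a)
    rw [mul_smul, mul_smul, inv_smul_smul]
    intro h
    have h5 := smul_left_cancel _ h
    rw [← mul_smul, ← pow_add, add_comm, pow_add, mul_smul] at h5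
    have h6 : t ^ (i.1 + 1) • a = a := smul_left_cancel _ h5
    fin_cases i
    · simp only [Fin.zero_eta, Fin.isValue, Fin.coe_ofNat_eq_mod, Nat.zero_mod, zero_add, pow_one] at h6
      exact hta h6
    · simp only [Fin.mk_one, Fin.isValue, Fin.coe_ofNat_eq_mod, Nat.mod_succ] at h6
      rw [show 1 + 1 = 2 from rfl, pow_two, mul_smul] at h6
      exact htta' h6
  have hinj : Set.InjOn Φ (O ×ˢ (Finset.univ : Finset (Fin 2 × Fin 3)) : Finset _) := by
    rintro ⟨A, i, j⟩ hq ⟨A', i', j'⟩ hq' h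
    rw [Finset.mem_coe, Finset.mem_product] at hq hq'
    have h5 := hFΦ A hq.1 i j
    have h6 := hFΦ A' hq'.1 i' j'
    rw [h, h6] at h5
    have h7 : A' = A := h5
    subst h7
    have h8 := congrArg Sigma.fst h
    have h9 : γ A' • (t ^ j.1 • a) = γ A' • (t ^ j'.1 • a) := congrArg Sigma.snd h
    have h10 : γ A' * t ^ (i.1 + 1) * (γ A')⁻¹ = γ A' * t ^ (i'.1 + 1) * (γ A')⁻¹ := h8
    have h11 : t ^ (i.1 + 1) = t ^ (i'.1 + 1) := mul_left_cancel (mul_right_cancel h10)
    have h12 : t ^ j.1 • a = t ^ j'.1 • a := smul_left_cancel _ h9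
    have h13 : i = i' := by
      rw [pow_inj_mod, ht] at h11
      have := i.2
      have := i'.2
      apply Fin.ext
      omega
    have h14 : j = j' := by
      clear hq hq' h h5 h6 h8 h9 h10 h11 hmaps hFΦ
      fin_cases j <;> fin_cases j' <;> simp [pow_two, mul_smul] at h12 ⊢
      · exact hta h12.symm
      · exact htta' h12.symm
      · exact hta h12
      · exact hta h12.symm
      · exact htta' h12
      · exact hta h12
    rw [h13, h14]
  have h5 := Finset.card_le_card_of_injOn Φ hmaps hinj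
  rw [Finset.card_product, Finset.card_sigma, Finset.card_univ, Fintype.card_prod, Fintype.card_fin,
    Fintype.card_fin, hOc] at h5
  have h6 : ∑ u ∈ X', (Finset.univ.filter (fun y : Ω => u • y ≠ y)).card = ∑ u ∈ X', (Fintype.card Ω - 1) := by
    refine Finset.sum_congr rfl fun u hu => ?_
    have h7 := ((hX'm u).1 hu).2
    rw [hcount] at h7
    have h8 := Finset.card_filter_add_card_filter_not (s := (Finset.univ : Finset Ω)) (fun y => u • y = y)
    rw [h7, Finset.card_univ] at h8
    simp only [ne_eq]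
    omega
  rw [h6, Finset.sum_const, smul_eq_mul] at h5
  calc 6 * (orbit G (F3 t a)).ncard = (orbit G (F3 t a)).ncard * (2 * 3) := by ring
    _ ≤ X'.card * (Fintype.card Ω - 1) := h5
    _ ≤ _ := Nat.mul_le_mul_right _ hX'c

end Cfsg.Agent.H391.KPslC
end

-- part: H391/KPslC3
section
/-!
# Row `PSL_2(q)` of S3564: sharply 3-transitive socle, `k = 5` (helper391)
-/

set_option autoImplicit false
set_option linter.unusedSectionVars false
set_option linter.unusedSimpArgs false

namespace Cfsg.Agent.H391.KPslC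

open MulAction Cfsg.Agent.H397.KHom Cfsg.Agent.H384.TwoTrans Cfsg.Agent.H391.KOrb Cfsg.Agent.H391.KPslA
open scoped Pointwise

variable {G Ω : Type*} [Group G] [MulAction G Ω] [DecidableEq Ω] [Fintype Ω] {T : Subgroup G}

theorem sharp3 [Finite G] (hfix : ∀ t ∈ T, t ≠ 1 → {x : Ω | t • x = x}.ncard ≤ 2)
    (hT : Nat.card ↥T = Fintype.card Ω * (Fintype.card Ω - 1) * (Fintype.card Ω - 2))
    {a b c a' b' c' : Ω} (hab : a ≠ b) (hac : a ≠ c) (hbc : b ≠ c) (hab' : a' ≠ b') (hac' : a' ≠ c')
    (hbc' : b' ≠ c') : ∃ t ∈ T, t • a = a' ∧ t • b = b' ∧ t • c = c' := by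
  classical
  have hinj0 : ∀ {x y z : Ω}, x ≠ y → x ≠ z → y ≠ z → Function.Injective (![x, y, z] : Fin 3 → Ω) := by
    intro x y z h1 h2 h3 i j hij
    fin_cases i <;> fin_cases j <;> simp_all only [_root_.ne_eq, _root_.Nat.succ_eq_add_one, _root_.Nat.reduceAdd, _root_.Fin.zero_eta, _root_.Fin.isValue, _root_.Matrix.cons_val_zero, _root_.Fin.mk_one, _root_.Matrix.cons_val_one, _root_.Fin.reduceFinMk, _root_.Matrix.cons_val, _root_.one_ne_zero, _root_.not_true_eq_false, _root_.Fin.reduceEq, _root_.not_false_eq_true]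
  let e₀ : Fin 3 ↪ Ω := ⟨![a, b, c], hinj0 hab hac hbc⟩
  let e₁ : Fin 3 ↪ Ω := ⟨![a', b', c'], hinj0 hab' hac' hbc'⟩
  let ψ : ↥T → (Fin 3 ↪ Ω) := fun t => e₀.trans (MulAction.toPerm (t : G)).toEmbedding
  have hψ : ∀ (t : ↥T) (i : Fin 3), ψ t i = (t : G) • e₀ i := fun t i => rfl
  have hinj : Function.Injective ψ := by
    intro s t hst
    by_contra hne
    have h1 : (t : G)⁻¹ * s ≠ 1 := by
      intro h
      apply hne
      apply Subtype.ext
      have := eq_inv_of_mul_eq_one_right h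
      rw [this, inv_inv]
    have h2 := hfix _ (mul_mem (inv_mem t.2) s.2) h1
    have h3 : ∀ i, e₀ i ∈ {x : Ω | ((t : G)⁻¹ * s) • x = x} := by
      intro i
      rw [Set.mem_ofPred_eq, mul_smul, inv_smul_eq_iff, ← hψ, ← hψ, hst]
    have h4 : Set.range e₀ ⊆ {x : Ω | ((t : G)⁻¹ * s) • x = x} := by
      rintro _ ⟨i, rfl⟩
      exact h3 i
    have h5 := Set.ncard_le_ncard h4 (Set.toFinite _)
    have h6 : (Set.range e₀).ncard = 3 := by
      rw [← Set.image_univ, Set.ncard_image_of_injective _ e₀.injective, Set.ncard_univ, Nat.card_eq_fintype_card,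
        Fintype.card_fin]
    omega
  have hcard : Nat.card (Fin 3 ↪ Ω) = Nat.card ↥T := by
    rw [Nat.card_eq_fintype_card, Fintype.card_embedding_eq, Fintype.card_fin, hT]
    simp only [Nat.descFactorial, Nat.sub_zero]
    ring
  have hbij := (Nat.bijective_iff_injective_and_card ψ).2 ⟨hinj, hcard.symm⟩
  obtain ⟨t, ht⟩ := hbij.2 e₁
  refine ⟨t, t.2, ?_, ?_, ?_⟩
  · exact congrArg (fun e : Fin 3 ↪ Ω => e 0) ht
  · exact congrArg (fun e : Fin 3 ↪ Ω => e 1) ht
  · exact congrArg (fun e : Fin 3 ↪ Ω => e 2) ht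

theorem four_le_stab [Finite G] (hfix : ∀ t ∈ T, t ≠ 1 → {x : Ω | t • x = x}.ncard ≤ 2)
    (hT : Nat.card ↥T = Fintype.card Ω * (Fintype.card Ω - 1) * (Fintype.card Ω - 2))
    (hsw : ∀ t ∈ T, ∀ x y : Ω, x ≠ y → t • x = y → t • y = x → ∀ z : Ω, t • t • z = z)
    {I : Finset Ω} (hI : I.card = 4) : 4 ≤ Nat.card (stabilizer G I) := by
  classical
  obtain ⟨x, hx⟩ : ∃ x, x ∈ I := Finset.card_pos.1 (by omega)
  have htr : ∀ y ∈ I, y ∈ orbit (stabilizer G I) x := by
    intro y hy
    by_cases hxy : y = x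
    · rw [hxy]
      exact mem_orbit_self x
    have h1 : ((I.erase x).erase y).card = 2 := by
      rw [Finset.card_erase_of_mem (Finset.mem_erase.2 ⟨hxy, hy⟩), Finset.card_erase_of_mem hx, hI]
    obtain ⟨z, w, hzw, h2⟩ := Finset.card_eq_two.1 h1
    have hz : z ∈ (I.erase x).erase y := by rw [h2]; simp
    have hw : w ∈ (I.erase x).erase y := by rw [h2]; simp
    rw [Finset.mem_erase, Finset.mem_erase] at hz hw
    have hI' : ∀ u ∈ I, u = x ∨ u = y ∨ u = z ∨ u = w := by
      intro u hu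
      by_cases h3 : u = x
      · exact Or.inl h3
      by_cases h4 : u = y
      · exact Or.inr (Or.inl h4)
      have h5 : u ∈ (I.erase x).erase y := Finset.mem_erase.2 ⟨h4, Finset.mem_erase.2 ⟨h3, hu⟩⟩
      rw [h2] at h5
      simpa [h3, h4] using h5
    obtain ⟨g, hgT, hgx, hgy, hgz⟩ := sharp3 hfix hT (a := x) (b := y) (c := z) (a' := y) (b' := x) (c' := w)
      (Ne.symm hxy) (Ne.symm hz.2.1) (Ne.symm hz.1) hxy (Ne.symm hw.1) (Ne.symm hw.2.1)
    have hgw : g • w = z := by
      have := hsw g hgT x y (Ne.symm hxy) hgx hgy z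
      rwa [hgz] at this
    refine ⟨⟨g, ?_⟩, hgx⟩
    rw [mem_stabilizer_iff]
    refine Finset.eq_of_subset_of_card_le (smul_subset_iff.2 fun u hu => ?_) (by rw [Finset.card_smul_finset])
    rcases hI' u hu with rfl | rfl | rfl | rfl
    · rw [hgx]; exact hy
    · rw [hgy]; exact hx
    · rw [hgz]; exact hw.2.2
    · rw [hgw]; exact hz.2.2
  have h1 : (I : Set Ω) ⊆ orbit (stabilizer G I) x := fun y hy => htr y hy
  have h2 := Set.ncard_le_ncard h1 (Set.toFinite _)
  rw [Set.ncard_coe_finset, hI] at h2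
  have h3 := ncard_orbit_mul (stabilizer G I) x
  have h4 : 0 < Nat.card ↥(stabilizer G I ⊓ stabilizer G x) := Nat.card_pos
  nlinarith only [h2, h3, h4]

theorem choose_mul_le_numOrb_mul [Finite G] {j m : ℕ}
    (h : ∀ I : Finset Ω, I.card = j → m ≤ Nat.card (stabilizer G I)) :
    (Fintype.card Ω).choose j * m ≤ numOrb G Ω j * Nat.card G := by
  classical
  have := finite_orb (G := G) (Ω := Ω) j
  have i1 : Fintype (Quotient (orbitRel G (Set.powersetCard Ω j))) := Fintype.ofFinite _
  have h1 : Nat.card (Set.powersetCard Ω j) = (Fintype.card Ω).choose j := by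
    rw [Set.powersetCard.card, Nat.card_eq_fintype_card]
  rw [← h1, Nat.card_congr (selfEquivSigmaOrbits G (Set.powersetCard Ω j)), Nat.card_sigma, Finset.sum_mul]
  have h2 : ∑ ω : Quotient (orbitRel G (Set.powersetCard Ω j)), Nat.card (orbit G ω.out) * m ≤
      ∑ ω : Quotient (orbitRel G (Set.powersetCard Ω j)), Nat.card G := by
    refine Finset.sum_le_sum fun ω _ => ?_
    have h3 := (stabilizer G ω.out).card_mul_index
    rw [index_stabilizer] at h3
    rw [Nat.card_coe_set_eq, ← h3, mul_comm]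
    apply Nat.mul_le_mul_right
    refine (h ω.out.1 ω.out.2).trans ?_
    have h4 : stabilizer G ω.out.1 ≤ stabilizer G ω.out := by
      intro g hg
      rw [mem_stabilizer_iff] at hg ⊢
      exact Subtype.ext hg
    exact Nat.card_le_card_of_injective _ (Subgroup.inclusion_injective h4)
  refine h2.trans ?_
  rw [Finset.sum_const, smul_eq_mul, Finset.card_univ, numOrb,
    ← Nat.card_eq_fintype_card (α := Quotient (orbitRel G (Set.powersetCard Ω j)))]

theorem numOrb_le_two [Finite G] (hfix : ∀ t ∈ T, t ≠ 1 → {x : Ω | t • x = x}.ncard ≤ 2) (h : Hom G Ω 5)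
    (hodd : ¬ 2 ∣ Fintype.card Ω) (hn : 7 ≤ Fintype.card Ω) (h4 : 4 ∣ Nat.card ↥T) : numOrb G Ω 4 ≤ 2 := by
  classical
  obtain ⟨V, hVT, hV⟩ := exists_pow_subgroup (a := 2) Nat.prime_two (by simpa only [_root_.Nat.reducePow] using h4)
  have hVp : IsPGroup 2 V := IsPGroup.of_card hV
  have hf2 : Fact (Nat.Prime 2) := ⟨Nat.prime_two⟩
  obtain ⟨x, hx⟩ := hVp.nonempty_fixed_point_of_prime_not_dvd_card Ω
    (by rwa [Nat.card_eq_fintype_card])
  obtain ⟨a, ha⟩ := exists_regular hfix hVT (by rw [hV, Nat.card_eq_fintype_card]; omega)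
  rw [hV] at ha
  norm_num at ha
  obtain ⟨O, hO⟩ : ∃ O : Finset Ω, O = (Set.toFinite (orbit V a)).toFinset := ⟨_, rfl⟩
  have hOc : O.card = 4 := by rw [hO, ← Set.ncard_eq_toFinset_card _ (Set.toFinite (orbit V a)), ha]
  have hmem : ∀ y, y ∈ O ↔ y ∈ orbit V a := fun y => by rw [hO]; exact Set.Finite.mem_toFinset _
  have hxf : ∀ v : V, v • x = x := fun v => hx v
  have hxO : x ∉ O := by
    rw [hmem]
    intro hcon
    have h5 : orbit V a = {x} := by
      rw [← orbit_eq_iff.2 hcon]
      ext z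
      constructor
      · rintro ⟨v, rfl⟩
        exact hxf v
      · intro hz
        rw [Set.mem_singleton_iff.1 hz]
        exact mem_orbit_self x
    rw [h5, Set.ncard_singleton] at ha
    omega
  have hstab : ∀ v : V, (v : G) • insert x O = insert x O := by
    intro v
    refine Finset.eq_of_subset_of_card_le (smul_subset_iff.2 fun u hu => ?_) (by rw [Finset.card_smul_finset])
    rw [Finset.mem_insert] at hu ⊢
    rcases hu with rfl | hu
    · exact Or.inl (hxf v)
    · right
      rw [hmem] at hu ⊢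
      obtain ⟨w, rfl⟩ := hu
      exact ⟨v * w, mul_smul v w a⟩
  have h5 := h.numOrb_le_of_cover (by omega) (J := insert x O) (by rw [Finset.card_insert_of_notMem hxO, hOc])
    {x, a} (by
      intro y hy
      rw [Finset.mem_insert] at hy
      rcases hy with rfl | hy
      · exact ⟨y, by simp, 1, one_smul _ _, one_smul _ _⟩
      · rw [hmem] at hy
        obtain ⟨v, rfl⟩ := hy
        exact ⟨a, by simp, v, hstab v, rfl⟩)
  exact h5.trans Finset.card_le_two

/-- **`k = 5`, sharply 3-transitive socle** -/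
theorem sharp_five [Finite G] (hfix : ∀ t ∈ T, t ≠ 1 → {x : Ω | t • x = x}.ncard ≤ 2)
    (hT : Nat.card ↥T = Fintype.card Ω * (Fintype.card Ω - 1) * (Fintype.card Ω - 2))
    (hsw : ∀ t ∈ T, ∀ x y : Ω, x ≠ y → t • x = y → t • y = x → ∀ z : Ω, t • t • z = z)
    (h : Hom G Ω 5) (hodd : ¬ 2 ∣ Fintype.card Ω) (hn : 7 ≤ Fintype.card Ω) (h4 : 4 ∣ Nat.card ↥T) :
    (Fintype.card Ω).choose 4 * 4 ≤ 2 * Nat.card G :=
  (choose_mul_le_numOrb_mul (fun _ hI => four_le_stab hfix hT hsw hI)).trans
    (Nat.mul_le_mul_right _ (numOrb_le_two hfix h hodd hn h4))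

end Cfsg.Agent.H391.KPslC
end

-- part: H391/KPslB
section
/-!
# 2-transitive groups with socle `PSL_2(q)`: fixed points and orders (helper391)
-/

set_option autoImplicit false

namespace Cfsg.Agent.H391.KPslB

open Matrix MulAction Cfsg.Agent.H384.TwoTrans
open scoped LinearAlgebra.Projectivization

section proj

variable {F : Type*} [Field F]

theorem mk_eq_of_det {v w : Fin 2 → F} (hv : v ≠ 0) (hw : w ≠ 0) (h : v 0 * w 1 = v 1 * w 0) :
    Projectivization.mk F v hv = Projectivization.mk F w hw := by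
  rw [Projectivization.mk_eq_mk_iff']
  by_cases h0 : w 0 = 0
  · have h1 : w 1 ≠ 0 := by
      intro h1
      apply hw
      ext i
      fin_cases i
      · exact h0
      · exact h1
    refine ⟨v 1 / w 1, ?_⟩
    have h2 : v 0 = 0 := by
      rw [h0, mul_zero] at h
      exact (mul_eq_zero.1 h).resolve_right h1
    ext i
    fin_cases i
    · simp [h0, h2]
    · simp [h1]
  · refine ⟨v 0 / w 0, ?_⟩
    ext i
    fin_cases i
    · simp [h0]
    · simp only [Pi.smul_apply, smul_eq_mul, Fin.mk_one]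
      field_simp
      linear_combination h

theorem smul_mk (s : _root_.Matrix.SpecialLinearGroup (Fin 2) F) {v : Fin 2 → F} (hv : v ≠ 0) (hw : s.1 *ᵥ v ≠ 0) :
    s • Projectivization.mk F v hv = Projectivization.mk F (s.1 *ᵥ v) hw := by
  rw [Projectivization.smul_mk]
  rfl

theorem mulVec_ne_zero (s : _root_.Matrix.SpecialLinearGroup (Fin 2) F) {v : Fin 2 → F} (hv : v ≠ 0) : s.1 *ᵥ v ≠ 0 :=
  fun h => hv (Matrix.eq_zero_of_mulVec_eq_zero (M := s.1) (by rw [s.2]; exact one_ne_zero) h)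

theorem smul_eq_iff (s : _root_.Matrix.SpecialLinearGroup (Fin 2) F) {v w : Fin 2 → F} (hv : v ≠ 0) (hw : w ≠ 0) :
    s • Projectivization.mk F v hv = Projectivization.mk F w hw ↔
      (s.1 0 0 * v 0 + s.1 0 1 * v 1) * w 1 = (s.1 1 0 * v 0 + s.1 1 1 * v 1) * w 0 := by
  have hsv := mulVec_ne_zero s hv
  have h0 : (s.1 *ᵥ v) 0 = s.1 0 0 * v 0 + s.1 0 1 * v 1 := by
    simp only [mulVec, dotProduct, Fin.sum_univ_two, _root_.Fin.isValue]
  have h1 : (s.1 *ᵥ v) 1 = s.1 1 0 * v 0 + s.1 1 1 * v 1 := by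
    simp only [mulVec, dotProduct, Fin.sum_univ_two, _root_.Fin.isValue]
  rw [smul_mk s hv hsv, ← h0, ← h1]
  constructor
  · intro h
    rw [Projectivization.mk_eq_mk_iff'] at h
    obtain ⟨c, hc⟩ := h
    rw [← hc]
    simp only [Pi.smul_apply, smul_eq_mul]
    ring
  · intro h
    exact mk_eq_of_det hsv hw h

theorem eq_iff {v w : Fin 2 → F} (hv : v ≠ 0) (hw : w ≠ 0) :
    Projectivization.mk F v hv = Projectivization.mk F w hw ↔ v 0 * w 1 = v 1 * w 0 := by
  have := smul_eq_iff (1 : _root_.Matrix.SpecialLinearGroup (Fin 2) F) hv hw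
  rw [one_smul] at this
  simpa only [_root_.Fin.isValue, _root_.Matrix.SpecialLinearGroup.coe_one, _root_.Matrix.one_apply_eq, _root_.one_mul, _root_.ne_eq, _root_.zero_ne_one, _root_.not_false_eq_true, _root_.Matrix.one_apply_ne, _root_.MulZeroClass.zero_mul, _root_.add_zero, _root_.one_ne_zero, _root_.zero_add] using this

theorem scalar_smul {s : _root_.Matrix.SpecialLinearGroup (Fin 2) F} (h01 : s.1 0 1 = 0) (h10 : s.1 1 0 = 0)
    (h : s.1 0 0 = s.1 1 1) (x : ℙ F (Fin 2 → F)) : s • x = x := by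
  induction x using Projectivization.ind with
  | h v hv =>
    rw [smul_eq_iff s hv hv, h01, h10, h]
    ring

theorem trivial_of_three {s : _root_.Matrix.SpecialLinearGroup (Fin 2) F} {x y z : ℙ F (Fin 2 → F)} (hxy : x ≠ y) (hxz : x ≠ z)
    (hyz : y ≠ z) (hx : s • x = x) (hy : s • y = y) (hz : s • z = z) (w : ℙ F (Fin 2 → F)) : s • w = w := by
  induction x using Projectivization.ind with
  | h u hu =>
  induction y using Projectivization.ind with
  | h v hv =>
  induction z using Projectivization.ind with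
  | h t ht =>
    rw [smul_eq_iff] at hx hy hz
    rw [Ne, eq_iff] at hxy hxz hyz
    have hD : (u 0 * v 1 - u 1 * v 0) * (u 0 * t 1 - u 1 * t 0) * (v 0 * t 1 - v 1 * t 0) ≠ 0 :=
      mul_ne_zero (mul_ne_zero (sub_ne_zero.2 hxy) (sub_ne_zero.2 hxz)) (sub_ne_zero.2 hyz)
    have h10 : s.1 1 0 = 0 := by
      apply (mul_eq_zero.1 (?_ : s.1 1 0 * _ = 0)).resolve_right hD
      linear_combination (-(v 1 * t 1 * (v 0 * t 1 - v 1 * t 0))) * hx +
        (u 1 * t 1 * (u 0 * t 1 - u 1 * t 0)) * hy - (u 1 * v 1 * (u 0 * v 1 - u 1 * v 0)) * hz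
    have h01 : s.1 0 1 = 0 := by
      apply (mul_eq_zero.1 (?_ : s.1 0 1 * _ = 0)).resolve_right hD
      linear_combination (v 0 * t 0 * (v 0 * t 1 - v 1 * t 0)) * hx -
        (u 0 * t 0 * (u 0 * t 1 - u 1 * t 0)) * hy + (u 0 * v 0 * (u 0 * v 1 - u 1 * v 0)) * hz
    refine scalar_smul h01 h10 ?_ w
    rw [h01, h10] at hx hy
    rw [← sub_eq_zero]
    by_contra h0
    have hu2 : u 0 * u 1 = 0 := by
      apply (mul_eq_zero.1 (?_ : (s.1 0 0 - s.1 1 1) * (u 0 * u 1) = 0)).resolve_left h0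
      linear_combination hx
    have hv2 : v 0 * v 1 = 0 := by
      apply (mul_eq_zero.1 (?_ : (s.1 0 0 - s.1 1 1) * (v 0 * v 1) = 0)).resolve_left h0
      linear_combination hy
    rw [h01, h10] at hz
    have ht2 : t 0 * t 1 = 0 := by
      apply (mul_eq_zero.1 (?_ : (s.1 0 0 - s.1 1 1) * (t 0 * t 1) = 0)).resolve_left h0
      linear_combination hz
    rcases mul_eq_zero.1 hu2 with a | a <;> rcases mul_eq_zero.1 hv2 with b | b <;>
      rcases mul_eq_zero.1 ht2 with c | c <;> simp_all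

end proj

section main

universe u v

variable {G : Type u} {Ω : Type v} [Group G] [MulAction G Ω] {T : Subgroup G}

theorem ident₂ (A : AS G Ω T) {F : Type*} [Field F] [Fintype F]
    (e : Nonempty (↥T ≃* ProjectiveSpecialLinearGroup (Fin 2) F)) (hn : Nat.card Ω = Fintype.card F + 1) :
    ∃ (φ : _root_.Matrix.SpecialLinearGroup (Fin 2) F →* ↥T) (f : Ω ≃ ℙ F (Fin 2 → F)), Function.Surjective φ ∧
      ∀ (s : _root_.Matrix.SpecialLinearGroup (Fin 2) F) (x : Ω), f (φ s • x) = s • f x := by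
  have hq : 1 < Fintype.card F := Fintype.one_lt_card
  refine PslRow.ident A le_rfl e ?_
  rw [hn]
  obtain ⟨m, hm⟩ := Nat.exists_eq_add_of_lt hq
  rw [hm]
  have h1 : 1 + m + 1 - 1 = m + 1 := by omega
  rw [h1]
  have h2 : (1 + m + 1) ^ 2 = (1 + m + 1 + 1) * (m + 1) + 1 := by ring
  rw [h2, Nat.add_sub_cancel]

theorem fix_le_two (A : AS G Ω T) {F : Type*} [Field F] [Fintype F]
    (e : Nonempty (↥T ≃* ProjectiveSpecialLinearGroup (Fin 2) F)) (hn : Nat.card Ω = Fintype.card F + 1) :
    ∀ t ∈ T, t ≠ 1 → {x : Ω | t • x = x}.ncard ≤ 2 := by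
  obtain ⟨φ, f, hφ, hf⟩ := ident₂ A e hn
  have := A.finΩ
  have := A.faithful
  intro t ht h1
  by_contra hcon
  push Not at hcon
  obtain ⟨x, y, z, hx, hy, hz, hxy, hxz, hyz⟩ := (Set.two_lt_ncard_iff (Set.toFinite _)).1 hcon
  obtain ⟨s, hs⟩ := hφ ⟨t, ht⟩
  have key : ∀ w : Ω, t • w = w ↔ s • f w = f w := by
    intro w
    rw [← hf, hs]
    exact (f.injective.eq_iff (a := (⟨t, ht⟩ : ↥T) • w) (b := w)).symm
  apply h1
  apply eq_of_smul_eq_smul (α := Ω)
  intro w
  rw [one_smul, key]
  exact trivial_of_three (fun h => hxy (f.injective h)) (fun h => hxz (f.injective h))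
    (fun h => hyz (f.injective h)) ((key x).1 hx) ((key y).1 hy) ((key z).1 hz) _

theorem card_T {F : Type*} [Field F] [Fintype F]
    (e : Nonempty (↥T ≃* ProjectiveSpecialLinearGroup (Fin 2) F)) :
    Nat.card ↥T * Nat.gcd 2 (Fintype.card F - 1) = Fintype.card F * (Fintype.card F ^ 2 - 1) := by
  obtain ⟨e⟩ := e
  rw [Nat.card_congr e.toEquiv]
  exact Cfsg.Agent.ClassicalGeometry.PSL2Basic.card_PSL2_gcd F

theorem card_G (A : AS G Ω T) {F : Type*} [Field F] [Fintype F]
    (e : Nonempty (↥T ≃* ProjectiveSpecialLinearGroup (Fin 2) F)) (h4 : 4 ≤ Fintype.card F) {p f : ℕ}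
    (hp : p.Prime) (hf : 1 ≤ f) (hF : Fintype.card F = p ^ f) :
    ∃ d, d ∣ Nat.gcd 2 (Fintype.card F - 1) * f ∧ Nat.card G = d * Nat.card ↥T := by
  have : Fact p.Prime := ⟨hp⟩
  have := A.finG
  have h1 := Cfsg.Agent.H436.TT.card_dvd_aut A
  obtain ⟨e⟩ := e
  have hcT : Nat.card ↥T = Nat.card (Matrix.ProjectiveSpecialLinearGroup (Fin 2) F) := Nat.card_congr e.toEquiv
  have h2 : Nat.card (MulAut (Matrix.ProjectiveSpecialLinearGroup (Fin 2) F)) =
      Nat.gcd 2 (Fintype.card F - 1) * f * Nat.card (Matrix.ProjectiveSpecialLinearGroup (Fin 2) F) := by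
    rw [Cfsg.Agent.S0813.result p f hf hF 2 le_rfl (fun _ => by rw [← hF]; exact h4), if_pos rfl,
      Cfsg.Agent.ClassicalGeometry.PSL2Basic.card_PGL2, ← Cfsg.Agent.ClassicalGeometry.PSL2Basic.card_PSL2_gcd]
    ring
  rw [Cfsg.Agent.H436.TT.card_mulAut_congr e, h2, ← hcT] at h1
  obtain ⟨d, hd⟩ := Subgroup.card_subgroup_dvd_card T
  have hpos : 0 < Nat.card ↥T := Nat.card_pos
  refine ⟨d, ?_, by rw [hd, mul_comm]⟩
  rw [hd, mul_comm (Nat.card ↥T) d] at h1
  exact Nat.dvd_of_mul_dvd_mul_right hpos h1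

end main

end Cfsg.Agent.H391.KPslB
end

-- part: H391/KPslD
section
/-!
# Row `PSL_2(q)` of S3564: explicit elements (helper391)
-/

set_option autoImplicit false
set_option linter.unusedSectionVars false
set_option linter.unusedSimpArgs false

namespace Cfsg.Agent.H391.KPslD

open Matrix MulAction Cfsg.Agent.H384.TwoTrans Cfsg.Agent.H391.KPslB Cfsg.Agent.H397.KHom Cfsg.Agent.H391.KOrb
open scoped LinearAlgebra.Projectivization Pointwise

universe u v

variable {G : Type u} {Ω : Type v} [Group G] [MulAction G Ω] {T : Subgroup G}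
variable {F : Type*} [Field F]

/-- a projective point -/
def pt (x y : F) (h : x ≠ 0 ∨ y ≠ 0) : ℙ F (Fin 2 → F) :=
  Projectivization.mk F ![x, y] (by
    intro h0
    have h1 := congrFun h0 0
    have h2 := congrFun h0 1
    simp at h1 h2
    rcases h with h | h
    · exact h h1
    · exact h h2)

theorem pt_eq_iff {x y x' y' : F} (h : x ≠ 0 ∨ y ≠ 0) (h' : x' ≠ 0 ∨ y' ≠ 0) :
    pt x y h = pt x' y' h' ↔ x * y' = y * x' := by
  unfold pt
  rw [eq_iff]
  simp

theorem smul_pt_iff (s : _root_.Matrix.SpecialLinearGroup (Fin 2) F) {x y x' y' : F} (h : x ≠ 0 ∨ y ≠ 0) (h' : x' ≠ 0 ∨ y' ≠ 0) :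
    s • pt x y h = pt x' y' h' ↔
      (s.1 0 0 * x + s.1 0 1 * y) * y' = (s.1 1 0 * x + s.1 1 1 * y) * x' := by
  unfold pt
  rw [smul_eq_iff]
  simp only [_root_.Fin.isValue, _root_.Matrix.cons_val_zero, _root_.Matrix.cons_val_one, _root_.Matrix.cons_val_fin_one]

/-- the element with given entries -/
def sl (a b c d : F) (h : a * d - b * c = 1) : _root_.Matrix.SpecialLinearGroup (Fin 2) F :=
  ⟨!![a, b; c, d], by rw [det_fin_two_of, h]⟩

theorem sl_smul_pt_iff {a b c d : F} (hd : a * d - b * c = 1) {x y x' y' : F} (h : x ≠ 0 ∨ y ≠ 0)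
    (h' : x' ≠ 0 ∨ y' ≠ 0) :
    sl a b c d hd • pt x y h = pt x' y' h' ↔ (a * x + b * y) * y' = (c * x + d * y) * x' := by
  rw [smul_pt_iff]
  simp only [sl, _root_.Fin.isValue, _root_.Matrix.of_apply, _root_.Matrix.cons_val', _root_.Matrix.cons_val_zero, _root_.Matrix.cons_val_fin_one, _root_.Matrix.cons_val_one]

variable {φ : _root_.Matrix.SpecialLinearGroup (Fin 2) F →* ↥T} {f : Ω ≃ ℙ F (Fin 2 → F)}

theorem smul_symm (hf : ∀ (s : _root_.Matrix.SpecialLinearGroup (Fin 2) F) (x : Ω), f (φ s • x) = s • f x)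
    (s : _root_.Matrix.SpecialLinearGroup (Fin 2) F) (p : ℙ F (Fin 2 → F)) : (φ s : G) • f.symm p = f.symm (s • p) := by
  rw [Equiv.eq_symm_apply]
  have := hf s (f.symm p)
  rw [f.apply_symm_apply] at this
  exact this

theorem eq_one_of_trivial [FaithfulSMul G Ω]
    (hf : ∀ (s : _root_.Matrix.SpecialLinearGroup (Fin 2) F) (x : Ω), f (φ s • x) = s • f x)
    {s : _root_.Matrix.SpecialLinearGroup (Fin 2) F} (h : ∀ p : ℙ F (Fin 2 → F), s • p = p) : (φ s : G) = 1 := by
  apply eq_of_smul_eq_smul (α := Ω)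
  intro x
  obtain ⟨p, rfl⟩ := f.symm.surjective x
  rw [smul_symm hf, h, one_smul]

theorem ne_one_of_moves (hf : ∀ (s : _root_.Matrix.SpecialLinearGroup (Fin 2) F) (x : Ω), f (φ s • x) = s • f x)
    {s : _root_.Matrix.SpecialLinearGroup (Fin 2) F} {p : ℙ F (Fin 2 → F)} (h : s • p ≠ p) : (φ s : G) ≠ 1 := by
  intro h1
  have := smul_symm hf s p
  rw [h1, one_smul] at this
  exact h (f.symm.injective this).symm

theorem mul_val (s t : _root_.Matrix.SpecialLinearGroup (Fin 2) F) (i j : Fin 2) :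
    (s * t).1 i j = s.1 i 0 * t.1 0 j + s.1 i 1 * t.1 1 j := by
  change (s.1 * t.1) i j = _
  rw [mul_apply, Fin.sum_univ_two]

/-- an element swapping two points is an involution -/
theorem swap (A : AS G Ω T) [Fintype F]
    (e : Nonempty (↥T ≃* ProjectiveSpecialLinearGroup (Fin 2) F)) (hn : Nat.card Ω = Fintype.card F + 1) :
    ∀ t ∈ T, ∀ x y : Ω, x ≠ y → t • x = y → t • y = x → ∀ z : Ω, t • t • z = z := by
  obtain ⟨φ, f, hφ, hf⟩ := ident₂ A e hn
  intro t ht x y hxy hx hy z
  obtain ⟨s, hs⟩ := hφ ⟨t, ht⟩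
  have hst : ∀ w : Ω, f (t • w) = s • f w := by
    intro w
    rw [← hf, hs]
    rfl
  have hx' : s • f x = f y := by rw [← hst, hx]
  have hy' : s • f y = f x := by rw [← hst, hy]
  have hne : f x ≠ f y := fun h => hxy (f.injective h)
  apply f.injective
  rw [hst, hst]
  generalize f x = X at hx' hy' hne
  generalize f y = Y at hx' hy' hne
  generalize f z = Z
  induction X using Projectivization.ind with
  | h u hu =>
  induction Y using Projectivization.ind with
  | h v hv =>
  induction Z using Projectivization.ind with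
  | h w hw =>
    rw [smul_eq_iff] at hx' hy'
    rw [Ne, eq_iff] at hne
    have htr : s.1 0 0 + s.1 1 1 = 0 := by
      apply (mul_eq_zero.1 (?_ : (s.1 0 0 + s.1 1 1) * (u 0 * v 1 - u 1 * v 0) = 0)).resolve_right
        (sub_ne_zero.2 hne)
      linear_combination hx' - hy'
    rw [← mul_smul, smul_eq_iff]
    rw [mul_val, mul_val, mul_val, mul_val]
    linear_combination (s.1 0 1 * w 1 * w 1 + s.1 0 0 * w 0 * w 1 - s.1 1 0 * w 0 * w 0 - s.1 1 1 * w 0 * w 1) * htr

end Cfsg.Agent.H391.KPslD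
end

-- part: H391/KPslE
section
/-!
# Row `PSL_2(q)` of S3564: `q = 11`, `13`, `16` (helper391)
-/

set_option autoImplicit false
set_option linter.unusedSectionVars false
set_option linter.unusedSimpArgs false

namespace Cfsg.Agent.H391.KPslD

open Matrix MulAction Cfsg.Agent.H384.TwoTrans Cfsg.Agent.H391.KPslB Cfsg.Agent.H397.KHom Cfsg.Agent.H391.KOrb
open scoped LinearAlgebra.Projectivization Pointwise

universe u v

variable {G : Type u} {Ω : Type v} [Group G] [MulAction G Ω] {T : Subgroup G}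
variable {F : Type*} [Field F] [Fintype F]

theorem cast_zero {m : ℕ} (hF : Fintype.card F = m) : ((m : ℕ) : F) = 0 := by
  rw [← hF]
  exact Nat.cast_card_eq_zero F

theorem coe_pow_map {φ : _root_.Matrix.SpecialLinearGroup (Fin 2) F →* ↥T} (s : _root_.Matrix.SpecialLinearGroup (Fin 2) F) (m : ℕ) :
    (φ s : G) ^ m = (φ (s ^ m) : G) := by
  rw [map_pow, Subgroup.coe_pow]

/-- `q = 11`, `k = 6` -/
theorem case_11 (A : AS G Ω T) [DecidableEq Ω] (hF : Fintype.card F = 11)
    (e : Nonempty (↥T ≃* ProjectiveSpecialLinearGroup (Fin 2) F)) (hn : Nat.card Ω = Fintype.card F + 1)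
    (h : Hom G Ω 6) : Homog G Ω 5 := by
  obtain ⟨φ, f, hφ, hf⟩ := ident₂ A e hn
  have := A.finG
  have := A.finΩ
  have := A.faithful
  have h11 : (11 : F) = 0 := by exact_mod_cast cast_zero hF
  let s : _root_.Matrix.SpecialLinearGroup (Fin 2) F := sl 0 1 (-1) 5 (by ring)
  have s00 : s.1 0 0 = 0 := rfl
  have s01 : s.1 0 1 = 1 := rfl
  have s10 : s.1 1 0 = -1 := rfl
  have s11 : s.1 1 1 = 5 := rfl
  have hs6 : s ^ 6 = (s * s * s) * (s * s * s) := by
    simp only [pow_succ, pow_zero, one_mul, mul_assoc]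
  have g6 : (φ s : G) ^ 6 = 1 := by
    rw [coe_pow_map, hs6]
    refine eq_one_of_trivial hf fun p => scalar_smul ?_ ?_ ?_ p
    · simp only [mul_val, s00, s01, s10, s11]
      linear_combination (240 : F) * h11
    · simp only [mul_val, s00, s01, s10, s11]
      linear_combination (-240 : F) * h11
    · simp only [mul_val, s00, s01, s10, s11]
      linear_combination (-1200 : F) * h11
  have g2 : (φ s : G) ^ 2 ≠ 1 := by
    rw [coe_pow_map, pow_two]
    refine ne_one_of_moves hf (p := pt 1 0 (Or.inl one_ne_zero)) ?_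
    rw [Ne, smul_pt_iff]
    simp only [mul_val, s00, s01, s10, s11]
    intro h0
    have : (1 : F) = 0 := by linear_combination (-2 : F) * h0 + h11
    exact one_ne_zero this
  have g3 : (φ s : G) ^ 3 ≠ 1 := by
    rw [coe_pow_map, pow_succ, pow_two]
    refine ne_one_of_moves hf (p := pt 1 0 (Or.inl one_ne_zero)) ?_
    rw [Ne, smul_pt_iff]
    simp only [mul_val, s00, s01, s10, s11]
    intro h0
    have : (1 : F) = 0 := by linear_combination (-5 : F) * h0 + 11 * h11
    exact one_ne_zero this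
  have hfix := fix_le_two A e hn
  have h2 := hfix _ (pow_mem (φ s).2 2) g2
  have h3 := hfix _ (pow_mem (φ s).2 3) g3
  obtain ⟨x, hx⟩ := exists_orbit_six g6 (Ω := Ω) (by rw [hn, hF]; omega)
  exact h.homog_of_orbit (by omega) _ x hx

variable {φ : _root_.Matrix.SpecialLinearGroup (Fin 2) F →* ↥T} {f : Ω ≃ ℙ F (Fin 2 → F)}

theorem stab_of [DecidableEq Ω] (hf : ∀ (s : _root_.Matrix.SpecialLinearGroup (Fin 2) F) (x : Ω), f (φ s • x) = s • f x)
    {s : _root_.Matrix.SpecialLinearGroup (Fin 2) F} {I : Finset (ℙ F (Fin 2 → F))} (h : ∀ p ∈ I, s • p ∈ I) :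
    (φ s : G) ∈ stabilizer G (I.map f.symm.toEmbedding) := by
  rw [mem_stabilizer_iff]
  refine Finset.eq_of_subset_of_card_le (smul_subset_iff.2 fun x hx => ?_) (by rw [Finset.card_smul_finset])
  rw [Finset.mem_map] at hx
  obtain ⟨p, hp, rfl⟩ := hx
  rw [Finset.mem_map]
  exact ⟨s • p, h p hp, (smul_symm hf s p).symm⟩

/-- `q = 13`, `k = 5` -/
theorem case_13 (A : AS G Ω T) [DecidableEq Ω] [Fintype Ω] (hF : Fintype.card F = 13)
    (e : Nonempty (↥T ≃* ProjectiveSpecialLinearGroup (Fin 2) F)) (hn : Nat.card Ω = Fintype.card F + 1)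
    (h : Hom G Ω 5) : (Fintype.card Ω).choose 4 * 12 ≤ 5 * Nat.card G := by
  classical
  obtain ⟨φ, f, hφ, hf⟩ := ident₂ A e hn
  have := A.finG
  have := A.faithful
  have h13 : (13 : F) = 0 := by exact_mod_cast cast_zero hF
  have h4 : (4 : F) ≠ 0 := by
    intro h0
    have : (1 : F) = 0 := by linear_combination h13 - 3 * h0
    exact one_ne_zero this
  let P0 : ℙ F (Fin 2 → F) := pt 0 1 (Or.inr one_ne_zero)
  let P1 : ℙ F (Fin 2 → F) := pt 1 1 (Or.inr one_ne_zero)
  let P4 : ℙ F (Fin 2 → F) := pt 4 1 (Or.inr one_ne_zero)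
  let Pi : ℙ F (Fin 2 → F) := pt 1 0 (Or.inl one_ne_zero)
  have hi0 : Pi ≠ P0 := by rw [Ne, pt_eq_iff]; simp
  have hi1 : Pi ≠ P1 := by rw [Ne, pt_eq_iff]; simp
  have hi4 : Pi ≠ P4 := by rw [Ne, pt_eq_iff]; simp
  have h01 : P0 ≠ P1 := by rw [Ne, pt_eq_iff]; simp
  have h04 : P0 ≠ P4 := by rw [Ne, pt_eq_iff]; simpa using h4.symm
  have h14 : P1 ≠ P4 := by
    rw [Ne, pt_eq_iff]
    intro h0
    have : (1 : F) = 0 := by linear_combination h13 + (4 : F) * h0
    exact one_ne_zero this
  let I : Finset (ℙ F (Fin 2 → F)) := {Pi, P0, P1, P4}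
  have hIc : I.card = 4 := by
    rw [Finset.card_insert_of_notMem, Finset.card_insert_of_notMem, Finset.card_insert_of_notMem,
      Finset.card_singleton]
    · simpa using h14
    · simpa using ⟨h01, h04⟩
    · simpa using ⟨hi0, hi1, hi4⟩
  let z : _root_.Matrix.SpecialLinearGroup (Fin 2) F := sl 0 1 (-1) 1 (by ring)
  let v : _root_.Matrix.SpecialLinearGroup (Fin 2) F := sl 0 10 9 0 (by linear_combination (-7 : F) * h13)
  have z1 : z • Pi = P0 := by rw [sl_smul_pt_iff]; ring
  have z2 : z • P0 = P1 := by rw [sl_smul_pt_iff]; ring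
  have z3 : z • P1 = Pi := by rw [sl_smul_pt_iff]; ring
  have z4 : z • P4 = P4 := by rw [sl_smul_pt_iff]; linear_combination h13
  have v1 : v • Pi = P0 := by rw [sl_smul_pt_iff]; ring
  have v2 : v • P0 = Pi := by rw [sl_smul_pt_iff]; ring
  have v3 : v • P1 = P4 := by rw [sl_smul_pt_iff]; linear_combination (-2 : F) * h13
  have v4 : v • P4 = P1 := by rw [sl_smul_pt_iff]; linear_combination (-2 : F) * h13
  have hz : ∀ p ∈ I, z • p ∈ I := by
    intro p hp
    simp only [I, Finset.mem_insert, Finset.mem_singleton] at hp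
    rcases hp with rfl | rfl | rfl | rfl
    · rw [z1]; simp only [I, _root_.Finset.mem_insert, _root_.Finset.mem_singleton, _root_.true_or, _root_.or_true]
    · rw [z2]; simp only [I, _root_.Finset.mem_insert, _root_.Finset.mem_singleton, _root_.true_or, _root_.or_true]
    · rw [z3]; simp only [I, _root_.Finset.mem_insert, _root_.Finset.mem_singleton, _root_.true_or]
    · rw [z4]; simp only [I, _root_.Finset.mem_insert, _root_.Finset.mem_singleton, _root_.or_true]
  have hv : ∀ p ∈ I, v • p ∈ I := by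
    intro p hp
    simp only [I, Finset.mem_insert, Finset.mem_singleton] at hp
    rcases hp with rfl | rfl | rfl | rfl
    · rw [v1]; simp only [I, _root_.Finset.mem_insert, _root_.Finset.mem_singleton, _root_.true_or, _root_.or_true]
    · rw [v2]; simp only [I, _root_.Finset.mem_insert, _root_.Finset.mem_singleton, _root_.true_or]
    · rw [v3]; simp only [I, _root_.Finset.mem_insert, _root_.Finset.mem_singleton, _root_.or_true]
    · rw [v4]; simp only [I, _root_.Finset.mem_insert, _root_.Finset.mem_singleton, _root_.true_or, _root_.or_true]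
  have hzs := stab_of (G := G) hf hz
  have hvs := stab_of (G := G) hf hv
  obtain ⟨H, hH⟩ : ∃ H : Subgroup G, H = stabilizer G (I.map f.symm.toEmbedding) := ⟨_, rfl⟩
  rw [← hH] at hzs hvs
  -- order 3
  have h3 : 3 ∣ Nat.card H := by
    have h5 : orderOf (φ z : G) = 3 := by
      apply orderOf_eq_prime (p := 3) (hp := ⟨Nat.prime_three⟩)
      · rw [coe_pow_map, pow_succ, pow_two]
        have z00 : z.1 0 0 = 0 := rfl
        have z01 : z.1 0 1 = 1 := rfl
        have z10 : z.1 1 0 = -1 := rfl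
        have z11 : z.1 1 1 = 1 := rfl
        refine eq_one_of_trivial hf fun p => scalar_smul ?_ ?_ ?_ p
        · simp only [mul_val, z00, z01, z10, z11]
          ring
        · simp only [mul_val, z00, z01, z10, z11]
          ring
        · simp only [mul_val, z00, z01, z10, z11]
          ring
      · refine ne_one_of_moves hf (p := Pi) ?_
        rw [z1]
        exact hi0.symm
    rw [← h5]
    exact Subgroup.orderOf_dvd_natCard H hzs
  have horb : orbit H (f.symm Pi) = ((I.map f.symm.toEmbedding : Finset Ω) : Set Ω) := by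
    apply Set.Subset.antisymm
    · rintro _ ⟨⟨g, hg⟩, rfl⟩
      rw [hH, mem_stabilizer_iff] at hg
      change g • f.symm Pi ∈ _
      rw [Finset.mem_coe, ← hg]
      exact Finset.smul_mem_smul_finset (Finset.mem_map_of_mem f.symm.toEmbedding (by simp [I]))
    · intro x hx
      rw [Finset.mem_coe, Finset.mem_map] at hx
      obtain ⟨p, hp, rfl⟩ := hx
      simp only [I, Finset.mem_insert, Finset.mem_singleton] at hp
      rcases hp with rfl | rfl | rfl | rfl
      · exact mem_orbit_self _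
      · refine ⟨⟨φ z, hzs⟩, ?_⟩
        change (φ z : G) • f.symm Pi = f.symm P0
        rw [smul_symm hf, z1]
      · refine ⟨⟨φ z * φ z, mul_mem hzs hzs⟩, ?_⟩
        change ((φ z : G) * φ z) • f.symm Pi = f.symm P1
        rw [mul_smul, smul_symm hf, smul_symm hf, z1, z2]
      · refine ⟨⟨φ v * (φ z * φ z), mul_mem hvs (mul_mem hzs hzs)⟩, ?_⟩
        change ((φ v : G) * (φ z * φ z)) • f.symm Pi = f.symm P4
        rw [mul_smul, mul_smul, smul_symm hf, smul_symm hf, smul_symm hf, z1, z2, v3]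
  have h4' := ncard_orbit_mul H (f.symm Pi)
  rw [horb, Set.ncard_coe_finset, Finset.card_map, hIc] at h4'
  have h12 : 12 ≤ Nat.card H := by
    have h5 : 4 ∣ Nat.card H := Dvd.intro _ h4'
    have h6 : 12 ∣ Nat.card H := by omega
    exact Nat.le_of_dvd Nat.card_pos h6
  refine (Nat.mul_le_mul_left _ h12).trans ?_
  refine h.choose_mul_card_le (by omega) ?_ H (I := I.map f.symm.toEmbedding) (by rw [Finset.card_map, hIc]) ?_
  · rw [← Nat.card_eq_fintype_card, hn, hF]
    omega
  · intro g hg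
    rw [hH] at hg
    exact hg

end Cfsg.Agent.H391.KPslD
end

-- part: H391/KPslE2
section
/-!
# Row `PSL_2(q)` of S3564: `q = 16`, `k = 7` (helper391)
-/

set_option autoImplicit false
set_option linter.unusedSectionVars false
set_option linter.unusedSimpArgs false

namespace Cfsg.Agent.H391.KPslD

open Matrix MulAction Cfsg.Agent.H384.TwoTrans Cfsg.Agent.H391.KPslB Cfsg.Agent.H397.KHom Cfsg.Agent.H391.KOrb
open scoped LinearAlgebra.Projectivization Pointwise

universe u v

variable {G : Type u} {Ω : Type v} [Group G] [MulAction G Ω] {T : Subgroup G}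
variable {F : Type*} [Field F] [Fintype F]

/-- `q = 16`, `k = 7` -/
theorem case_16 (A : AS G Ω T) [DecidableEq Ω] [Fintype Ω] (hF : Fintype.card F = 16)
    (e : Nonempty (↥T ≃* ProjectiveSpecialLinearGroup (Fin 2) F)) (hn : Nat.card Ω = Fintype.card F + 1)
    (h : Hom G Ω 7) : (Fintype.card Ω).choose 6 * 10 ≤ 7 * Nat.card G := by
  classical
  obtain ⟨φ, f, hφ, hf⟩ := ident₂ A e hn
  have := A.finG
  have := A.faithful
  have h16 : (16 : F) = 0 := by exact_mod_cast cast_zero hF
  have h2 : (2 : F) = 0 := by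
    have : (2 : F) ^ 4 = 0 := by linear_combination h16
    exact pow_eq_zero_iff (by norm_num) |>.1 this
  -- a fifth root of unity
  obtain ⟨ζ, hζ⟩ : ∃ ζ : Fˣ, orderOf ζ = 5 := by
    have : Fact (Nat.Prime 5) := ⟨Nat.prime_five⟩
    apply exists_prime_orderOf_dvd_card 5
    rw [Fintype.card_units, hF]
    norm_num
  have hζ5 : (ζ : F) ^ 5 = 1 := by
    have := pow_orderOf_eq_one ζ
    rw [hζ] at this
    rw [← Units.val_pow_eq_pow_val, this, Units.val_one]
  have hζ0 : (ζ : F) ≠ 0 := ζ.ne_zero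
  let S : Finset F := (Finset.range 5).image (fun i => (ζ : F) ^ i)
  have hSc : S.card = 5 := by
    rw [Finset.card_image_of_injOn, Finset.card_range]
    intro i hi j hj hij
    rw [Finset.coe_range, Set.mem_Iio] at hi hj
    have h5 : ζ ^ i = ζ ^ j := by
      apply Units.ext
      rw [Units.val_pow_eq_pow_val, Units.val_pow_eq_pow_val]
      exact hij
    rw [pow_inj_mod, hζ] at h5
    omega
  have hSm : ∀ x, x ∈ S ↔ ∃ i : ℕ, x = (ζ : F) ^ i := by
    intro x
    rw [Finset.mem_image]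
    constructor
    · rintro ⟨i, -, rfl⟩
      exact ⟨i, rfl⟩
    · rintro ⟨i, rfl⟩
      refine ⟨i % 5, Finset.mem_range.2 (Nat.mod_lt _ (by norm_num)), ?_⟩
      conv_rhs => rw [← Nat.div_add_mod i 5, pow_add, pow_mul, hζ5, one_pow, one_mul]
  let pa : F → ℙ F (Fin 2 → F) := fun x => pt x 1 (Or.inr one_ne_zero)
  have hpa : Function.Injective pa := by
    intro x y hxy
    have := (pt_eq_iff _ _).1 hxy
    simpa using this
  let Pi : ℙ F (Fin 2 → F) := pt 1 0 (Or.inl one_ne_zero)
  have hPia : ∀ x, Pi ≠ pa x := by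
    intro x
    rw [Ne, pt_eq_iff]
    simp
  have hS0 : (0 : F) ∉ S := by
    rw [hSm]
    rintro ⟨i, hi⟩
    exact pow_ne_zero i hζ0 hi.symm
  let I : Finset (ℙ F (Fin 2 → F)) := insert Pi (insert (pa 0) (S.image pa))
  have hIc : I.card = 7 := by
    rw [Finset.card_insert_of_notMem, Finset.card_insert_of_notMem, Finset.card_image_of_injective _ hpa, hSc]
    · intro h0
      rw [Finset.mem_image] at h0
      obtain ⟨x, hx, hx0⟩ := h0
      exact hS0 (hpa hx0 ▸ hx)
    · intro h0
      rw [Finset.mem_insert, Finset.mem_image] at h0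
      rcases h0 with h0 | ⟨x, -, hx0⟩
      · exact hPia _ h0
      · exact hPia _ hx0.symm
  let s : _root_.Matrix.SpecialLinearGroup (Fin 2) F := sl ((ζ : F) ^ 3) 0 0 ((ζ : F) ^ 2) (by linear_combination hζ5)
  let t : _root_.Matrix.SpecialLinearGroup (Fin 2) F := sl 0 1 (-1) 0 (by ring)
  have s1 : s • Pi = Pi := by rw [sl_smul_pt_iff]; ring
  have s2 : ∀ x, s • pa x = pa (ζ * x) := by
    intro x
    rw [sl_smul_pt_iff]
    ring
  have t1 : t • Pi = pa 0 := by rw [sl_smul_pt_iff]; ring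
  have t2 : t • pa 0 = Pi := by rw [sl_smul_pt_iff]; ring
  have t3 : ∀ x, x ≠ 0 → t • pa x = pa x⁻¹ := by
    intro x hx
    rw [sl_smul_pt_iff]
    have hxx : x * x⁻¹ = 1 := mul_inv_cancel₀ hx
    linear_combination hxx + h2
  have hs : ∀ p ∈ I, s • p ∈ I := by
    intro p hp
    simp only [I, Finset.mem_insert, Finset.mem_image] at hp ⊢
    rcases hp with rfl | rfl | ⟨x, hx, rfl⟩
    · exact Or.inl s1
    · exact Or.inr (Or.inl (by rw [s2, mul_zero]))
    · refine Or.inr (Or.inr ⟨ζ * x, ?_, (s2 x).symm⟩)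
      rw [hSm] at hx ⊢
      obtain ⟨i, rfl⟩ := hx
      exact ⟨i + 1, by rw [pow_succ']⟩
  have ht : ∀ p ∈ I, t • p ∈ I := by
    intro p hp
    simp only [I, Finset.mem_insert, Finset.mem_image] at hp ⊢
    rcases hp with rfl | rfl | ⟨x, hx, rfl⟩
    · exact Or.inr (Or.inl t1)
    · exact Or.inl t2
    · rw [hSm] at hx
      obtain ⟨i, rfl⟩ := hx
      refine Or.inr (Or.inr ⟨ζ ^ (4 * i), ?_, ?_⟩)
      · rw [hSm]
        exact ⟨4 * i, rfl⟩
      · rw [t3 _ (pow_ne_zero i hζ0)]
        (with_reducible congr 1)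
        apply eq_inv_of_mul_eq_one_left
        rw [← pow_add]
        have : 4 * i + i = 5 * i := by ring
        rw [this, pow_mul, hζ5, one_pow]
  have hss := stab_of (G := G) hf hs
  have hts := stab_of (G := G) hf ht
  obtain ⟨H, hH⟩ : ∃ H : Subgroup G, H = stabilizer G (I.map f.symm.toEmbedding) := ⟨_, rfl⟩
  rw [← hH] at hss hts
  have h5 : 5 ∣ Nat.card H := by
    have h5 : orderOf (φ s : G) = 5 := by
      apply orderOf_eq_prime (p := 5) (hp := ⟨Nat.prime_five⟩)
      · rw [coe_pow_map, pow_succ, pow_succ, pow_succ, pow_two]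
        have s00 : s.1 0 0 = (ζ : F) ^ 3 := rfl
        have s01 : s.1 0 1 = 0 := rfl
        have s10 : s.1 1 0 = 0 := rfl
        have s11 : s.1 1 1 = (ζ : F) ^ 2 := rfl
        refine eq_one_of_trivial hf fun p => scalar_smul ?_ ?_ ?_ p
        · simp only [mul_val, s00, s01, s10, s11]
          ring
        · simp only [mul_val, s00, s01, s10, s11]
          ring
        · simp only [mul_val, s00, s01, s10, s11]
          have e1 : (ζ : F) ^ 15 = 1 := by
            have : (ζ : F) ^ 15 = ((ζ : F) ^ 5) ^ 3 := by ring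
            rw [this, hζ5, one_pow]
          have e2 : (ζ : F) ^ 10 = 1 := by
            have : (ζ : F) ^ 10 = ((ζ : F) ^ 5) ^ 2 := by ring
            rw [this, hζ5, one_pow]
          linear_combination e1 - e2
      · refine ne_one_of_moves hf (p := pa 1) ?_
        rw [s2, mul_one]
        intro h0
        have h6 := hpa h0
        have h7 : ζ = 1 := Units.ext h6
        rw [h7, orderOf_one] at hζ
        omega
    rw [← h5]
    exact Subgroup.orderOf_dvd_natCard H hss
  have h2' : 2 ∣ Nat.card H := by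
    have h5 : orderOf (φ t : G) = 2 := by
      apply orderOf_eq_prime (p := 2) (hp := ⟨Nat.prime_two⟩)
      · rw [coe_pow_map, pow_two]
        have t00 : t.1 0 0 = 0 := rfl
        have t01 : t.1 0 1 = 1 := rfl
        have t10 : t.1 1 0 = -1 := rfl
        have t11 : t.1 1 1 = 0 := rfl
        refine eq_one_of_trivial hf fun p => scalar_smul ?_ ?_ ?_ p
        · simp only [mul_val, t00, t01, t10, t11]
          ring
        · simp only [mul_val, t00, t01, t10, t11]
          ring
        · simp only [mul_val, t00, t01, t10, t11]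
          ring
      · refine ne_one_of_moves hf (p := Pi) ?_
        rw [t1]
        exact (hPia 0).symm
    rw [← h5]
    exact Subgroup.orderOf_dvd_natCard H hts
  have h10 : 10 ≤ Nat.card H := by
    have h6 : 10 ∣ Nat.card H := by omega
    exact Nat.le_of_dvd Nat.card_pos h6
  refine (Nat.mul_le_mul_left _ h10).trans ?_
  refine h.choose_mul_card_le' (by omega) H (J := I.map f.symm.toEmbedding) (by rw [Finset.card_map, hIc]) ?_
  intro g hg
  rw [hH] at hg
  exact hg

end Cfsg.Agent.H391.KPslD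
end

-- part: H391/KPslTwo
section
/-!
# Row `PSL_2(q)`, `n = q + 1`, of S3564 (helper391)
-/

set_option autoImplicit false
set_option linter.unusedSectionVars false

namespace Cfsg.Agent.H391.KPslTwo

open MulAction Cfsg.Agent.H397.KHom Cfsg.Agent.H384.TwoTrans Cfsg.Agent.H391.KOrb Cfsg.Agent.H391.KPslA
open Cfsg.Agent.H391.KPslB Cfsg.Agent.H391.KPslC Cfsg.Agent.H391.KPslD Cfsg.Agent.H391.KPslNum

open scoped Pointwise

universe u v

theorem c14 : Nat.choose (13 + 1) 4 = 1001 := by rw [← ch_eq]; decide +kernel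
theorem c18 : Nat.choose (17 + 1) 4 = 3060 := by rw [← ch_eq]; decide +kernel
theorem c28 : Nat.choose (27 + 1) (5 - 1) = 20475 := by rw [← ch_eq]; decide +kernel
theorem c33 : Nat.choose (32 + 1) 4 = 40920 := by rw [← ch_eq]; decide +kernel
theorem c129 : Nat.choose (128 + 1) 4 = 11009376 := by rw [← ch_eq]; decide +kernel
theorem c17 : Nat.choose (16 + 1) 6 = 12376 := by rw [← ch_eq]; decide +kernel

variable {G : Type u} {Ω : Type v} [Group G] [MulAction G Ω] {T : Subgroup G} [DecidableEq Ω] [Fintype Ω]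

theorem four_dvd {p f q t : ℕ} (hp : p.Prime) (hq : q = p ^ f) (h4 : 4 ≤ q)
    (ht : t * Nat.gcd 2 (q - 1) = q * (q ^ 2 - 1)) : 4 ∣ t := by
  rcases Nat.even_or_odd q with he | ho
  · have h1 : Nat.gcd 2 (q - 1) = 1 := by
      rw [Nat.coprime_iff_gcd_eq_one.symm, Nat.coprime_two_left]
      exact Nat.Even.sub_odd (by omega) he odd_one
    rw [h1, mul_one] at ht
    rw [ht]
    apply Dvd.dvd.mul_right
    have h2 : p = 2 := by
      rw [hq] at he
      have h3 : Even p := (Nat.even_pow.1 he).1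
      exact (Nat.Prime.even_iff hp).1 h3
    rw [h2] at hq
    have hf : 2 ≤ f := by
      by_contra hcon
      have : f ≤ 1 := by omega
      interval_cases f <;> omega
    rw [hq]
    exact pow_dvd_pow 2 hf
  · have h1 : Nat.gcd 2 (q - 1) = 2 := by
      obtain ⟨m, hm⟩ := ho
      have h2 : q - 1 = 2 * m := by omega
      rw [h2]
      exact Nat.gcd_eq_left (Dvd.intro m rfl)
    rw [h1] at ht
    obtain ⟨m, hm⟩ := ho
    have h2 : q ^ 2 - 1 = 4 * (m * (m + 1)) := by
      rw [hm]
      have : (2 * m + 1) ^ 2 = 4 * (m * (m + 1)) + 1 := by ring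
      omega
    obtain ⟨c, hc⟩ := (Nat.even_mul_succ_self m).two_dvd
    rw [h2, hc] at ht
    exact ⟨q * c, by linarith only [ht]⟩

theorem gcd_le {q : ℕ} : Nat.gcd 2 (q - 1) ≤ 2 := Nat.gcd_le_left _ (by norm_num)

/-- **Row `PSL_2(q)`.** -/
theorem psl2 (A : AS G Ω T) {F : Type*} [Field F] [Fintype F]
    (e : Nonempty (↥T ≃* Matrix.ProjectiveSpecialLinearGroup (Fin 2) F)) (hn : Nat.card Ω = Fintype.card F + 1)
    {k : ℕ} (hk : 4 ≤ k) (h2k : 2 * k ≤ Nat.card Ω + 1) (h : Hom G Ω k) : Homog G Ω (k - 1) := by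
  classical
  have := A.finG
  have := A.faithful
  have hfix := fix_le_two A e hn
  obtain ⟨p, hpc⟩ := CharP.exists F
  obtain ⟨f', hp, hF⟩ := FiniteField.card F p
  obtain ⟨f, hf', hf⟩ : ∃ f : ℕ, f = (f' : ℕ) ∧ 1 ≤ f := ⟨f', rfl, f'.pos⟩
  rw [← hf'] at hF
  have hn' : Fintype.card Ω = Fintype.card F + 1 := by rw [← Nat.card_eq_fintype_card, hn]
  have hcT := card_T e
  obtain ⟨d, hd, hG⟩ := card_G A e (by omega) hp hf hF
  have h4T : 4 ∣ Nat.card ↥T := four_dvd hp hF (by omega) hcT
  obtain ⟨q, hq⟩ : ∃ q, Fintype.card F = q := ⟨_, rfl⟩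
  obtain ⟨t, ht⟩ : ∃ t, Nat.card ↥T = t := ⟨_, rfl⟩
  obtain ⟨g, hg⟩ : ∃ g, Nat.gcd 2 (q - 1) = g := ⟨_, rfl⟩
  have hgpos : 0 < g := by rw [← hg]; exact Nat.gcd_pos_of_pos_left _ (by norm_num)
  have htpos : 0 < t := by rw [← ht]; exact Nat.card_pos
  have hdpos : 0 < d := Nat.pos_of_dvd_of_pos hd (by rw [hq, hg]; positivity)
  have hgf : d ≤ g * f := by
    have := Nat.le_of_dvd (by rw [hq, hg]; positivity) hd
    rwa [hq, hg] at this
  -- subgroups of order 4
  obtain ⟨V, hVT, hV⟩ := exists_pow_subgroup (a := 2) Nat.prime_two (by simpa only [_root_.Nat.reducePow] using h4T)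
  norm_num only [] at hV
  -- `|G| ≤ f q (q² - 1)`
  have hGle : Nat.card G ≤ f * (q * (q ^ 2 - 1)) := by
    rw [hG, ht]
    calc d * t ≤ g * f * t := Nat.mul_le_mul_right _ hgf
      _ = f * (t * g) := by ring
      _ = _ := by rw [← ht, ← hg, ← hq, hcT]
  have hq2 : q ^ 2 - 1 = (q + 1) * (q - 1) := by
    obtain ⟨m, rfl⟩ : ∃ m, q = m + 1 := ⟨q - 1, by omega⟩
    have : (m + 1) ^ 2 = (m + 1 + 1) * m + 1 := by ring
    rw [this, Nat.add_sub_cancel, Nat.add_sub_cancel]
  rcases (show k = 4 ∨ k = 5 ∨ 6 ≤ k by omega) with rfl | rfl | h6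
  · exact homog_of_subgroup hfix h (by omega) h2k hVT hV
  · -- `k = 5`
    by_cases h5 : 5 ∣ Nat.card G
    · exact homog_of_prime_dvd Nat.prime_five h h5
    have h5' : ¬ 5 ∣ q * (q ^ 2 - 1) := by
      intro h0
      apply h5
      rw [hG]
      apply Dvd.dvd.mul_left
      rw [← hq, ← hcT] at h0
      refine (Nat.Coprime.dvd_of_dvd_mul_right ?_ h0)
      rw [hq, hg]
      have h1 : g ≤ 2 := by rw [← hg]; exact gcd_le
      interval_cases g <;> norm_num
    obtain ⟨x, hx⟩ := exists_regular hfix hVT (by rw [hV, hn]; omega)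
    rw [hV] at hx
    obtain ⟨O, hO⟩ : ∃ O : Finset Ω, O = (Set.toFinite (orbit V x)).toFinset := ⟨_, rfl⟩
    have hOc : O.card = 4 := by rw [hO, ← Set.ncard_eq_toFinset_card _ (Set.toFinite (orbit V x)), hx]
    have hmem : ∀ y, y ∈ O ↔ y ∈ orbit V x := fun y => by rw [hO]; exact Set.Finite.mem_toFinset _
    have hVO : ∀ v ∈ V, v • O = O := by
      intro v hv
      refine stab_mem fun y hy => ?_
      rw [hmem] at hy ⊢
      obtain ⟨w, rfl⟩ := hy
      exact ⟨⟨v, hv⟩ * w, mul_smul _ w x⟩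
    have h1 := strict_five_mul h (by omega) V hOc hVO
    rw [hV] at h1
    have h2 := Cfsg.Agent.H391.KRankOne.mul_choose_four (Fintype.card Ω)
    have hq8 : 8 ≤ q := by omega
    have h30 : q < 30 * f + 2 := by
      by_contra hcon
      push Not at hcon
      obtain ⟨m, hm⟩ : ∃ m, q = m + 2 := ⟨q - 2, by omega⟩
      have e1 : Fintype.card Ω = m + 3 := by omega
      rw [e1] at h1 h2
      have e2 : m + 3 - 1 = m + 2 := by (clear * -; omega)
      have e3 : m + 3 - 2 = m + 1 := by (clear * -; omega)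
      have e4 : m + 3 - 3 = m := by (clear * -; omega)
      rw [e2, e3, e4] at h2
      rw [hq2, hm] at hGle
      have e5 : m + 2 - 1 = m + 1 := by (clear * -; omega)
      rw [e5] at hGle
      have h3 : 30 * f ≤ m := by (clear * - hcon hm; omega)
      have h4 : (m + 3) * (m + 2) * (m + 1) * (30 * f) ≤ (m + 3) * (m + 2) * (m + 1) * m :=
        Nat.mul_le_mul_left _ h3
      have h7 : 30 * Nat.card G ≤ (m + 3) * (m + 2) * (m + 1) * (30 * f) := by
        calc 30 * Nat.card G ≤ 30 * (f * ((m + 2) * ((m + 2 + 1) * (m + 1)))) := Nat.mul_le_mul_left _ hGle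
          _ = _ := by ring
      omega
    have hcl := class5 hp hf (by rw [← hq, hF]) hq8 h30 h5'
    have hc : Fintype.card Ω = q + 1 := by omega
    simp only [List.mem_cons, Prod.mk.injEq, List.not_mem_nil, or_false] at hcl
    rcases hcl with ⟨rfl, rfl⟩ | ⟨rfl, rfl⟩ | ⟨rfl, rfl⟩ | ⟨rfl, rfl⟩ | ⟨rfl, rfl⟩ | ⟨rfl, rfl⟩ | ⟨rfl, rfl⟩
    · -- 8
      have hg1 : g = 1 := by rw [← hg]; norm_num
      refine homog_nine hfix hc ?_
      rw [hq, hg, hg1] at hcT
      omega
    · -- 13
      exfalso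
      have hg1 : g = 2 := by rw [← hg]; norm_num
      have h8 := case_13 A hq e hn h
      rw [hc, c14] at h8
      rw [hq, hg, hg1, ht] at hcT
      subst hg1
      have h9 : d * t ≤ 2 * t := Nat.mul_le_mul_right _ (by omega)
      rw [hG, ht] at h8
      omega
    · -- 17
      exfalso
      have hg1 : g = 2 := by rw [← hg]; norm_num
      rw [hq, hg, hg1, ht] at hcT
      have ht' : t = 2448 := by omega
      rw [ht, ht'] at hG
      have hcc : Nat.choose (17 + 1) 4 = 3060 := c18
      have hd2 : d ≤ 2 := by subst hg1; omega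
      interval_cases d
      · obtain ⟨I, hI, H, hH, hHI⟩ := exists_stab (G := G) (Ω := Ω) (a := 2) (b := 2) (j := 4) Nat.prime_two
          (by rw [hG]; norm_num) (by rw [hc, hcc]; norm_num)
        have h8 := strict_five_mul h (by omega) H hI hHI
        rw [hc, hcc, hG] at h8
        omega
      · obtain ⟨I, hI, H, hH, hHI⟩ := exists_stab (G := G) (Ω := Ω) (a := 3) (b := 2) (j := 4) Nat.prime_two
          (by rw [hG]; norm_num) (by rw [hc, hcc]; norm_num)
        have h8 := strict_five_mul h (by omega) H hI hHI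
        rw [hc, hcc, hG] at h8
        omega
    · -- 23
      exfalso
      have hg1 : g = 2 := by rw [← hg]; norm_num
      rw [hq, hg, hg1, ht] at hcT
      have ht' : t = 6072 := by omega
      rw [ht, ht'] at hG
      have hd2 : d < 3 := by subst hg1; omega
      have h8 := num23 d hd2 hdpos.ne'
      rw [← hG, show (24 : ℕ) = 23 + 1 from rfl, ← hc] at h8
      exact syl_sound h (by omega) (by omega) h8
    · -- 27
      exfalso
      have hg1 : g = 2 := by rw [← hg]; norm_num
      rw [hq, hg, hg1, ht] at hcT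
      have hTt : IsPretransitive ↥T Ω := Cfsg.Agent.H436.TT.trans_T A
      obtain ⟨I, hI, hI'⟩ := orbit_three (G := G) A.normal hfix (by rw [hc]) (by omega) (by rw [ht]; (clear * - hcT; omega))
      have h8 := h.choose_le_orbit (by omega) (by omega) (I := I) hI
      rw [hc, c28] at h8
      rw [hc] at hI'
      omega
    · -- 32
      exfalso
      have hg1 : g = 1 := by rw [← hg]; norm_num
      rw [hq, hg, hg1, ht] at hcT
      have h8 := sharp_five hfix (by rw [ht, hc]; omega) (swap A e hn) h (by rw [hc]; norm_num) (by omega) h4T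
      rw [hc, c33, hG, ht] at h8
      rw [hq, hg, hg1] at hd
      have hd1 : d = 1 ∨ d = 5 := (Nat.dvd_prime Nat.prime_five).1 (by simpa using hd)
      rcases hd1 with rfl | rfl
      · omega
      · apply h5
        rw [hG]
        exact Dvd.intro _ rfl
    · -- 128
      exfalso
      have hg1 : g = 1 := by rw [← hg]; norm_num
      rw [hq, hg, hg1, ht] at hcT
      have h8 := sharp_five hfix (by rw [ht, hc]; omega) (swap A e hn) h (by rw [hc]; norm_num) (by omega) h4T
      rw [hc, c129, hG, ht] at h8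
      have h9 : d * t ≤ 7 * t := Nat.mul_le_mul_right _ (by subst hg1; omega)
      omega
  · -- `k ≥ 6`
    by_contra hnot
    have h2k' : 2 * k ≤ Fintype.card Ω + 1 := by rw [← Nat.card_eq_fintype_card]; exact h2k
    have hb : (Fintype.card Ω).choose 5 ≤ 5 * Nat.card G := by
      rcases bound h h6 h2k' hnot with h1 | h1
      · omega
      · exact h1 5 (by omega)
    have hq10 : 10 ≤ q := by omega
    have hcl : (q - 2) * (q - 3) ≤ 600 * f := by
      have h2 := Cfsg.Agent.H391.KRankOne.mul_choose_five (Fintype.card Ω)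
      obtain ⟨m, hm⟩ : ∃ m, q = m + 3 := ⟨q - 3, by omega⟩
      have e1 : Fintype.card Ω = m + 4 := by omega
      rw [e1] at h2 hb
      have e2 : m + 4 - 1 = m + 3 := by omega
      have e3 : m + 4 - 2 = m + 2 := by omega
      have e4 : m + 4 - 3 = m + 1 := by (clear * -; omega)
      have e5 : m + 4 - 4 = m := by (clear * -; omega)
      rw [e2, e3, e4, e5] at h2
      rw [hq2, hm] at hGle
      have e6 : m + 3 - 1 = m + 2 := by (clear * -; omega)
      have e7 : m + 3 - 2 = m + 1 := by (clear * -; omega)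
      have e8 : m + 3 - 3 = m := by (clear * -; omega)
      rw [e6] at hGle
      rw [hm, e7, e8]
      have h3 : (m + 4) * (m + 3) * (m + 2) * ((m + 1) * m) ≤ (m + 4) * (m + 3) * (m + 2) * (600 * f) := by
        calc (m + 4) * (m + 3) * (m + 2) * ((m + 1) * m) = 120 * (m + 4).choose 5 := by rw [← h2]; ring
          _ ≤ 120 * (5 * Nat.card G) := Nat.mul_le_mul_left _ hb
          _ ≤ 120 * (5 * (f * ((m + 3) * ((m + 3 + 1) * (m + 2))))) :=
            Nat.mul_le_mul_left _ (Nat.mul_le_mul_left _ hGle)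
          _ = _ := by ring
      exact Nat.le_of_mul_le_mul_left h3 (by (clear * -; positivity))
    have hmem := class6 hp hf (by rw [← hq, hF]) hq10 hcl
    have hc : Fintype.card Ω = q + 1 := by omega
    have hsmall : q < 33 ∧ g * f < 7 := by
      rw [← hg]
      simp only [lst, List.mem_cons, Prod.mk.injEq, List.not_mem_nil, or_false] at hmem
      rcases hmem with ⟨rfl, h1, rfl⟩ | ⟨rfl, h1, rfl⟩ | ⟨rfl, h1, rfl⟩ | ⟨rfl, h1, rfl⟩ | ⟨rfl, h1, rfl⟩ |
        ⟨rfl, h1, rfl⟩ | ⟨rfl, h1, rfl⟩ | ⟨rfl, h1, rfl⟩ | ⟨rfl, h1, rfl⟩ <;> rw [h1] <;> norm_num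
    have hdd : (g * f) % d = 0 := by
      rw [hq, hg] at hd
      exact Nat.mod_eq_zero_of_dvd hd
    have hNG : Nat.card G = d * (q * (q ^ 2 - 1) / g) := by
      rw [hG, ht]
      congr 1
      rw [hq, hg, ht] at hcT
      rw [← hcT, Nat.mul_div_cancel _ hgpos]
    rcases num6 hmem (k := k) (by omega) h6 (by simp only; omega) (d := d) (by omega) hdpos.ne'
      (by simp only; rw [hg]; exact hdd) with ⟨h1, h2⟩ | ⟨h1, h2⟩ | ⟨h1, h2⟩
    · simp only at h1
      subst h2
      exact hnot (case_11 A (by rw [hq, h1]) e hn h)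
    · simp only at h1
      subst h2
      have h3 := case_16 A (by rw [hq, h1]) e hn h
      have hg1 : g = 1 := by rw [← hg, h1]; norm_num
      have hf4 : f = 4 := by
        rw [h1] at hmem
        simp only [lst, List.mem_cons, Prod.mk.injEq, List.not_mem_nil, or_false] at hmem
        omega
      rw [hc, h1, c17, hG, ht] at h3
      rw [hq, hg, hg1, ht, h1] at hcT
      have h9 : d * t ≤ 4 * t := Nat.mul_le_mul_right _ (by rw [hg1, hf4] at hgf; omega)
      omega
    · simp only at h1 h2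
      rw [hg, ← hNG, ← hc] at h1 h2
      exact hnot (chk6_sound h h6 h2k' h1 h2)

end Cfsg.Agent.H391.KPslTwo
end

private theorem dce_94836aee1d0d : _root_.True := by
  try have : _root_.True := by simp only [_root_.Cfsg.Agent.H391.KPslNum.syl.eq_1]
  try have : _root_.True := by simp only [_root_.Cfsg.Agent.H391.KPslNum.lst.eq_1]
  try have : _root_.True := by simp only [_root_.Cfsg.Agent.H391.KRankOne.wm.eq_1]
  try have : _root_.True := by simp only [_root_.Cfsg.Agent.H391.KPslNum.isP.eq_1]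
  try have : _root_.True := by simp only [_root_.Cfsg.Agent.H391.KRankOne.wm'.eq_1]
  try have : _root_.True := by simp only [_root_.Cfsg.Agent.H391.KPslD.sl.eq_1]
  try have : _root_.True := by simp only [_root_.Cfsg.Agent.H391.KPslNum.numB6.eq_1]
  try have : _root_.True := by simp only [_root_.Cfsg.Agent.H391.KPslNum.chk6.eq_1]
  exact _root_.True.intro
end

-- part: H397/KHomMain
section
set_option linter.all false
open scoped Cfsg.Agent.FastGrp

-- part: H397/KHomRows
section
/-!
# Rows `A₇` on 15 points and `PSL₂(11)` on 11 points of S3564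
-/

set_option autoImplicit false
set_option linter.unusedSectionVars false

namespace Cfsg.Agent.H397.KHomRows

open MulAction Cfsg.Agent.H397.KHom Cfsg.Agent.H384.TwoTrans Cfsg.Agent.H391.KOrb
open scoped Pointwise

section general

variable {G Ω : Type*} [Group G] [MulAction G Ω] [DecidableEq Ω] [Fintype Ω]

theorem dvd_card_of_orbits {X : Type*} [Finite X] [MulAction G X] (m : ℕ)
    (h : ∀ x : X, m ∣ (orbit G x).ncard) : m ∣ Nat.card X := by
  classical
  have := Fintype.ofFinite X
  have := Fintype.ofFinite (Quotient (orbitRel G X))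
  rw [Nat.card_congr (selfEquivSigmaOrbits G X), Nat.card_sigma]
  refine Finset.dvd_sum fun q _ => ?_
  rw [Nat.card_coe_set_eq]
  exact h _

/-- all `(k-1)`-sets have an orbit of length divisible by `m` -/
theorem Hom.dvd_choose [Finite G] {k : ℕ} (h : Hom G Ω k) (hk : 1 ≤ k) (hn : k ≤ Fintype.card Ω) (m : ℕ)
    (hd : ∀ o : ℕ, o ∣ Nat.card G → (Fintype.card Ω).choose (k - 1) ≤ k * o → m ∣ o) :
    m ∣ (Fintype.card Ω).choose (k - 1) := by
  classical
  have h1 : Nat.card (Set.powersetCard Ω (k - 1)) = (Fintype.card Ω).choose (k - 1) := by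
    rw [Set.powersetCard.card, Nat.card_eq_fintype_card]
  rw [← h1]
  refine dvd_card_of_orbits (G := G) m ?_
  intro I
  have h2 : (orbit G I).ncard = (orbit G (I : Finset Ω)).ncard := by
    have h3 : orbit G (I : Finset Ω) = Subtype.val '' (orbit G I) := by
      ext J
      constructor
      · rintro ⟨g, rfl⟩
        exact ⟨g • I, ⟨g, rfl⟩, rfl⟩
      · rintro ⟨_, ⟨g, rfl⟩, rfl⟩
        exact ⟨g, rfl⟩
    rw [h3, Set.ncard_image_of_injective _ Subtype.val_injective]
  rw [h2]
  refine hd _ ?_ (h.choose_le_orbit hk hn I.2)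
  rw [← index_stabilizer]
  exact (stabilizer G (I : Finset Ω)).index_dvd_card

end general

section a7

/-- an element of order 4 -/
def four : Equiv.Perm (Fin 7) := Equiv.swap 0 1 * Equiv.swap 1 2 * Equiv.swap 2 3 * Equiv.swap 4 5

theorem four_mem : four ∈ alternatingGroup (Fin 7) := by
  rw [Equiv.Perm.mem_alternatingGroup]
  decide

theorem exists_four : ∃ x : alternatingGroup (Fin 7), orderOf x = 2 ^ (1 + 1) := by
  refine ⟨⟨four, four_mem⟩, ?_⟩
  have : Fact (Nat.Prime 2) := ⟨Nat.prime_two⟩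
  rw [← Subgroup.orderOf_coe]
  refine orderOf_eq_prime_pow ?_ ?_
  · change ¬ four ^ 2 ^ 1 = 1
    decide
  · change four ^ 2 ^ (1 + 1) = 1
    decide

universe u v

variable {G : Type u} {Ω : Type v} [Group G] [MulAction G Ω] {T : Subgroup G} [DecidableEq Ω] [Fintype Ω]

/-- **Row `A₇` on 15 points.** -/
theorem row_a7 (A : AS G Ω T) (e : T ≃* alternatingGroup (Fin 7)) (hn : Fintype.card Ω = 15)
    {k : ℕ} (hk : 4 ≤ k) (h2k : 2 * k ≤ Fintype.card Ω + 1) (h : Hom G Ω k) : Homog G Ω (k - 1) := by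
  have := A.finG
  have := A.faithful
  have hT : Nat.card T = 2520 := by
    rw [Nat.card_congr e.toEquiv, nat_card_alternatingGroup, Nat.card_fin]
    rfl
  have hG : Nat.card G ∣ 5040 := by
    have h1 := Cfsg.Agent.H436.TT.card_dvd_aut A
    rw [Cfsg.Agent.H436.TT.card_mulAut_congr e,
      ← Nat.card_congr (Equiv.ofBijective _ (Cfsg.Agent.S2119.result 7 (by norm_num) (by norm_num))),
      Nat.card_perm, Nat.card_fin] at h1
    exact h1
  have hTG : 2520 ∣ Nat.card G := by
    rw [← hT]; exact T.card_subgroup_dvd_card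
  have hcases : Nat.card G = 2520 ∨ Nat.card G = 5040 := by
    obtain ⟨c, hc⟩ := hTG
    rw [hc, show (5040 : ℕ) = 2520 * 2 by norm_num] at hG
    have h3 : c ∣ 2 := Nat.dvd_of_mul_dvd_mul_left (by norm_num) hG
    rcases (Nat.dvd_prime Nat.prime_two).1 h3 with rfl | rfl
    · left; omega
    · right; omega
  -- parity
  have heven : ∀ C : ℕ, C = 3003 ∨ C = 6435 → (∀ o : ℕ, o ∣ Nat.card G → C ≤ 8 * o → 2 ∣ o) := by
    intro C hC o ho hCo
    obtain ⟨c, hc⟩ := ho
    have hc' : c ≤ 13 := by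
      by_contra hcon
      push Not at hcon
      have h5 : o * 14 ≤ o * c := Nat.mul_le_mul_left _ hcon
      rcases hcases with h | h <;> rw [h] at hc <;> (clear * - hC hCo hc h5; omega)
    rcases hcases with h | h <;> rw [h] at hc <;> interval_cases c <;> (clear * - hc hC hCo; omega)
  rw [hn] at h2k
  have hk8 : k ≤ 8 := by omega
  interval_cases k
  · obtain ⟨x, hx⟩ := exists_four
    refine homog_of_orderOf (a := 1) Nat.prime_two h (g := (e.symm x : G)) ?_
    rw [Subgroup.orderOf_coe, MulEquiv.orderOf_eq]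
    exact hx
  · exact homog_of_prime_dvd (by norm_num) h ((by norm_num : 5 ∣ 2520).trans hTG)
  · exfalso
    have h1 := Hom.dvd_choose h (by omega) (by omega) 2 (by
      intro o ho hCo
      rw [hn] at hCo
      have h3 : (15 : ℕ).choose (6 - 1) = 3003 := by decide
      rw [h3] at hCo
      exact heven 3003 (Or.inl rfl) o ho (by omega))
    rw [hn] at h1
    revert h1
    decide
  · exact homog_of_prime_dvd (by norm_num) h ((by norm_num : 7 ∣ 2520).trans hTG)
  · exfalso
    have h1 := Hom.dvd_choose h (by omega) (by omega) 2 (by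
      intro o ho hCo
      rw [hn] at hCo
      have h3 : (15 : ℕ).choose (8 - 1) = 6435 := by decide
      rw [h3] at hCo
      exact heven 6435 (Or.inr rfl) o ho (by omega))
    rw [hn] at h1
    revert h1
    decide

end a7

section psl2_11

universe u v

theorem five_le_index {B : Type*} [Group B] [Finite B] [IsSimpleGroup B] (hB : Nat.card B = 60)
    (K : Subgroup B) (hK : K ≠ ⊤) : 5 ≤ K.index := by
  have h1 : K.normalCore = ⊥ := by
    rcases (inferInstance : K.normalCore.Normal).eq_bot_or_eq_top with h | h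
    · exact h
    · exact absurd (eq_top_iff.2 (h ▸ K.normalCore_le)) hK
  have hinj : Function.Injective (MulAction.toPermHom B (B ⧸ K)) := by
    rw [← MonoidHom.ker_eq_bot_iff, ← Subgroup.normalCore_eq_ker]
    exact h1
  have h2 := Subgroup.card_dvd_of_injective _ hinj
  rw [hB, Nat.card_perm] at h2
  change 60 ∣ K.index.factorial at h2
  by_contra hcon
  push Not at hcon
  have h3 : K.index.factorial ∣ Nat.factorial 4 := Nat.factorial_dvd_factorial (by omega)
  exact absurd (Nat.le_of_dvd (by decide) (h2.trans h3)) (by decide)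

variable {G : Type u} {Ω : Type v} [Group G] [MulAction G Ω] {T : Subgroup G} [DecidableEq Ω] [Fintype Ω]

/-- a simple group of order 60 without fixed points on 11 points has an orbit of length 5 -/
theorem exists_five {B : Type*} [Group B] [MulAction B Ω] [Finite B] [IsSimpleGroup B] (hB : Nat.card B = 60)
    (hn : Fintype.card Ω = 11) (hfix : ∀ x : Ω, stabilizer B x ≠ ⊤) : ∃ x : Ω, (orbit B x).ncard = 5 := by
  have hval : ∀ x : Ω, (orbit B x).ncard = 5 ∨ (orbit B x).ncard = 6 ∨ (orbit B x).ncard = 10 := by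
    intro x
    have h1 := five_le_index hB _ (hfix x)
    rw [index_stabilizer] at h1
    have h2 : (orbit B x).ncard ∣ 60 := by
      rw [← hB, ← index_stabilizer]; exact (stabilizer B x).index_dvd_card
    have h3 : (orbit B x).ncard ≤ 11 := by
      rw [← hn, ← Nat.card_eq_fintype_card, ← Set.ncard_univ]
      exact Set.ncard_le_ncard (Set.subset_univ _)
    obtain ⟨c, hc⟩ := h2
    interval_cases h : (orbit B x).ncard <;> (clear * - hc; omega)
  by_contra hcon
  push Not at hcon
  obtain ⟨x⟩ : Nonempty Ω := Fintype.card_pos_iff.1 (by omega)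
  have h1 : (orbit B x)ᶜ.ncard = 11 - (orbit B x).ncard := by
    rw [Set.ncard_compl, Nat.card_eq_fintype_card, hn]
  obtain ⟨y, hy⟩ : (orbit B x)ᶜ.Nonempty := by
    rw [← Set.ncard_pos]
    rcases hval x with h | h | h <;> omega
  have h2 : orbit B y ⊆ (orbit B x)ᶜ := by
    intro z hz hz'
    apply hy
    rw [← orbit_eq_iff.2 hz', orbit_eq_iff.2 hz]
    exact mem_orbit_self y
  have h3 := Set.ncard_le_ncard h2
  have h4 := hval x
  have h5 := hval y
  have h6 := hcon x
  have h7 := hcon y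
  omega

/-- The group induced on an orbit of length 5. -/
theorem alt_five {B : Type*} [Group B] [MulAction B Ω] [Finite B] [IsSimpleGroup B] (hB : Nat.card B = 60)
    {x : Ω} (hx : (orbit B x).ncard = 5) [Fintype (orbit B x)] (σ : Equiv.Perm (orbit B x))
    (hσ : Equiv.Perm.sign σ = 1) : ∃ b : B, ∀ y : orbit B x, b • y = σ y := by
  have hc : Nat.card (orbit B x) = 5 := by rw [Nat.card_coe_set_eq]; exact hx
  have hinj : Function.Injective (toPermHom B (orbit B x)) := by
    rw [← MonoidHom.ker_eq_bot_iff]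
    rcases (inferInstance : (toPermHom B (orbit B x)).ker.Normal).eq_bot_or_eq_top with h | h
    · exact h
    · exfalso
      have h1 : orbit B x ⊆ {x} := by
        rintro _ ⟨b, rfl⟩
        have h2 : b ∈ (toPermHom B (orbit B x)).ker := by rw [h]; exact Subgroup.mem_top b
        have h3 := congrArg (fun τ : Equiv.Perm (orbit B x) => ((τ ⟨x, mem_orbit_self x⟩ : orbit B x) : Ω))
          (MonoidHom.mem_ker.1 h2)
        exact h3
      have h4 := Set.ncard_le_ncard h1
      rw [hx, Set.ncard_singleton] at h4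
      omega
  have hrange : Nat.card (toPermHom B (orbit B x)).range = 60 := by
    rw [← hB]
    exact (Nat.card_congr (MonoidHom.ofInjective hinj).toEquiv).symm
  have hidx : (toPermHom B (orbit B x)).range.index = 2 := by
    have h1 := (toPermHom B (orbit B x)).range.index_mul_card
    rw [hrange, Nat.card_perm, hc, show Nat.factorial 5 = 120 by decide] at h1
    omega
  have h2 := Equiv.Perm.eq_alternatingGroup_of_index_eq_two hidx
  have h3 : σ ∈ (toPermHom B (orbit B x)).range := by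
    rw [h2]; exact Equiv.Perm.mem_alternatingGroup.2 hσ
  obtain ⟨b, hb⟩ := h3
  exact ⟨b, fun y => congrArg (fun τ : Equiv.Perm (orbit B x) => τ y) hb⟩

/-- `T` has a subgroup `A₅` without fixed points -/
theorem exists_B (A : AS G Ω T) {F : Type*} [Field F] [Fintype F] (hF : Fintype.card F = 11)
    (e : T ≃* Matrix.ProjectiveSpecialLinearGroup (Fin 2) F) (hn : Fintype.card Ω = 11) :
    ∃ B : Subgroup T, IsSimpleGroup B ∧ Nat.card B = 60 ∧ ∀ x : Ω, stabilizer B x ≠ ⊤ := by
  classical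
  have := A.finG
  have htr := Cfsg.Agent.H436.TT.trans_T A
  have hcT : Nat.card T = 660 := by
    rw [Nat.card_congr e.toEquiv]; exact Cfsg.Agent.S2543.card_psl hF
  have hst : ∀ x : Ω, Nat.card (stabilizer T x) = 60 := by
    intro x
    have h1 := (stabilizer T x).index_mul_card
    rw [Cfsg.Agent.H436.TT.index_stab A x, Nat.card_eq_fintype_card, hn, hcT] at h1
    omega
  obtain ⟨h22, -⟩ := Cfsg.Agent.S2543.result hF
  obtain ⟨H, hH5, hH⟩ : ∃ H : Subgroup (Matrix.ProjectiveSpecialLinearGroup (Fin 2) F),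
      Nonempty (H ≃* alternatingGroup (Fin 5)) ∧ ∀ x : Ω, (stabilizer T x).map e.toMonoidHom ≠ H := by
    by_contra hcon
    push Not at hcon
    have hinj : ∃ f : {H : Subgroup (Matrix.ProjectiveSpecialLinearGroup (Fin 2) F) //
        Nonempty (H ≃* alternatingGroup (Fin 5))} → Ω, Function.Injective f := by
      choose f hf using fun H : {H : Subgroup (Matrix.ProjectiveSpecialLinearGroup (Fin 2) F) //
        Nonempty (H ≃* alternatingGroup (Fin 5))} => hcon H.1 H.2
      refine ⟨f, fun H K hHK => Subtype.ext ?_⟩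
      rw [← hf H, ← hf K, hHK]
    obtain ⟨f, hf⟩ := hinj
    have h1 := Nat.card_le_card_of_injective f hf
    rw [h22, Nat.card_eq_fintype_card, hn] at h1
    omega
  obtain ⟨e5⟩ := hH5
  have hcH : Nat.card H = 60 := by
    rw [Nat.card_congr e5.toEquiv, nat_card_alternatingGroup, Nat.card_fin]
    rfl
  have hsH : IsSimpleGroup H := by
    have : IsSimpleGroup (alternatingGroup (Fin 5)) := alternatingGroup.isSimpleGroup (by rw [Nat.card_fin])
    exact e5.isSimpleGroup
  refine ⟨H.map e.symm.toMonoidHom, ?_, ?_, ?_⟩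
  · exact (H.equivMapOfInjective e.symm.toMonoidHom e.symm.injective).symm.isSimpleGroup
  · rw [← hcH]
    exact (Nat.card_congr (H.equivMapOfInjective e.symm.toMonoidHom e.symm.injective).toEquiv).symm
  · intro x hx
    apply hH x
    have h1 : H ≤ (stabilizer T x).map e.toMonoidHom := by
      intro h hh
      refine ⟨e.symm h, ?_, e.apply_symm_apply h⟩
      have h2 : (⟨e.symm h, ⟨h, hh, rfl⟩⟩ : H.map e.symm.toMonoidHom) ∈ stabilizer (H.map e.symm.toMonoidHom) x := by
        rw [hx]; exact Subgroup.mem_top _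
      exact h2
    refine (Subgroup.eq_of_le_of_card_ge h1 ?_).symm
    rw [Subgroup.card_map_of_injective e.injective, hst, hcH]

/-- **Row `PSL₂(11)` on 11 points.** -/
theorem row_psl2_11 (A : AS G Ω T) {F : Type*} [Field F] [Fintype F] (hF : Fintype.card F = 11)
    (e : T ≃* Matrix.ProjectiveSpecialLinearGroup (Fin 2) F) (hn : Fintype.card Ω = 11)
    {k : ℕ} (hk : 4 ≤ k) (h2k : 2 * k ≤ Fintype.card Ω + 1) (h : Hom G Ω k) : Homog G Ω (k - 1) := by
  classical
  have := A.finG
  have := A.faithful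
  have := A.normal
  have hcT : Nat.card T = 660 := by
    rw [Nat.card_congr e.toEquiv]; exact Cfsg.Agent.S2543.card_psl hF
  have hTG : 660 ∣ Nat.card G := by
    rw [← hcT]; exact T.card_subgroup_dvd_card
  have hG : Nat.card G ≤ 1320 := by
    have h1 := Cfsg.Agent.H623.PD.index_dvd_two (Ω := Ω) (by rw [Nat.card_eq_fintype_card, hn]) T (Or.inl hcT)
    have h2 := T.index_mul_card
    rw [hcT] at h2
    have h3 := Nat.le_of_dvd (by norm_num) h1
    omega
  obtain ⟨B, hBs, hBc, hBfix⟩ := exists_B A hF e hn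
  obtain ⟨x, hx⟩ := exists_five hBc hn hBfix
  obtain ⟨O, hO⟩ : ∃ O : Finset Ω, O = (Set.toFinite (orbit B x)).toFinset := ⟨_, rfl⟩
  have hOm : ∀ y, y ∈ O ↔ y ∈ orbit B x := fun y => by rw [hO]; exact Set.Finite.mem_toFinset _
  have hOc : O.card = 5 := by rw [hO, ← Set.ncard_eq_toFinset_card _ (Set.toFinite (orbit B x))]; exact hx
  rw [hn] at h2k
  have hk6 : k ≤ 6 := by omega
  interval_cases k
  · -- `k = 4`
    have hxO : x ∈ O := (hOm x).2 (mem_orbit_self x)
    have hJc : (O.erase x).card = 4 := by rw [Finset.card_erase_of_mem hxO, hOc]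
    refine h.homog_of_trans (by omega) (J := O.erase x) hJc ?_
    have : Fintype (orbit B x) := Fintype.ofFinite _
    -- even permutations fixing `x` are induced by elements of `B`
    have key : ∀ σ : Equiv.Perm (orbit B x), Equiv.Perm.sign σ = 1 → σ ⟨x, mem_orbit_self x⟩ = ⟨x, mem_orbit_self x⟩ →
        ∃ g : G, g • O.erase x = O.erase x ∧ ∀ y : orbit B x, g • (y : Ω) = σ y := by
      intro σ hσ hσx
      obtain ⟨b, hb⟩ := alt_five hBc hx σ hσ
      have hb' : ∀ y : orbit B x, ((b : T) : G) • (y : Ω) = σ y := fun y => congrArg Subtype.val (hb y)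
      refine ⟨((b : T) : G), ?_, hb'⟩
      apply Finset.eq_of_subset_of_card_le
      · intro z hz
        obtain ⟨w, hw, rfl⟩ := Finset.mem_smul_finset.1 hz
        rw [Finset.mem_erase, hOm] at hw ⊢
        have h1 := hb' ⟨w, hw.2⟩
        change ((b : T) : G) • w = _ at h1
        refine ⟨?_, ?_⟩
        · intro h2
          have h3 : σ ⟨w, hw.2⟩ = ⟨x, mem_orbit_self x⟩ := Subtype.ext (h1.symm.trans h2)
          rw [← hσx] at h3
          exact hw.1 (congrArg Subtype.val (σ.injective h3))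
        · rw [h1]; exact (σ ⟨w, hw.2⟩).2
      · rw [Finset.card_smul_finset]
    intro y hy z hz
    by_cases hyz : y = z
    · exact ⟨1, one_smul _ _, by rw [one_smul, hyz]⟩
    -- two more points
    have hyz2 : ((O.erase x) \ {y, z}).card = 2 := by
      rw [Finset.card_sdiff_of_subset, hJc, Finset.card_pair hyz]
      intro w hw
      rw [Finset.mem_insert, Finset.mem_singleton] at hw
      rcases hw with rfl | rfl <;> assumption
    obtain ⟨u, v, huv, huv'⟩ := Finset.card_eq_two.1 hyz2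
    have hu : u ∈ (O.erase x) \ {y, z} := by rw [huv']; simp
    have hv : v ∈ (O.erase x) \ {y, z} := by rw [huv']; simp
    rw [Finset.mem_sdiff, Finset.mem_erase, Finset.mem_insert, Finset.mem_singleton, hOm] at hu hv
    rw [Finset.mem_erase, hOm] at hy hz
    push Not at hu hv
    let y' : orbit B x := ⟨y, hy.2⟩
    let z' : orbit B x := ⟨z, hz.2⟩
    let u' : orbit B x := ⟨u, hu.1.2⟩
    let v' : orbit B x := ⟨v, hv.1.2⟩
    have hne : ∀ {a b : orbit B x}, (a : Ω) ≠ b → a ≠ b := fun h h' => h (congrArg Subtype.val h')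
    have e1 : Equiv.swap u' v' ⟨x, mem_orbit_self x⟩ = ⟨x, mem_orbit_self x⟩ :=
      Equiv.swap_apply_of_ne_of_ne (hne (Ne.symm hu.1.1)) (hne (Ne.symm hv.1.1))
    have e2 : Equiv.swap y' z' ⟨x, mem_orbit_self x⟩ = ⟨x, mem_orbit_self x⟩ :=
      Equiv.swap_apply_of_ne_of_ne (hne (Ne.symm hy.1)) (hne (Ne.symm hz.1))
    have e3 : Equiv.swap u' v' y' = y' :=
      Equiv.swap_apply_of_ne_of_ne (hne (Ne.symm hu.2.1)) (hne (Ne.symm hv.2.1))
    obtain ⟨g, hg, hgy⟩ := key (Equiv.swap y' z' * Equiv.swap u' v') (by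
      rw [map_mul, Equiv.Perm.sign_swap (hne hyz), Equiv.Perm.sign_swap (hne huv)]; rfl) (by
      rw [Equiv.Perm.mul_apply, e1, e2])
    refine ⟨g, hg, ?_⟩
    have h1 := hgy y'
    rw [Equiv.Perm.mul_apply, e3, Equiv.swap_apply_left] at h1
    exact h1
  · exact homog_of_prime_dvd (by norm_num) h ((by norm_num : 5 ∣ 660).trans hTG)
  · exfalso
    have h1 := h.choose_mul_card_le (by omega) (by omega) (B.map T.subtype) (I := O) hOc (by
      rintro _ ⟨b, hb, rfl⟩
      apply Finset.eq_of_subset_of_card_le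
      · intro z hz
        obtain ⟨w, hw, rfl⟩ := Finset.mem_smul_finset.1 hz
        rw [hOm] at hw ⊢
        obtain ⟨c, rfl⟩ := hw
        exact ⟨⟨b, hb⟩ * c, mul_smul _ _ _⟩
      · rw [Finset.card_smul_finset])
    rw [hn, Subgroup.card_map_of_injective T.subtype_injective, hBc] at h1
    have h3 : (11 : ℕ).choose (6 - 1) = 462 := by decide
    rw [h3] at h1
    omega

end psl2_11

end Cfsg.Agent.H397.KHomRows
end

-- part: H397/KHomSpVec
section
/-!
# Quadratic forms over `F_2` polarising to the symplectic form: a frame (helper397)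

For row `Sp_2m(2)` of S3564: a quadratic form `Q` in dimension `2m ≥ 6` has hyperbolic pairs `e1, f1 ⟂ e2, f2` of
singular vectors and `v0` orthogonal to them with `Q v0 = 1`.
-/

set_option autoImplicit false
set_option linter.unusedSectionVars false

open Cfsg

namespace Cfsg.Agent.H397.KHomSp

open Cfsg.Agent.ClassicalGeometry.SympBasic
open Cfsg.Agent.ClassicalGeometry.SympSiegel
open Cfsg.Agent.ClassicalGeometry.SympAutExists
open Cfsg.Agent.H249.SpTwo

universe w

section vec

variable {F : Type w} [Field F] [Fintype F] {m : ℕ}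

local notation "V" => (Fin m ⊕ Fin m → F)
local notation "f" => sympForm m F

/-- less than `2m` vectors have a nonzero orthogonal vector -/
theorem exists_perp {c : ℕ} (hc : c < 2 * m) (x : Fin c → V) : ∃ v : V, v ≠ 0 ∧ ∀ i, f (x i) v = 0 := by
  let L : V →ₗ[F] (Fin c → F) := LinearMap.pi fun i => sympBilin m F (x i)
  have h1 : LinearMap.ker L ≠ ⊥ := by
    apply LinearMap.ker_ne_bot_of_finrank_lt
    rw [Module.finrank_fintype_fun_eq_card, Module.finrank_fintype_fun_eq_card, Fintype.card_fin,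
      Fintype.card_sum, Fintype.card_fin]
    omega
  obtain ⟨v, hv, hv0⟩ := Submodule.exists_mem_ne_zero_of_ne_bot h1
  refine ⟨v, hv0, fun i => ?_⟩
  have h2 := congrFun (LinearMap.mem_ker.1 hv) i
  exact h2

variable (hF : Fintype.card F = 2) (Q : (Fin m ⊕ Fin m → F) → F)
  (hQ : ∀ v w, Q (v + w) = Q v + Q w + sympForm m F v w)

include hQ in
theorem Q_zero : Q 0 = 0 := by
  have h := hQ 0 0
  rw [add_zero, sympForm_zero_left, add_zero] at h
  exact left_eq_add.1 h

include hF hQ in
/-- a nonzero singular vector orthogonal to `c` vectors -/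
theorem exists_sing {c : ℕ} (hc : c + 2 < 2 * m) (x : Fin c → V) :
    ∃ v : V, v ≠ 0 ∧ Q v = 0 ∧ ∀ i, f (x i) v = 0 := by
  obtain ⟨u, hu0, hu⟩ := exists_perp (m := m) (F := F) (by omega) x
  rcases F_cases hF (Q u) with h | h
  · exact ⟨u, hu0, h, hu⟩
  obtain ⟨y, hy⟩ : ∃ y, f y u ≠ 0 := by
    by_contra hcon
    push Not at hcon
    exact hu0 (eq_zero_of_forall_sympForm_left hcon)
  obtain ⟨v, hv0, hv⟩ := exists_perp (m := m) (F := F) (c := c + 1 + 1) (by omega) (Fin.cons u (Fin.cons y x))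
  have hv1 : f u v = 0 := hv 0
  have hv2 : f y v = 0 := hv 1
  have hv3 : ∀ i, f (x i) v = 0 := fun i => by
    have := hv i.succ.succ
    simpa using this
  rcases F_cases hF (Q v) with h' | h'
  · exact ⟨v, hv0, h', hv3⟩
  · refine ⟨u + v, ?_, ?_, ?_⟩
    · intro h0
      have : u = v := by
        have h1 := congrArg (· + v) h0
        simp only [add_assoc, V_add_self hF, add_zero, zero_add] at h1
        exact h1
      rw [this] at hy
      exact hy hv2
    · rw [hQ, h, h', hv1, F_two hF, add_zero]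
    · intro i
      rw [sympForm_add_right, hu, hv3, add_zero]

include hF hQ in
/-- the dual singular vector -/
theorem exists_dual {e : V} (he0 : e ≠ 0) (he : Q e = 0) : ∃ e' : V, Q e' = 0 ∧ f e e' = 1 := by
  obtain ⟨y, hy⟩ : ∃ y, f e y ≠ 0 := by
    by_contra hcon
    push Not at hcon
    exact he0 (eq_zero_of_forall_sympForm_right hcon)
  have hy1 := f_eq_one hF hy
  rcases F_cases hF (Q y) with h | h
  · exact ⟨y, h, hy1⟩
  · refine ⟨y + e, ?_, ?_⟩
    · rw [hQ, h, he, f_symm hF, hy1, add_zero, F_two hF]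
    · rw [sympForm_add_right, hy1, sympForm_self, add_zero]

/-- the frame: coefficients in `F_2` -/
structure Frame (Q : (Fin m ⊕ Fin m → F) → F) (b : Fin 5 → (Fin m ⊕ Fin m → F)) : Prop where
  q0 : Q (b 0) = 0
  q1 : Q (b 1) = 0
  q2 : Q (b 2) = 0
  q3 : Q (b 3) = 0
  q4 : Q (b 4) = 1
  f01 : sympForm m F (b 0) (b 1) = 1
  f23 : sympForm m F (b 2) (b 3) = 1
  f02 : sympForm m F (b 0) (b 2) = 0
  f03 : sympForm m F (b 0) (b 3) = 0
  f12 : sympForm m F (b 1) (b 2) = 0
  f13 : sympForm m F (b 1) (b 3) = 0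
  f04 : sympForm m F (b 0) (b 4) = 0
  f14 : sympForm m F (b 1) (b 4) = 0
  f24 : sympForm m F (b 2) (b 4) = 0
  f34 : sympForm m F (b 3) (b 4) = 0

include hF hQ in
theorem exists_frame (hm : 3 ≤ m) : ∃ b : Fin 5 → V, Frame Q b := by
  -- the first pair
  obtain ⟨e1, he1, hq1, -⟩ := exists_sing hF Q hQ (c := 0) (by omega) (fun i => i.elim0)
  obtain ⟨f1, hqf1, hef1⟩ := exists_dual hF Q hQ he1 hq1
  have hfe1 : f f1 e1 = 1 := by rw [f_symm hF, hef1]
  -- the second pair
  obtain ⟨e2, he2, hq2, hp2⟩ := exists_sing hF Q hQ (c := 2) (by omega) ![e1, f1]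
  have hp20 : f e1 e2 = 0 := hp2 0
  have hp21 : f f1 e2 = 0 := hp2 1
  obtain ⟨w, hw⟩ : ∃ y, f e2 y ≠ 0 := by
    by_contra hcon
    push Not at hcon
    exact he2 (eq_zero_of_forall_sympForm_right hcon)
  have hw1 := f_eq_one hF hw
  obtain ⟨w', hw'1, hw'2, hw'3⟩ : ∃ w' : V, f e1 w' = 0 ∧ f f1 w' = 0 ∧ f e2 w' = 1 := by
    refine ⟨w + f f1 w • e1 + f e1 w • f1, ?_, ?_, ?_⟩
    · rw [sympForm_add_right, sympForm_add_right, sympForm_smul_right, sympForm_smul_right, sympForm_self,
        hef1, mul_zero, add_zero, mul_one, F_add_self hF]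
    · rw [sympForm_add_right, sympForm_add_right, sympForm_smul_right, sympForm_smul_right, sympForm_self,
        hfe1, mul_zero, add_zero, mul_one, F_add_self hF]
    · rw [sympForm_add_right, sympForm_add_right, sympForm_smul_right, sympForm_smul_right, hw1,
        f_symm hF e2 e1, f_symm hF e2 f1, hp20, hp21, mul_zero, mul_zero, add_zero, add_zero]
  obtain ⟨f2, hf21, hf22, hf23, hf24⟩ : ∃ f2 : V, Q f2 = 0 ∧ f e1 f2 = 0 ∧ f f1 f2 = 0 ∧ f e2 f2 = 1 := by
    rcases F_cases hF (Q w') with h | h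
    · exact ⟨w', h, hw'1, hw'2, hw'3⟩
    · refine ⟨w' + e2, ?_, ?_, ?_, ?_⟩
      · rw [hQ, h, hq2, f_symm hF, hw'3, add_zero, F_two hF]
      · rw [sympForm_add_right, hw'1, hp20, add_zero]
      · rw [sympForm_add_right, hw'2, hp21, add_zero]
      · rw [sympForm_add_right, hw'3, sympForm_self, add_zero]
  have hf2e2 : f f2 e2 = 1 := by rw [f_symm hF, hf24]
  -- the last vector
  obtain ⟨v, hv0, hv⟩ := exists_perp (m := m) (F := F) (c := 4) (by omega) ![e1, f1, e2, f2]
  have hv1 : f e1 v = 0 := hv 0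
  have hv2 : f f1 v = 0 := hv 1
  have hv3 : f e2 v = 0 := hv 2
  have hv4 : f f2 v = 0 := hv 3
  obtain ⟨v0, h0, h1, h2, h3, h4⟩ : ∃ v0 : V, Q v0 = 1 ∧ f e1 v0 = 0 ∧ f f1 v0 = 0 ∧ f e2 v0 = 0 ∧ f f2 v0 = 0 := by
    rcases F_cases hF (Q v) with h | h
    · obtain ⟨y, hy⟩ : ∃ y, f v y ≠ 0 := by
        by_contra hcon
        push Not at hcon
        exact hv0 (eq_zero_of_forall_sympForm_right hcon)
      have hy1 := f_eq_one hF hy
      obtain ⟨y', hy'0, hy'1, hy'2, hy'3, hy'4⟩ : ∃ y' : V, f v y' = 1 ∧ f e1 y' = 0 ∧ f f1 y' = 0 ∧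
          f e2 y' = 0 ∧ f f2 y' = 0 := by
        refine ⟨y + f f1 y • e1 + f e1 y • f1 + f f2 y • e2 + f e2 y • f2, ?_, ?_, ?_, ?_, ?_⟩
        all_goals simp only [sympForm_add_right, sympForm_smul_right, sympForm_self, hef1, hfe1, hf24, hf2e2,
          hp20, hp21, hf22, hf23, f_symm hF e2 e1, f_symm hF e2 f1, f_symm hF f2 e1, f_symm hF f2 f1,
          f_symm hF v e1, f_symm hF v f1, f_symm hF v e2, f_symm hF v f2, hv1, hv2, hv3, hv4, hy1,
          mul_zero, mul_one, add_zero, F_add_self hF]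
      rcases F_cases hF (Q y') with h' | h'
      · refine ⟨v + y', ?_, ?_, ?_, ?_, ?_⟩
        · rw [hQ, h, h', hy'0, add_zero, zero_add]
        · rw [sympForm_add_right, hv1, hy'1, add_zero]
        · rw [sympForm_add_right, hv2, hy'2, add_zero]
        · rw [sympForm_add_right, hv3, hy'3, add_zero]
        · rw [sympForm_add_right, hv4, hy'4, add_zero]
      · exact ⟨y', h', hy'1, hy'2, hy'3, hy'4⟩
    · exact ⟨v, h, hv1, hv2, hv3, hv4⟩
  exact ⟨![e1, f1, e2, f2, v0], hq1, hqf1, hq2, hf21, h0, hef1, hf24, hp20, hf22, hp21, hf23, h1, h2, h3, h4⟩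

/-- the vector with given coefficients -/
def B (ι : ZMod 2 →+* F) (b : Fin 5 → (Fin m ⊕ Fin m → F)) (c : Fin 5 → ZMod 2) : Fin m ⊕ Fin m → F :=
  ι (c 0) • b 0 + ι (c 1) • b 1 + ι (c 2) • b 2 + ι (c 3) • b 3 + ι (c 4) • b 4

/-- the form in coordinates -/
def gram (c d : Fin 5 → ZMod 2) : ZMod 2 := c 0 * d 1 + c 1 * d 0 + c 2 * d 3 + c 3 * d 2

/-- the quadratic form in coordinates -/
def qf (c : Fin 5 → ZMod 2) : ZMod 2 := c 0 * c 1 + c 2 * c 3 + c 4

include hF in
theorem exists_iota : ∃ ι : ZMod 2 →+* F, Function.Injective ι := by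
  have : CharP F 2 := CharTwo.of_one_ne_zero_of_two_eq_zero one_ne_zero (by rw [← one_add_one_eq_two, F_two hF])
  exact ⟨ZMod.castHom (dvd_refl 2) F, RingHom.injective _⟩

include hF in
theorem f_B (ι : ZMod 2 →+* F) {b : Fin 5 → (Fin m ⊕ Fin m → F)} (hb : Frame Q b) (c d : Fin 5 → ZMod 2) :
    f (B ι b c) (B ι b d) = ι (gram c d) := by
  unfold B gram
  simp only [sympForm_add_left, sympForm_add_right, sympForm_smul_left, sympForm_smul_right, sympForm_self,
    hb.f01, hb.f23, hb.f02, hb.f03, hb.f12, hb.f13, hb.f04, hb.f14, hb.f24, hb.f34,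
    f_symm hF (b 1) (b 0), f_symm hF (b 3) (b 2), f_symm hF (b 2) (b 0), f_symm hF (b 3) (b 0),
    f_symm hF (b 2) (b 1), f_symm hF (b 3) (b 1), f_symm hF (b 4) (b 0), f_symm hF (b 4) (b 1),
    f_symm hF (b 4) (b 2), f_symm hF (b 4) (b 3), mul_zero, mul_one, add_zero, zero_add, map_add, map_mul]
  ring

include hF hQ in
theorem Q_smul (a : F) (v : V) : Q (a • v) = a * Q v := by
  rcases F_cases hF a with rfl | rfl
  · rw [zero_smul, zero_mul, Q_zero Q hQ]
  · rw [one_smul, one_mul]

include hF hQ in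
theorem Q_B (ι : ZMod 2 →+* F) {b : Fin 5 → (Fin m ⊕ Fin m → F)} (hb : Frame Q b) (c : Fin 5 → ZMod 2) :
    Q (B ι b c) = ι (qf c) := by
  unfold B qf
  simp only [hQ, Q_smul hF Q hQ, sympForm_add_left, sympForm_smul_left, sympForm_smul_right,
    hb.f01, hb.f23, hb.f02, hb.f03, hb.f12, hb.f13, hb.f04, hb.f14, hb.f24, hb.f34, hb.q0, hb.q1, hb.q2,
    hb.q3, hb.q4, mul_zero, mul_one, add_zero, zero_add, map_add, map_mul]
  try ring

include hF hQ in
theorem B_injective (ι : ZMod 2 →+* F) (hι : Function.Injective ι) {b : Fin 5 → (Fin m ⊕ Fin m → F)}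
    (hb : Frame Q b) : Function.Injective (B ι b) := by
  intro c d h
  have h1 : ∀ x, gram c x = gram d x := by
    intro x
    apply hι
    rw [← f_B hF Q ι hb, ← f_B hF Q ι hb, h]
  have h2 : qf c = qf d := by
    apply hι
    rw [← Q_B hF Q hQ ι hb, ← Q_B hF Q hQ ι hb, h]
  have e0 := h1 ![0, 1, 0, 0, 0]
  have e1 := h1 ![1, 0, 0, 0, 0]
  have e2 := h1 ![0, 0, 0, 1, 0]
  have e3 := h1 ![0, 0, 1, 0, 0]
  simp only [gram, qf, Matrix.cons_val, mul_zero, mul_one, add_zero, zero_add] at e0 e1 e2 e3 h2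
  rw [e0, e1, e2, e3, add_right_inj] at h2
  funext i
  fin_cases i <;> assumption

end vec

end Cfsg.Agent.H397.KHomSp
end

-- part: H397/KHomSp
section
/-!
# Row `Sp_2m(2)` of S3564 (helper397)

The points are quadratic forms (export of helper249). The 2-graph of odd triples is invariant; the 5-sets have at
least four different numbers of odd triples, so `numOrb 5 ≥ 4`, which contradicts the level theorem for `k ≥ 6`.
-/

set_option autoImplicit false
set_option linter.unusedSectionVars false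

open Cfsg

namespace Cfsg.Agent.H397.KHomSp

open MulAction Cfsg.Agent.H397.KHom Cfsg.Agent.H384.TwoTrans Cfsg.Agent.H391.KOrb
open Cfsg.Agent.ClassicalGeometry.SympBasic
open Cfsg.Agent.ClassicalGeometry.SympSiegel
open Cfsg.Agent.ClassicalGeometry.SympAutExists
open Cfsg.Agent.H249.SpTwo
open scoped Pointwise

universe u v w

section numOrb

variable {G Ω : Type*} [Group G] [MulAction G Ω] [DecidableEq Ω] [Fintype Ω]

/-- an invariant with `c` values on the `j`-sets gives at least `c` orbits -/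
theorem le_numOrb {c j : ℕ} (K : Fin c → Finset Ω) (hK : ∀ i, (K i).card = j) (O : Finset Ω → ℕ)
    (hO : ∀ (g : G) (K : Finset Ω), O (g • K) = O K) (hinj : Function.Injective fun i => O (K i)) :
    c ≤ numOrb G Ω j := by
  have := finite_orb (G := G) (Ω := Ω) j
  have h1 : Function.Injective (fun i : Fin c => (Quotient.mk (orbitRel G (Set.powersetCard Ω j)) ⟨K i, hK i⟩ :
      orbitRel.Quotient G (Set.powersetCard Ω j))) := by
    intro i i' h
    apply hinj
    obtain ⟨g, hg⟩ := Quotient.exact h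
    have h2 : g • K i' = K i := congrArg Subtype.val hg
    change O (K i) = O (K i')
    rw [← h2, hO]
  have h2 := Nat.card_le_card_of_injective _ h1
  rw [Nat.card_fin] at h2
  exact h2

end numOrb

section main

variable {G : Type u} {Ω : Type v} [Group G] [MulAction G Ω] {T : Subgroup G}
variable {F : Type w} [Field F] [Fintype F] {m : ℕ} (e : ↥T ≃* PSp m F)

local notation "V" => (Fin m ⊕ Fin m → F)
local notation "Sp" => Matrix.symplecticGroup (Fin m) F
local notation "f" => sympForm m F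

/-- odd triples -/
def Odd3 (x y z : Ω) : Prop := x ≠ y ∧ ∃ w : Fin m ⊕ Fin m → F, w ≠ 0 ∧ tr e w • x = y ∧ tr e w • z = z

theorem odd3_smul [T.Normal] (hF : Fintype.card F = 2) (hm : 3 ≤ m) (g : G) (x y z : Ω) :
    Odd3 e (g • x) (g • y) (g • z) ↔ Odd3 e x y z := by
  have key : ∀ (g : G) (x y z : Ω), Odd3 e x y z → Odd3 e (g • x) (g • y) (g • z) := by
    rintro g x y z ⟨hxy, w, hw, h1, h2⟩
    obtain ⟨w', hw', hg⟩ := exists_conj e hF hm g w hw
    refine ⟨fun h => hxy (smul_left_cancel g h), w', hw', ?_, ?_⟩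
    · rw [← hg, ← mul_smul, inv_mul_cancel_right, mul_smul, h1]
    · rw [← hg, ← mul_smul, inv_mul_cancel_right, mul_smul, h2]
  constructor
  · intro h
    have := key g⁻¹ _ _ _ h
    simpa only [inv_smul_smul] using this
  · exact key g x y z

section point

variable (hF : Fintype.card F = 2) (a : Ω) (Q : (Fin m ⊕ Fin m → F) → F)
  (hQ : ∀ v w, Q (v + w) = Q v + Q w + sympForm m F v w)
  (hfix : ∀ v, v ≠ 0 → (tr e v • a = a ↔ Q v = 1))
  (hstab : ∀ s : Matrix.symplecticGroup (Fin m) F, tau e s • a = a ↔ ∀ v, Q (s • v) = Q v)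

include hF in
theorem mul_self' (x : F) : x * x = x := by
  rcases F_cases hF x with rfl | rfl
  · rw [zero_mul]
  · rw [one_mul]

include hF in
theorem transv_self (v : V) : transv v (1 : F) * transv v 1 = 1 := by
  apply ext_smul
  intro x
  rw [mul_smul, transv_smul, transv_smul, one_smul, sympForm_add_left, one_mul, one_mul, sympForm_smul_left,
    sympForm_self, mul_zero, add_zero, add_assoc, ← add_smul, F_add_self hF, zero_smul, add_zero]

include hF in
theorem transv_inv (v : V) : (transv v (1 : F))⁻¹ = transv v 1 :=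
  inv_eq_of_mul_eq_one_right (transv_self hF v)

include hF hQ in
theorem Q_transv (v x : V) : Q (transv v (1 : F) • x) = Q x + f x v * (Q v + 1) := by
  rw [transv_smul, one_mul, hQ, Q_smul hF Q hQ, sympForm_smul_right, mul_self' hF]
  ring

include hF hQ hfix in
/-- the fixed points on `tr v • a` -/
theorem fix_pt {v w : V} (hv : Q v = 0) (hw : w ≠ 0) :
    tr e w • tr e v • a = tr e v • a ↔ Q w + f v w = 1 := by
  have h1 : tr e w • tr e v • a = tr e v • a ↔ tr e (transv v (1 : F) • w) • a = a := by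
    rw [← tau_conj]
    have h2 : (tau e (transv v 1))⁻¹ = tau e (transv v 1) := by rw [← map_inv, transv_inv hF]
    rw [h2]
    change _ ↔ (tr e v * tr e w * tr e v) • a = a
    rw [mul_smul, mul_smul]
    constructor
    · intro h
      rw [h, ← mul_smul]
      change (tau e (transv v 1) * tau e (transv v 1)) • a = a
      rw [← map_mul, transv_self hF, map_one, one_smul]
    · intro h
      conv_rhs => rw [← h]
      rw [← mul_smul (tr e v) (tr e v)]
      change _ = (tau e (transv v 1) * tau e (transv v 1)) • _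
      rw [← map_mul, transv_self hF, map_one, one_smul]
  rw [h1, hfix _ (smul_ne_zero' _ hw), Q_transv hF Q hQ, hv, zero_add, mul_one, f_symm hF]

include hF hQ hfix in
theorem pt_injective {u v : V} (hu : Q u = 0) (hv : Q v = 0) (h : tr e u • a = tr e v • a) : u = v := by
  apply eq_of_forall_sympForm_right
  intro w
  by_cases hw : w = 0
  · rw [hw, sympForm_zero_right, sympForm_zero_right]
  · have h1 := fix_pt e hF a Q hQ hfix hu hw
    have h2 := fix_pt e hF a Q hQ hfix hv hw
    rw [h] at h1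
    have h3 := h1.symm.trans h2
    rcases F_cases hF (f u w) with hx | hx <;> rcases F_cases hF (f v w) with hy | hy <;>
      rcases F_cases hF (Q w) with hz | hz <;> rw [hx, hy] <;> rw [hx, hy, hz] at h3 <;>
      simp [F_two hF] at h3

include hF hQ in
theorem Q_add_pt {u v : V} (hu : Q u = 0) (hv : Q v = 0) : Q (u + v) = f u v := by
  rw [hQ, hu, hv, zero_add, zero_add]

include hF hQ hstab in
/-- the transvection of `u + v` maps the point of `u` to the point of `v` -/
theorem swap_pt {u v : V} (hu : Q u = 0) (hv : Q v = 0) : tr e (u + v) • tr e u • a = tr e v • a := by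
  have h1 : tau e (transv v 1 * (transv (u + v) 1 * transv u 1)) • a = a := by
    rw [hstab]
    intro x
    rw [mul_smul, mul_smul, Q_transv hF Q hQ, Q_transv hF Q hQ, Q_transv hF Q hQ, hu, hv,
      Q_add_pt hF Q hQ hu hv, transv_smul, transv_smul]
    simp only [sympForm_add_left, sympForm_add_right, sympForm_smul_left, sympForm_self, one_mul]
    rcases F_cases hF (f x u) with hx | hx <;> rcases F_cases hF (f x v) with hy | hy <;>
      rcases F_cases hF (f u v) with hz | hz <;> rcases F_cases hF (Q x) with hq | hq <;>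
      simp [hx, hy, hz, hq, F_two hF]
  rw [map_mul, map_mul, mul_smul, mul_smul] at h1
  have h2 := congrArg (fun x => tau e (transv v 1) • x) h1
  beta_reduce at h2
  rw [← mul_smul, ← map_mul, transv_self hF, map_one, one_smul] at h2
  exact h2

include hF hQ hfix hstab in
theorem odd_pt {u v w : V} (hu : Q u = 0) (hv : Q v = 0) (hw : Q w = 0) :
    Odd3 e (tr e u • a) (tr e v • a) (tr e w • a) ↔ f u v + f v w + f u w = 1 := by
  constructor
  · rintro ⟨hne, z, hz, h1, h2⟩
    have huv : u + v ≠ 0 := by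
      intro h0
      apply hne
      have : u = v := by
        have h1 := congrArg (· + v) h0
        simp only [add_assoc, V_add_self hF, add_zero, zero_add] at h1
        exact h1
      rw [this]
    -- `z = u + v`
    have hz' : z = u + v := by
      have h3 : ∀ x : V, f (u + v) x = f ((Q z + 1 + f u z) • z) x := by
        intro x
        by_cases hx : x = 0
        · rw [hx, sympForm_zero_right, sympForm_zero_right]
        have h4 := fix_pt e hF a Q hQ hfix hv hx
        rw [← h1] at h4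
        have h5 : tr e x • tr e z • tr e u • a = tr e z • tr e u • a ↔
            tr e (transv z (1 : F) • x) • tr e u • a = tr e u • a := by
          rw [← tau_conj]
          have h2 : (tau e (transv z 1))⁻¹ = tau e (transv z 1) := by rw [← map_inv, transv_inv hF]
          rw [h2]
          change _ ↔ (tr e z * tr e x * tr e z) • _ = _
          rw [mul_smul, mul_smul]
          constructor
          · intro h
            rw [h, ← mul_smul]
            change (tau e (transv z 1) * tau e (transv z 1)) • _ = _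
            rw [← map_mul, transv_self hF, map_one, one_smul]
          · intro h
            conv_rhs => rw [← h]
            rw [← mul_smul (tr e z) (tr e z)]
            change _ = (tau e (transv z 1) * tau e (transv z 1)) • _
            rw [← map_mul, transv_self hF, map_one, one_smul]
        rw [h5, fix_pt e hF a Q hQ hfix hu (smul_ne_zero' _ hx), Q_transv hF Q hQ, transv_smul, one_mul,
          sympForm_add_right, sympForm_smul_right] at h4
        rw [sympForm_add_left, sympForm_smul_left, f_symm hF z x]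
        rcases F_cases hF (f u x) with c1 | c1 <;> rcases F_cases hF (f v x) with c2 | c2 <;>
          rcases F_cases hF (f x z) with c3 | c3 <;> rcases F_cases hF (Q x) with c4 | c4 <;>
          rcases F_cases hF (Q z) with c5 | c5 <;> rcases F_cases hF (f u z) with c6 | c6 <;>
          simp [c1, c2, c3, c4, c5, c6, F_two hF] at h4 ⊢
      have h4 := eq_of_forall_sympForm_right h3
      rcases F_cases hF (Q z + 1 + f u z) with h5 | h5
      · rw [h5, zero_smul] at h4
        exact absurd h4 huv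
      · rw [h5, one_smul] at h4
        exact h4.symm
    rw [fix_pt e hF a Q hQ hfix hw hz, hz', Q_add_pt hF Q hQ hu hv, sympForm_add_right, f_symm hF w u,
      f_symm hF w v] at h2
    rw [← h2]
    ring
  · intro h
    have huv : u ≠ v := by
      rintro rfl
      rw [sympForm_self, zero_add, F_add_self hF] at h
      exact zero_ne_one h
    have huv' : u + v ≠ 0 := by
      intro h0
      apply huv
      have h1 := congrArg (· + v) h0
      simp only [add_assoc, V_add_self hF, add_zero, zero_add] at h1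
      exact h1
    refine ⟨fun h1 => huv (pt_injective e hF a Q hQ hfix hu hv h1), u + v, huv', swap_pt e hF a Q hQ hstab hu hv, ?_⟩
    rw [fix_pt e hF a Q hQ hfix hw huv', Q_add_pt hF Q hQ hu hv, sympForm_add_right, f_symm hF w u,
      f_symm hF w v, ← h]
    ring

end point

variable [DecidableEq Ω]

open Classical in
/-- the number of (ordered) odd triples -/
noncomputable def numOdd (K : Finset Ω) : ℕ :=
  ∑ x ∈ K, ∑ y ∈ K, ∑ z ∈ K, if Odd3 e x y z then 1 else 0

theorem numOdd_smul [T.Normal] (hF : Fintype.card F = 2) (hm : 3 ≤ m) (g : G) (K : Finset Ω) :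
    numOdd e (g • K) = numOdd e K := by
  classical
  unfold numOdd
  have hinj : ∀ x ∈ K, ∀ y ∈ K, g • x = g • y → x = y := fun x _ y _ h => smul_left_cancel g h
  simp only [Finset.smul_finset_def]
  rw [Finset.sum_image hinj]
  refine Finset.sum_congr rfl fun x _ => ?_
  rw [Finset.sum_image hinj]
  refine Finset.sum_congr rfl fun y _ => ?_
  rw [Finset.sum_image hinj]
  refine Finset.sum_congr rfl fun z _ => ?_
  simp only [odd3_smul e hF hm]

/-- the number of odd triples of a configuration -/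
def cnt {n : ℕ} (c : Fin n → (Fin 5 → ZMod 2)) : ℕ :=
  ∑ i, ∑ j, ∑ l, if gram (c i) (c j) + gram (c j) (c l) + gram (c i) (c l) = 1 then 1 else 0

theorem exists_set (hF : Fintype.card F = 2) (a : Ω) (Q : (Fin m ⊕ Fin m → F) → F)
    (hQ : ∀ v w, Q (v + w) = Q v + Q w + sympForm m F v w)
    (hfix : ∀ v, v ≠ 0 → (tr e v • a = a ↔ Q v = 1))
    (hstab : ∀ s : Matrix.symplecticGroup (Fin m) F, tau e s • a = a ↔ ∀ v, Q (s • v) = Q v)
    {ι : ZMod 2 →+* F} (hι : Function.Injective ι) {b : Fin 5 → (Fin m ⊕ Fin m → F)} (hb : Frame Q b)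
    {n : ℕ} (c : Fin n → (Fin 5 → ZMod 2)) (hc : ∀ i, qf (c i) = 0) (hinj : Function.Injective c) :
    ∃ K : Finset Ω, K.card = n ∧ numOdd e K = cnt c := by
  classical
  have hq : ∀ i, Q (B ι b (c i)) = 0 := fun i => by rw [Q_B hF Q hQ ι hb, hc, map_zero]
  have hP : Function.Injective fun i => tr e (B ι b (c i)) • a := by
    intro i j h
    exact hinj (B_injective hF Q hQ ι hι hb (pt_injective e hF a Q hQ hfix (hq i) (hq j) h))
  refine ⟨Finset.univ.image fun i => tr e (B ι b (c i)) • a, ?_, ?_⟩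
  · rw [Finset.card_image_of_injective _ hP, Finset.card_univ, Fintype.card_fin]
  · unfold numOdd cnt
    rw [Finset.sum_image fun x _ y _ h => hP h]
    refine Finset.sum_congr rfl fun i _ => ?_
    rw [Finset.sum_image fun x _ y _ h => hP h]
    refine Finset.sum_congr rfl fun j _ => ?_
    rw [Finset.sum_image fun x _ y _ h => hP h]
    refine Finset.sum_congr rfl fun l _ => ?_
    have h1 : Odd3 e (tr e (B ι b (c i)) • a) (tr e (B ι b (c j)) • a) (tr e (B ι b (c l)) • a) ↔
        gram (c i) (c j) + gram (c j) (c l) + gram (c i) (c l) = 1 := by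
      rw [odd_pt e hF a Q hQ hfix hstab (hq i) (hq j) (hq l), f_B hF Q ι hb, f_B hF Q ι hb, f_B hF Q ι hb,
        ← map_add, ← map_add, ← map_one ι, hι.eq_iff]
    simp only [h1]

/-- the five configurations -/
def c3 : Fin 3 → (Fin 5 → ZMod 2) := ![![0, 0, 0, 0, 0], ![1, 0, 0, 0, 0], ![0, 1, 0, 0, 0]]
def c3' : Fin 3 → (Fin 5 → ZMod 2) := ![![0, 0, 0, 0, 0], ![1, 0, 0, 0, 0], ![0, 0, 1, 0, 0]]
def c5 : Fin 4 → Fin 5 → (Fin 5 → ZMod 2) := ![
  ![![0, 0, 0, 0, 0], ![1, 0, 0, 0, 0], ![0, 1, 0, 1, 0], ![0, 0, 1, 0, 0], ![1, 0, 1, 0, 0]],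
  ![![0, 0, 0, 0, 0], ![1, 0, 0, 0, 0], ![0, 1, 1, 0, 0], ![0, 0, 0, 1, 0], ![0, 0, 1, 0, 0]],
  ![![0, 0, 0, 0, 0], ![1, 0, 0, 0, 0], ![0, 1, 0, 0, 0], ![0, 0, 1, 0, 0], ![0, 0, 0, 1, 0]],
  ![![0, 0, 0, 0, 0], ![1, 0, 0, 0, 0], ![0, 1, 0, 0, 0], ![1, 1, 1, 1, 0], ![1, 1, 1, 0, 1]]]

theorem c3_qf : ∀ i, qf (c3 i) = 0 := by decide
theorem c3'_qf : ∀ i, qf (c3' i) = 0 := by decide
theorem c5_qf : ∀ t i, qf (c5 t i) = 0 := by decide +kernel
theorem c3_inj : Function.Injective c3 := by decide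
theorem c3'_inj : Function.Injective c3' := by decide
theorem c5_inj : ∀ t, Function.Injective (c5 t) := by decide +kernel
theorem cnt_c3 : cnt c3 = 6 := by decide
theorem cnt_c3' : cnt c3' = 0 := by decide
theorem cnt_c5 : ∀ t, cnt (c5 t) = (![24, 30, 36, 60] : Fin 4 → ℕ) t := by decide +kernel

variable [Fintype Ω]

/-- **Row `Sp_2m(2)`, `m ≥ 3`.** -/
theorem row_sp (A : AS G Ω T) (hF : Fintype.card F = 2) (hm : 3 ≤ m) (e : ↥T ≃* PSp m F)
    (hn : Fintype.card Ω = 2 ^ (m - 1) * (2 ^ m + 1) ∨ Fintype.card Ω = 2 ^ (m - 1) * (2 ^ m - 1))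
    {k : ℕ} (hk : 4 ≤ k) (h2k : 2 * k ≤ Fintype.card Ω + 1) (h : Hom G Ω k) : Homog G Ω (k - 1) := by
  have := A.finG
  have := A.faithful
  have := A.normal
  have := A.nontrivialΩ
  rcases (show k = 4 ∨ k = 5 ∨ 6 ≤ k by omega) with rfl | rfl | hk6
  · -- `4 ∣ n`
    refine homog_of_dvd_card A (p := 2) (a := 2) Nat.prime_two h (Or.inl ?_)
    have h1 : 2 ^ 2 ∣ 2 ^ (m - 1) := pow_dvd_pow 2 (by omega)
    rcases hn with hn | hn <;> rw [hn] <;> exact h1.mul_right _
  · -- `5 ∣ |G|`
    refine homog_of_prime_dvd Nat.prime_five h ?_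
    have h1 : Nat.card (Matrix.symplecticGroup (Fin m) F) ∣ Nat.card G :=
      Subgroup.card_dvd_of_injective (tau e) (tau_injective e hF (by omega))
    refine Dvd.dvd.trans ?_ h1
    rw [Cfsg.Agent.LieClassical.SympCount.card_symplecticGroup, hF]
    refine Dvd.dvd.mul_left ?_ _
    refine Dvd.dvd.trans ?_ (Finset.dvd_prod_of_mem _ (Finset.mem_range.2 (show 1 < m by omega)))
    norm_num
  · -- at least four orbits on the 5-sets
    by_contra hnot
    obtain ⟨s, hs3, hsk, hs1, hs2, hmono, -⟩ := h.exists_level (by omega) h2k (by omega) hnot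
    obtain ⟨a⟩ : Nonempty Ω := inferInstance
    obtain ⟨Q, hQ, hfix, hstab⟩ := main e A hF hm (by rw [Nat.card_eq_fintype_card]; exact hn) a
    obtain ⟨ι, hι⟩ := exists_iota hF
    obtain ⟨b, hb⟩ := exists_frame hF Q hQ hm
    -- the action is not 3-homogeneous
    have h3 : ¬ Homog G Ω 3 := by
      intro h3
      obtain ⟨K, hK, hK'⟩ := exists_set e hF a Q hQ hfix hstab hι hb c3 c3_qf c3_inj
      obtain ⟨L, hL, hL'⟩ := exists_set e hF a Q hQ hfix hstab hι hb c3' c3'_qf c3'_inj
      obtain ⟨g, hg⟩ := h3.exists_eq hK hL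
      have h4 := numOdd_smul e hF hm g K
      rw [hg, hL', hK', cnt_c3, cnt_c3'] at h4
      norm_num at h4
    have hs : s = 3 := by
      by_contra hcon
      exact h3 (hs1.mono (by omega) (by omega))
    have h5 := hmono 5 (by omega)
    rw [hs] at h5
    choose K hK hK' using fun t => exists_set e hF a Q hQ hfix hstab hι hb (c5 t) (c5_qf t) (c5_inj t)
    have h6 : 4 ≤ numOrb G Ω 5 := by
      refine le_numOrb K hK (numOdd e) (numOdd_smul e hF hm) ?_
      intro t t' ht
      beta_reduce at ht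
      rw [hK', hK', cnt_c5, cnt_c5] at ht
      revert t t'
      decide
    omega

end main

end Cfsg.Agent.H397.KHomSp
end

-- part: H397/KHomB
section
/-!
# `(k-1,k)`-homogeneous affine groups
-/

set_option autoImplicit false
set_option linter.unusedSectionVars false

namespace Cfsg.Agent.H397.KHom

open Finset MulAction
open scoped Pointwise

/-- `G` acts on `Ω` as a group of affine maps of `F_p^d` containing the translations. -/
def IsAff (G Ω : Type*) [Group G] [MulAction G Ω] (p d : ℕ) : Prop :=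
  ∃ e : Ω ≃ (Fin d → ZMod p),
    (∀ g : G, ∃ (A : (Fin d → ZMod p) →ₗ[ZMod p] (Fin d → ZMod p)) (b : Fin d → ZMod p),
      ∀ x, e (g • x) = A (e x) + b) ∧
    ∀ v, ∃ g : G, ∀ x, e (g • x) = e x + v

variable {G Ω : Type*} [Group G] [MulAction G Ω]

theorem IsAff.of_range {p d : ℕ} (h : IsAff (toPermHom G Ω).range Ω p d) : IsAff G Ω p d := by
  obtain ⟨e, h1, h2⟩ := h
  refine ⟨e, fun g => ?_, fun v => ?_⟩
  · exact h1 ⟨toPermHom G Ω g, g, rfl⟩
  · obtain ⟨⟨_, g, rfl⟩, hg⟩ := h2 v
    exact ⟨g, hg⟩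

theorem isAff_of (p : ℕ) [Fact p.Prime] {V : Type*} [AddCommGroup V] [Module (ZMod p) V] [Finite V]
    (e : V ≃ Ω) (h1 : ∀ g : G, ∃ (φ : V →+ V) (a : V), ∀ v, g • e v = e (φ v + a))
    (h2 : ∀ v, ∃ g : G, ∀ x, g • e x = e (x + v)) : ∃ d, IsAff G Ω p d := by
  have iFD : Module.Finite (ZMod p) V := Module.Finite.of_finite
  obtain ⟨φ⟩ : Nonempty (V ≃ₗ[ZMod p] (Fin (Module.finrank (ZMod p) V) → ZMod p)) :=
    ⟨(Module.finBasis (ZMod p) V).equivFun⟩
  refine ⟨Module.finrank (ZMod p) V, e.symm.trans φ.toEquiv, fun g => ?_, fun v => ?_⟩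
  · obtain ⟨φ0, a, hmain⟩ := h1 g
    refine ⟨φ.toLinearMap ∘ₗ (φ0.toZModLinearMap p) ∘ₗ φ.symm.toLinearMap, φ a, fun x => ?_⟩
    have h3 := hmain (e.symm x)
    rw [Equiv.apply_symm_apply] at h3
    change φ (e.symm (g • x)) = φ (φ0 (φ.symm (φ (e.symm x)))) + φ _
    rw [h3, Equiv.symm_apply_apply, map_add, LinearEquiv.symm_apply_apply]
  · obtain ⟨g, hg⟩ := h2 (φ.symm v)
    refine ⟨g, fun x => ?_⟩
    change φ (e.symm _) = φ (e.symm x) + v
    have h3 := hg (e.symm x)
    rw [Equiv.apply_symm_apply] at h3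
    rw [h3, Equiv.symm_apply_apply, map_add, LinearEquiv.apply_symm_apply]

/-- a regular normal elementary abelian subgroup makes `Ω` an affine space -/
theorem exists_isAff [Finite Ω] (p : ℕ) [Fact p.Prime] (N : Subgroup G) [N.Normal]
    (hNc : ∀ x ∈ N, ∀ y ∈ N, x * y = y * x) (hNp : ∀ n ∈ N, n ^ p = 1)
    (hNtr : ∀ x y : Ω, ∃ n ∈ N, n • x = y) (hNreg : ∀ x : Ω, ∀ n ∈ N, n • x = x → n = 1)
    (ω₀ : Ω) : ∃ d, IsAff G Ω p d := by
  classical
  have hinj : ∀ a b : N, a • ω₀ = b • ω₀ → a = b := by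
    intro a b hab
    have h : ((b⁻¹ * a : N) : G) • ω₀ = ω₀ := by
      change (b⁻¹ * a) • ω₀ = ω₀
      rw [mul_smul, hab, inv_smul_smul]
    have := hNreg ω₀ _ (b⁻¹ * a).2 h
    exact (inv_mul_eq_one.1 (Subtype.ext this)).symm
  let iC : CommGroup N :=
    { (inferInstance : Group N) with mul_comm := fun a b => Subtype.ext (hNc a a.2 b b.2) }
  let V := Additive N
  let iV : AddCommGroup V := @Additive.addCommGroup N iC
  let iM : Module (ZMod p) V := AddCommGroup.zmodModule (n := p) (by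
    intro x
    have : (Additive.toMul x : N) ^ p = 1 := by
      apply Subtype.ext
      have := hNp (Additive.toMul x : N) (Additive.toMul x : N).2
      simpa only [_root_.SubmonoidClass.coe_pow, _root_.OneMemClass.coe_one] using this
    exact congrArg Additive.ofMul this)
  let e : V ≃ Ω := Equiv.ofBijective (fun a : V => (Additive.toMul a : N) • ω₀)
    ⟨fun a b hab => Additive.toMul.injective (hinj _ _ hab),
       fun ω => by
          obtain ⟨n, hn, hnω⟩ := hNtr ω₀ ω
          exact ⟨Additive.ofMul ⟨n, hn⟩, hnω⟩⟩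
  have iF : Finite V := Finite.of_equiv Ω e.symm
  refine @isAff_of G Ω _ _ p _ V iV iM iF e (fun g => ?_) (fun v => ?_)
  · obtain ⟨a, ha, haω⟩ := hNtr ω₀ (g • ω₀)
    let φ0 : V →+ V :=
      { toFun := fun v => Additive.ofMul (MulAut.conjNormal g (Additive.toMul v : N))
        map_zero' := by
          show Additive.ofMul (MulAut.conjNormal g (1 : N)) = _
          rw [map_one]; rfl
        map_add' := by
          intro x y
          show Additive.ofMul (MulAut.conjNormal g ((Additive.toMul x : N) * (Additive.toMul y : N))) = _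
          rw [map_mul]; rfl }
    refine ⟨φ0, Additive.ofMul ⟨a, ha⟩, ?_⟩
    intro v
    show g • ((Additive.toMul v : N) • ω₀) =
      ((MulAut.conjNormal g (Additive.toMul v : N)) * (⟨a, ha⟩ : N)) • ω₀
    rw [mul_smul]
    change g • (((Additive.toMul v : N) : G) • ω₀) =
      ((MulAut.conjNormal g (Additive.toMul v : N) : N) : G) • (a • ω₀)
    rw [haω, MulAut.conjNormal_apply, smul_smul, smul_smul]
    congr 1
    group
  · refine ⟨((Additive.toMul v : N) : G), fun x => ?_⟩
    change (Additive.toMul v : N) • ((Additive.toMul x : N) • ω₀) =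
      ((Additive.toMul x : N) * (Additive.toMul v : N)) • ω₀
    rw [← mul_smul, show (Additive.toMul v : N) * (Additive.toMul x : N) =
      (Additive.toMul x : N) * (Additive.toMul v : N) from iC.mul_comm _ _]

theorem IsAff.card {p d : ℕ} [Fact p.Prime] [Fintype Ω] (h : IsAff G Ω p d) : Fintype.card Ω = p ^ d := by
  obtain ⟨e, -, -⟩ := h
  rw [Fintype.card_congr e, Fintype.card_fun, ZMod.card, Fintype.card_fin]

section

variable [Fintype Ω] [DecidableEq Ω]

/-- affine images of sets -/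
theorem Hom.exists_aff {k : ℕ} (h : Hom G Ω k) {p d : ℕ} [Fact p.Prime] (hA : IsAff G Ω p d)
    (hn : k - 1 ≤ Fintype.card Ω) (S T : Finset (Fin d → ZMod p)) (hS : S.card ≤ k - 1) (hT : k ≤ T.card) :
    ∃ (A : (Fin d → ZMod p) →ₗ[ZMod p] (Fin d → ZMod p)) (b : Fin d → ZMod p),
      Function.Bijective (fun v => A v + b) ∧ ∀ v ∈ S, A v + b ∈ T := by
  obtain ⟨e, h1, -⟩ := hA
  obtain ⟨I, hI1, hI⟩ := exists_card (Ω := Ω) (k - 1) hn (S.map e.symm.toEmbedding) (by rwa [card_map])
  obtain ⟨T', hT', hT'c⟩ := exists_subset_card_eq hT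
  obtain ⟨g, hg⟩ := h I (T'.map e.symm.toEmbedding) hI (by rwa [card_map])
  obtain ⟨A, b, hAb⟩ := h1 g
  refine ⟨A, b, ?_, ?_⟩
  · have h2 : (fun v => A v + b) = e ∘ (fun x => g • x) ∘ e.symm := by
      funext v
      simp only [Function.comp_apply]
      rw [hAb, Equiv.apply_symm_apply]
    rw [h2]
    exact e.bijective.comp ((MulAction.bijective g).comp e.symm.bijective)
  · intro v hv
    have h3 := hg (e.symm v) (hI1 (mem_map_of_mem _ hv))
    rw [mem_map] at h3
    obtain ⟨t, ht, htv⟩ := h3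
    have h4 : e (g • e.symm v) = t := by
      rw [← htv]; exact e.apply_symm_apply t
    rw [hAb, Equiv.apply_symm_apply] at h4
    rw [h4]
    exact hT' ht

/-- `k` a power of `p` -/
theorem Hom.homog_of_pow {k : ℕ} (h : Hom G Ω k) (hk1 : 1 ≤ k) {p d j : ℕ} [Fact p.Prime] (hA : IsAff G Ω p d)
    (hj : j ≤ d) (hk : k = p ^ j) : Homog G Ω (k - 1) := by
  obtain ⟨e, -, htr⟩ := hA
  have hdvd : p ^ j ∣ Nat.card (Multiplicative (Fin d → ZMod p)) := by
    rw [Nat.card_congr Multiplicative.toAdd, Nat.card_eq_fintype_card, Fintype.card_fun, ZMod.card,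
      Fintype.card_fin]
    exact pow_dvd_pow p hj
  obtain ⟨K, hK⟩ := Sylow.exists_subgroup_card_pow_prime p hdvd
  obtain ⟨W, hW⟩ : ∃ W : Finset (Fin d → ZMod p),
      ∀ v, v ∈ W ↔ Multiplicative.ofAdd v ∈ K := by
    classical
    exact ⟨univ.filter (fun v => Multiplicative.ofAdd v ∈ K), fun v => by simp⟩
  have hWc : W.card = k := by
    rw [hk, ← hK, ← Fintype.card_coe, ← Nat.card_eq_fintype_card]
    exact Nat.card_congr
      { toFun := fun v => (⟨Multiplicative.ofAdd v.1, (hW _).1 v.2⟩ : K)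
        invFun := fun x => ⟨Multiplicative.toAdd x.1, (hW _).2 x.2⟩
        left_inv := fun _ => rfl
        right_inv := fun _ => rfl }
  have hadd : ∀ v w, v ∈ W → w ∈ W → v + w ∈ W := by
    intro v w hv hw
    rw [hW] at hv hw ⊢
    rw [ofAdd_add]
    exact K.mul_mem hv hw
  have hsub : ∀ v w, v ∈ W → w ∈ W → v - w ∈ W := by
    intro v w hv hw
    rw [hW] at hv hw ⊢
    rw [ofAdd_sub]
    exact K.div_mem hv hw
  refine h.homog_of_trans hk1 (J := W.map e.symm.toEmbedding) (by rw [card_map, hWc]) ?_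
  intro x hx y hy
  rw [mem_map] at hx hy
  obtain ⟨v, hv, rfl⟩ := hx
  obtain ⟨w, hw, rfl⟩ := hy
  obtain ⟨g, hg⟩ := htr (w - v)
  have hgv : ∀ u, g • e.symm u = e.symm (u + (w - v)) := by
    intro u
    apply e.injective
    rw [hg, Equiv.apply_symm_apply, Equiv.apply_symm_apply]
  refine ⟨g, ?_, ?_⟩
  · apply eq_of_subset_of_card_le
    · intro z hz
      obtain ⟨z', hz', rfl⟩ := mem_smul_finset.1 hz
      rw [mem_map] at hz'
      obtain ⟨u, hu, rfl⟩ := hz'
      rw [mem_map]
      exact ⟨u + (w - v), hadd _ _ hu (hsub _ _ hw hv), (hgv u).symm⟩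
    · rw [card_smul_finset]
  · change g • e.symm v = e.symm w
    rw [hgv]
    congr 1
    abel

/-- `p` odd, a line versus a cube -/
theorem Hom.false_of_cube {k : ℕ} (h : Hom G Ω k) (hk : 4 ≤ k) {p d : ℕ} [Fact p.Prime] (hp : p ≠ 2)
    (hA : IsAff G Ω p d) (hn : k - 1 ≤ Fintype.card Ω) (hd : k ≤ 2 ^ d) : False := by
  classical
  have hpp : p.Prime := Fact.out
  have hp3 : 3 ≤ p := by
    have := hpp.two_le; omega
  have hd0 : 0 < d := by
    by_contra hcon
    have : d = 0 := by omega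
    rw [this] at hd
    omega
  have h2 : (2 : ZMod p) ≠ 0 := by
    intro h'
    have h3 : ((2 : ℕ) : ZMod p) = 0 := by exact_mod_cast h'
    rw [ZMod.natCast_eq_zero_iff] at h3
    have := Nat.le_of_dvd (by norm_num) h3
    omega
  let c : Fin d → ZMod p := fun _ => 1
  have hc : c ⟨0, hd0⟩ = 1 := rfl
  let T : Finset (Fin d → ZMod p) :=
    (univ : Finset (Fin d → Bool)).image (fun f i => if f i then 1 else 0)
  have hT : T.card = 2 ^ d := by
    rw [card_image_of_injective, card_univ, Fintype.card_fun, Fintype.card_bool, Fintype.card_fin]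
    intro f g hfg
    funext i
    have := congrFun hfg i
    simp only at this
    cases hf : f i <;> cases hg : g i <;> simp [hf, hg] at this ⊢
  obtain ⟨A, b, hbij, hAb⟩ := h.exists_aff hA hn {0, c, c + c}
    (T := T) (card_le_three.trans (by omega)) (by rw [hT]; exact hd)
  have e0 := hAb 0 (by simp only [_root_.Finset.mem_insert, _root_.Finset.mem_singleton, _root_.true_or])
  have e1 := hAb c (by simp only [_root_.Finset.mem_insert, _root_.Finset.mem_singleton, _root_.left_eq_add, _root_.true_or, _root_.or_true])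
  have e2 := hAb (c + c) (by simp only [_root_.Finset.mem_insert, _root_.add_eq_left, _root_.Finset.mem_singleton, _root_.or_true])
  simp only [T, mem_image, mem_univ, true_and] at e0 e1 e2
  obtain ⟨f0, h0⟩ := e0
  obtain ⟨f1, h1⟩ := e1
  obtain ⟨f2, h2'⟩ := e2
  have key : ∀ i, f0 i = f1 i := by
    intro i
    have a0 := congrFun h0 i
    have a1 := congrFun h1 i
    have a2 := congrFun h2' i
    simp only [map_zero, map_add, Pi.add_apply, Pi.zero_apply, zero_add] at a0 a1 a2
    have a3 : (if f0 i = true then (1 : ZMod p) else 0) + (if f2 i = true then 1 else 0) =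
        2 * (if f1 i = true then 1 else 0) := by
      rw [a0, a1, a2]; ring
    cases h3 : f0 i <;> cases h4 : f1 i <;> cases h5 : f2 i <;> simp only [h3, h4, h5, _root_.Bool.false_eq_true, ↓ _root_.reduceIte, _root_.add_zero, _root_.MulZeroClass.mul_zero, _root_.zero_add, _root_.one_ne_zero, _root_.mul_one, _root_.Bool.true_eq_false] at a3 ⊢
    · exact h2 a3.symm
    · have : (1 : ZMod p) = 0 := by linear_combination -a3
      exact one_ne_zero this
    · have : (1 : ZMod p) + 1 = 0 := by linear_combination a3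
      apply h2; rw [← this]; ring
  have h6 : A 0 + b = A c + b := by
    rw [← h0, ← h1]
    funext i
    rw [key i]
  have h7 := hbij.1 h6
  have h8 := congrFun h7 ⟨0, hd0⟩
  rw [hc] at h8
  exact zero_ne_one h8

/-- `p = 2`, a plane versus independent points -/
theorem Hom.false_of_two {k : ℕ} (h : Hom G Ω k) (hk : 5 ≤ k) {d : ℕ}
    (hA : IsAff G Ω 2 d) (hn : k - 1 ≤ Fintype.card Ω) (hd : k ≤ d + 1) : False := by
  classical
  have hfact : Fact (Nat.Prime 2) := ⟨Nat.prime_two⟩
  obtain ⟨i0, hi0⟩ : ∃ i0 : Fin d, i0.1 = 0 := ⟨⟨0, by omega⟩, rfl⟩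
  obtain ⟨i1, hi1⟩ : ∃ i1 : Fin d, i1.1 = 1 := ⟨⟨1, by omega⟩, rfl⟩
  have hne : i0 ≠ i1 := fun h' => by rw [h'] at hi0; omega
  let ε : Option (Fin d) → (Fin d → ZMod 2) := fun o => o.elim 0 (fun i => Pi.single i 1)
  have hε : Function.Injective ε := by
    intro a b hab
    cases a with
    | none =>
      cases b with
      | none => rfl
      | some j =>
        exfalso
        have := congrFun hab j
        simp only [ε, _root_.Option.elim_none, _root_.Pi.zero_apply, _root_.Option.elim_some, _root_.Pi.single_eq_same, _root_.zero_ne_one] at this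
    | some i =>
      cases b with
      | none =>
        exfalso
        have := congrFun hab i
        simp only [ε, _root_.Option.elim_some, _root_.Pi.single_eq_same, _root_.Option.elim_none, _root_.Pi.zero_apply, _root_.one_ne_zero] at this
      | some j =>
        have := congrFun hab i
        simp only [ε, Option.elim_some, Pi.single_eq_same] at this
        by_contra hij
        rw [Pi.single_eq_of_ne (fun h' => hij (by rw [h']))] at this
        exact one_ne_zero this
  let T : Finset (Fin d → ZMod 2) := (univ : Finset (Option (Fin d))).image ε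
  have hT : T.card = d + 1 := by
    rw [card_image_of_injective _ hε, card_univ, Fintype.card_option, Fintype.card_fin]
  let u : Fin d → ZMod 2 := Pi.single i0 1
  let v : Fin d → ZMod 2 := Pi.single i1 1
  obtain ⟨A, b, hbij, hAb⟩ := h.exists_aff hA hn {0, u, v, u + v}
    (T := T) (card_le_four.trans (by omega)) (by rw [hT]; exact hd)
  have e0 := hAb 0 (by simp only [_root_.Finset.mem_insert, _root_.Finset.mem_singleton, _root_.true_or])
  have e1 := hAb u (by simp only [_root_.Finset.mem_insert, _root_.Finset.mem_singleton, _root_.left_eq_add, _root_.true_or, _root_.or_true])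
  have e2 := hAb v (by simp only [_root_.Finset.mem_insert, _root_.Finset.mem_singleton, _root_.right_eq_add, _root_.true_or, _root_.or_true])
  have e3 := hAb (u + v) (by simp only [_root_.Finset.mem_insert, _root_.add_eq_left, _root_.add_eq_right, _root_.Finset.mem_singleton, _root_.or_true])
  simp only [T, mem_image, mem_univ, true_and] at e0 e1 e2 e3
  obtain ⟨f0, h0⟩ := e0
  obtain ⟨f1, h1⟩ := e1
  obtain ⟨f2, h2⟩ := e2
  obtain ⟨f3, h3⟩ := e3
  have hu : u i0 = 1 := Pi.single_eq_same _ _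
  have hu' : u i1 = 0 := Pi.single_eq_of_ne (Ne.symm hne) _
  have hv : v i0 = 0 := Pi.single_eq_of_ne hne _
  have hv' : v i1 = 1 := Pi.single_eq_same _ _
  have hinj : ∀ {x y : Fin d → ZMod 2}, x ≠ y → ∀ {f g : Option (Fin d)}, ε f = A x + b → ε g = A y + b →
      f ≠ g := by
    intro x y hxy f g hf hg hfg
    apply hxy
    apply hbij.1
    change A x + b = A y + b
    rw [← hf, ← hg, hfg]
  have n01 : f0 ≠ f1 := hinj (x := 0) (y := u) (fun h' => by
    have := congrFun h' i0; rw [hu] at this; exact zero_ne_one this) h0 h1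
  have n02 : f0 ≠ f2 := hinj (x := 0) (y := v) (fun h' => by
    have := congrFun h' i1; rw [hv'] at this; exact zero_ne_one this) h0 h2
  have n12 : f1 ≠ f2 := hinj (x := u) (y := v) (fun h' => by
    have := congrFun h' i0; rw [hu, hv] at this; exact one_ne_zero this) h1 h2
  have n13 : f1 ≠ f3 := hinj (x := u) (y := u + v) (fun h' => by
    have := congrFun h' i1; rw [Pi.add_apply, hu', hv'] at this; simp at this) h1 h3
  have n23 : f2 ≠ f3 := hinj (x := v) (y := u + v) (fun h' => by
    have := congrFun h' i0; rw [Pi.add_apply, hu, hv] at this; simp only [_root_.add_zero, _root_.zero_ne_one] at this) h2 h3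
  have n03 : f0 ≠ f3 := hinj (x := 0) (y := u + v) (fun h' => by
    have := congrFun h' i0; rw [Pi.add_apply, hu, hv] at this; simp at this) h0 h3
  have hsum : ε f0 + ε f1 + ε f2 + ε f3 = 0 := by
    rw [h0, h1, h2, h3, map_zero, map_add]
    have h4 : ∀ w : Fin d → ZMod 2, w + w = 0 := fun w => by
      funext i; exact CharTwo.add_self_eq_zero (w i)
    have h5 : 0 + b + (A u + b) + (A v + b) + (A u + A v + b) =
        (A u + A u) + (A v + A v) + (b + b) + (b + b) := by abel
    rw [h5, h4 (A u), h4 (A v), h4 b]; simp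
  have hcoord : ∀ (i : Fin d) (o : Option (Fin d)), o ≠ some i → ε o i = 0 := by
    intro i o ho
    cases o with
    | none => rfl
    | some j => exact Pi.single_eq_of_ne (fun h' => ho (by rw [h'])) _
  have hcoord' : ∀ i : Fin d, ε (some i) i = 1 := fun i => Pi.single_eq_same _ _
  -- one of `f0`, `f1` is not `none`
  cases hf0 : f0 with
  | some i =>
    have := congrFun hsum i
    rw [Pi.add_apply, Pi.add_apply, Pi.add_apply, hf0, hcoord', hcoord i f1 (by rw [← hf0]; exact n01.symm),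
      hcoord i f2 (by rw [← hf0]; exact n02.symm), hcoord i f3 (by rw [← hf0]; exact n03.symm)] at this
    simp only [_root_.add_zero, _root_.Pi.zero_apply, _root_.one_ne_zero] at this
  | none =>
    cases hf1 : f1 with
    | none => exact n01 (hf0.trans hf1.symm)
    | some i =>
      have := congrFun hsum i
      rw [Pi.add_apply, Pi.add_apply, Pi.add_apply, hf1, hcoord', hcoord i f0 (by rw [← hf1]; exact n01),
        hcoord i f2 (by rw [← hf1]; exact n12.symm), hcoord i f3 (by rw [← hf1]; exact n13.symm)] at this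
      simp at this

theorem card_hyper (p d : ℕ) [Fact p.Prime] (i0 : Fin (d + 1)) :
    ((univ : Finset (Fin (d + 1) → ZMod p)).filter (fun v => v i0 = 0)).card = p ^ d := by
  classical
  have h1 : Fintype.card {v : Fin (d + 1) → ZMod p // v i0 = 0} = p ^ d := by
    have e : {v : Fin (d + 1) → ZMod p // v i0 = 0} ≃ (Fin d → ZMod p) :=
      { toFun := fun v j => v.1 (i0.succAbove j)
        invFun := fun w => ⟨i0.insertNth 0 w, by simp⟩
        left_inv := by
          rintro ⟨v, hv⟩
          apply Subtype.ext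
          change i0.insertNth 0 (fun j => v (i0.succAbove j)) = v
          rw [← hv]
          exact Fin.insertNth_self_removeNth i0 v
        right_inv := by
          intro w
          funext j
          simp }
    rw [Fintype.card_congr e, Fintype.card_fun, ZMod.card, Fintype.card_fin]
  rw [← h1, Fintype.card_subtype]

/-- a hyperplane versus a spanning set -/
theorem Hom.false_of_hyper {k : ℕ} (h : Hom G Ω k) {p d : ℕ} [Fact p.Prime]
    (hA : IsAff G Ω p (d + 1)) (hn : k - 1 ≤ Fintype.card Ω) (hd : d + 2 ≤ k - 1) (hk : k ≤ p ^ d) : False := by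
  classical
  let ε : Option (Fin (d + 1)) → (Fin (d + 1) → ZMod p) := fun o => o.elim 0 (fun i => Pi.single i 1)
  let S : Finset (Fin (d + 1) → ZMod p) := (univ : Finset (Option (Fin (d + 1)))).image ε
  have hS : S.card ≤ k - 1 := by
    refine card_image_le.trans ?_
    rw [card_univ, Fintype.card_option, Fintype.card_fin]
    omega
  obtain ⟨A, b, hbij, hAb⟩ := h.exists_aff hA hn S
    ((univ : Finset (Fin (d + 1) → ZMod p)).filter (fun v => v 0 = 0)) hS (by rw [card_hyper]; exact hk)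
  simp only [mem_filter, mem_univ, true_and] at hAb
  have hb : b 0 = 0 := by
    have := hAb 0 (mem_image.2 ⟨none, mem_univ _, rfl⟩)
    rwa [map_zero, zero_add] at this
  have hi : ∀ i, A (Pi.single i 1) 0 = 0 := by
    intro i
    have := hAb (Pi.single i 1) (mem_image.2 ⟨some i, mem_univ _, rfl⟩)
    rwa [Pi.add_apply, hb, add_zero] at this
  have hall : ∀ v, A v 0 = 0 := by
    intro v
    have h1 : v = ∑ i, v i • (Pi.single i 1 : Fin (d + 1) → ZMod p) := by
      funext j
      rw [Finset.sum_apply]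
      simp [Pi.single_apply]
    rw [h1, map_sum, Finset.sum_apply]
    refine Finset.sum_eq_zero fun i _ => ?_
    rw [map_smul, Pi.smul_apply, hi, smul_zero]
  obtain ⟨v, hv⟩ := hbij.2 (Pi.single 0 1)
  have h2 := congrFun hv 0
  simp only [Pi.add_apply, hall, hb, add_zero, Pi.single_eq_same] at h2
  exact zero_ne_one h2

/-- a set containing a hyperplane versus the complement of a blocking set -/
theorem Hom.false_of_blocking {k : ℕ} (h : Hom G Ω k) {p d : ℕ} [Fact p.Prime]
    (hA : IsAff G Ω p (d + 1)) (hn : k - 1 ≤ Fintype.card Ω) (hk : p ^ d ≤ k - 1)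
    (hc : k + (d + 1) * (p - 1) + 1 ≤ p ^ (d + 1)) : False := by
  classical
  let ax : Finset (Fin (d + 1) → ZMod p) :=
    Insert.insert 0 (((univ : Finset (Fin (d + 1))) ×ˢ ((univ : Finset (ZMod p)).erase 0)).image
      (fun x => Pi.single x.1 x.2))
  have hax : ax.card ≤ (d + 1) * (p - 1) + 1 := by
    refine (card_insert_le _ _).trans (Nat.succ_le_succ (card_image_le.trans ?_))
    rw [card_product, card_univ, Fintype.card_fin, card_erase_of_mem (mem_univ _), card_univ, ZMod.card]
  have hmem : ∀ (i : Fin (d + 1)) (c : ZMod p), Pi.single i c ∈ ax := by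
    intro i c
    by_cases h0 : c = 0
    · rw [h0, Pi.single_zero]; exact mem_insert_self _ _
    · exact mem_insert_of_mem (mem_image.2 ⟨(i, c), by simp [h0], rfl⟩)
  have hTc : k ≤ axᶜ.card := by
    rw [card_compl, Fintype.card_fun, ZMod.card, Fintype.card_fin]
    omega
  obtain ⟨A, b, hbij, hAb⟩ := h.exists_aff hA hn
    ((univ : Finset (Fin (d + 1) → ZMod p)).filter (fun v => v 0 = 0)) axᶜ (by rw [card_hyper]; exact hk) hTc
  -- the inverse of `A`
  have hAinj : Function.Injective A := by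
    intro x y hxy
    apply hbij.1
    change A x + b = A y + b
    rw [hxy]
  have hAsurj : Function.Surjective A := by
    intro y
    obtain ⟨x, hx⟩ := hbij.2 (y + b)
    exact ⟨x, add_right_cancel hx⟩
  let B := LinearEquiv.ofBijective A ⟨hAinj, hAsurj⟩
  have hB : ∀ x, A (B.symm x) = x := fun x => B.apply_symm_apply x
  obtain ⟨i, hi⟩ : ∃ i, B.symm (Pi.single i 1) 0 ≠ 0 := by
    by_contra hcon
    push Not at hcon
    have hall : ∀ v, B.symm v 0 = 0 := by
      intro v
      have h1 : v = ∑ i, v i • (Pi.single i 1 : Fin (d + 1) → ZMod p) := by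
        funext j
        rw [Finset.sum_apply]
        simp [Pi.single_apply]
      rw [h1, map_sum, Finset.sum_apply]
      refine Finset.sum_eq_zero fun i _ => ?_
      rw [map_smul, Pi.smul_apply, hcon, smul_zero]
    obtain ⟨v, hv⟩ := B.symm.surjective (Pi.single 0 1)
    have h2 := congrFun hv 0
    rw [hall, Pi.single_eq_same] at h2
    exact zero_ne_one h2
  let c : ZMod p := B.symm b 0 / B.symm (Pi.single i 1) 0
  have hv0 : B.symm ((Pi.single i c : Fin (d + 1) → ZMod p) - b) 0 = 0 := by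
    have h1 : (Pi.single i c : Fin (d + 1) → ZMod p) = c • Pi.single i 1 := by
      rw [← Pi.single_smul, smul_eq_mul, mul_one]
    rw [map_sub, h1, map_smul, Pi.sub_apply, Pi.smul_apply, smul_eq_mul]
    simp only [c]
    rw [div_mul_cancel₀ _ hi, sub_self]
  have h3 := hAb _ (mem_filter.2 ⟨mem_univ (B.symm ((Pi.single i c : Fin (d + 1) → ZMod p) - b)), hv0⟩)
  rw [hB, sub_add_cancel, mem_compl] at h3
  exact h3 (hmem i c)

theorem Hom.exists_aff_one {k : ℕ} (h : Hom G Ω k) {p : ℕ} [Fact p.Prime] (hA : IsAff G Ω p 1)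
    (hn : k - 1 ≤ Fintype.card Ω) (S T : Finset (ZMod p)) (hS : S.card ≤ k - 1) (hT : k ≤ T.card) :
    ∃ a b : ZMod p, a ≠ 0 ∧ ∀ v ∈ S, a * v + b ∈ T := by
  classical
  have hinj : Function.Injective (fun (x : ZMod p) (_ : Fin 1) => x) := fun x y hxy => congrFun hxy 0
  obtain ⟨A, b, hbij, hAb⟩ := h.exists_aff hA hn (S.image (fun x _ => x)) (T.image (fun x _ => x))
    (by rwa [card_image_of_injective _ hinj]) (by rwa [card_image_of_injective _ hinj])
  have hlin : ∀ v : ZMod p, A (fun _ => v) 0 = A (fun _ => 1) 0 * v := by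
    intro v
    have h1 : (fun _ => v : Fin 1 → ZMod p) = v • (fun _ => 1) := by
      funext i; simp
    rw [h1, map_smul, Pi.smul_apply, smul_eq_mul, mul_comm]
  refine ⟨A (fun _ => 1) 0, b 0, ?_, ?_⟩
  · intro h0
    have h1 : (fun _ => 1 : Fin 1 → ZMod p) = 0 := by
      apply hbij.1
      change A (fun _ => 1) + b = A 0 + b
      funext i
      rw [Pi.add_apply, Pi.add_apply, map_zero, Subsingleton.elim i 0, h0]
      rfl
    exact one_ne_zero (congrFun h1 0)
  · intro v hv
    have h1 := hAb (fun _ => v) (mem_image_of_mem _ hv)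
    rw [mem_image] at h1
    obtain ⟨t, ht, htv⟩ := h1
    have h2 := congrFun htv 0
    rw [Pi.add_apply, hlin] at h2
    rw [← h2]
    exact ht

theorem Hom.choose_le_one {k : ℕ} (h : Hom G Ω k) (hk : 1 ≤ k) {p : ℕ} [Fact p.Prime] (hA : IsAff G Ω p 1)
    (hn : k ≤ Fintype.card Ω) : p.choose (k - 1) ≤ k * ((p - 1) * p) := by
  classical
  obtain ⟨I, -, hI⟩ := Finset.exists_subset_card_eq (s := (Finset.univ : Finset Ω))
        (n := k - 1) (by rw [card_univ]; omega)
  have h1 := h.choose_le_orbit hk hn hI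
  have hc := hA.card
  rw [pow_one] at hc
  rw [hc] at h1
  refine h1.trans (Nat.mul_le_mul_left _ ?_)
  obtain ⟨e, h2, -⟩ := hA
  let F : {a : ZMod p // a ≠ 0} × ZMod p → Finset Ω :=
    fun ab => I.image (fun x => e.symm (fun _ => ab.1.1 * e x 0 + ab.2))
  have hsub : orbit G I ⊆ Set.range F := by
    rintro _ ⟨g, rfl⟩
    obtain ⟨A, b, hAb⟩ := h2 g
    have hlin : ∀ v : Fin 1 → ZMod p, A v 0 = A (fun _ => 1) 0 * v 0 := by
      intro v
      have h1 : v = v 0 • (fun _ => 1) := by
        funext i; rw [Subsingleton.elim i 0]; simp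
      conv_lhs => rw [h1]
      rw [map_smul, Pi.smul_apply, smul_eq_mul, mul_comm]
    have hne : A (fun _ => 1) 0 ≠ 0 := by
      intro h0
      have h5 : ∀ x y : Ω, x = y := by
        intro x y
        apply MulAction.injective g
        apply e.injective
        simp only
        rw [hAb, hAb]
        funext i
        rw [Subsingleton.elim i 0, Pi.add_apply, Pi.add_apply, hlin (e x), hlin (e y), h0, zero_mul, zero_mul]
      have h6 : Fintype.card Ω ≤ 1 := Fintype.card_le_one_iff.2 h5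
      rw [hc] at h6
      have := (Fact.out : p.Prime).two_le
      omega
    refine ⟨(⟨A (fun _ => 1) 0, hne⟩, b 0), ?_⟩
    change I.image (fun x => e.symm (fun _ => A (fun _ => 1) 0 * e x 0 + b 0)) = I.image (fun x => g • x)
    congr 1
    funext x
    rw [Equiv.symm_apply_eq]
    funext i
    rw [Subsingleton.elim i 0, hAb, Pi.add_apply, hlin (e x)]
  have h3 := Set.ncard_le_ncard hsub (Set.toFinite _)
  refine h3.trans ?_
  rw [← Nat.card_coe_set_eq]
  refine (Finite.card_range_le F).trans ?_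
  rw [Nat.card_prod, Nat.card_eq_fintype_card (α := ZMod p), ZMod.card]
  apply Nat.mul_le_mul_right
  rw [Nat.card_eq_fintype_card, Fintype.card_subtype_compl, ZMod.card, Fintype.card_unique]

theorem choose_growth {p k : ℕ} (hk : 5 ≤ k) (hn : 2 * k ≤ p + 1) :
    p.choose 4 * k ≤ 5 * p.choose (k - 1) := by
  induction k, hk using Nat.le_induction with
  | base => exact le_of_eq (mul_comm _ _)
  | succ k hk ih =>
    have h1 := ih (by omega)
    have h2 : p.choose k * k = p.choose (k - 1) * (p - (k - 1)) := by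
      have h5 := Nat.choose_succ_right_eq p (k - 1)
      rw [Nat.sub_add_cancel (by omega)] at h5
      exact h5
    rw [Nat.add_sub_cancel]
    have h3 : k + 1 ≤ p - (k - 1) := by omega
    have h4 : p.choose 4 * (k + 1) * k ≤ 5 * p.choose k * k := by
      calc p.choose 4 * (k + 1) * k = (p.choose 4 * k) * (k + 1) := by ring
        _ ≤ (5 * p.choose (k - 1)) * (p - (k - 1)) := Nat.mul_le_mul h1 h3
        _ = 5 * (p.choose (k - 1) * (p - (k - 1))) := by ring
        _ = 5 * p.choose k * k := by rw [← h2]; ring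
    exact Nat.le_of_mul_le_mul_right h4 (by omega)

theorem prime_bound {p k : ℕ} (hk : 5 ≤ k) (hn : 2 * k ≤ p + 1)
    (h : p.choose (k - 1) ≤ k * ((p - 1) * p)) : p ≤ 13 := by
  have h1 := choose_growth hk hn
  have h2 : p.choose 4 * k ≤ 5 * ((p - 1) * p) * k := by
    refine h1.trans ?_
    calc 5 * p.choose (k - 1) ≤ 5 * (k * ((p - 1) * p)) := Nat.mul_le_mul_left _ h
      _ = 5 * ((p - 1) * p) * k := by ring
  have h3 : p.choose 4 ≤ 5 * ((p - 1) * p) := Nat.le_of_mul_le_mul_right h2 (by omega)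
  have h4 : p.choose 4 * 24 = p * (p - 1) * (p - 2) * (p - 3) := by
    have h5 := Nat.descFactorial_eq_factorial_mul_choose p 4
    simp only [Nat.descFactorial, Nat.factorial] at h5
    rw [mul_comm]
    rw [show (24 : ℕ) = (3 + 1) * ((2 + 1) * ((1 + 1) * ((0 + 1) * 1))) from rfl, ← h5]
    simp only [Nat.sub_zero, mul_one]
    ring
  by_contra hcon
  push Not at hcon
  obtain ⟨m, rfl⟩ : ∃ m, p = m + 14 := ⟨p - 14, by omega⟩
  have h5 : m + 14 - 1 = m + 13 := by omega
  have h6 : m + 14 - 2 = m + 12 := by omega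
  have h7 : m + 14 - 3 = m + 11 := by omega
  rw [h5, h6, h7] at h4
  rw [h5] at h3
  have h8 : (m + 14) * (m + 13) * (m + 12) * (m + 11) ≤ 120 * ((m + 14) * (m + 13)) := by
    rw [← h4]
    exact (Nat.mul_le_mul_right 24 h3).trans (le_of_eq (by ring))
  have h9 : (m + 12) * (m + 11) ≤ 120 := by
    have h10 : 0 < (m + 14) * (m + 13) := Nat.mul_pos (Nat.succ_pos _) (Nat.succ_pos _)
    have h11 : ((m + 12) * (m + 11)) * ((m + 14) * (m + 13)) ≤ 120 * ((m + 14) * (m + 13)) := by
      refine le_trans (le_of_eq ?_) h8; ring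
    exact Nat.le_of_mul_le_mul_right h11 h10
  exact absurd ((Nat.mul_le_mul (Nat.le_add_left 12 m) (Nat.le_add_left 11 m)).trans h9) (by decide)

/-- `k = 4`, prime degree -/
theorem Hom.false_of_prime_four (h : Hom G Ω 4) {p : ℕ} [Fact p.Prime] (hA : IsAff G Ω p 1)
    (hp : 11 ≤ p) : False := by
  classical
  have hc := hA.card
  rw [pow_one] at hc
  have hval : ∀ m n : ℕ, m < p → n < p → ((m : ℕ) : ZMod p) = (n : ℕ) → m = n := by
    intro m n hm hn hmn
    rw [ZMod.natCast_eq_natCast_iff'] at hmn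
    rwa [Nat.mod_eq_of_lt hm, Nat.mod_eq_of_lt hn] at hmn
  have hT : (Finset.image (Nat.cast : ℕ → ZMod p) {0, 1, 3, 4}).card = 4 := by
    rw [card_image_of_injOn]
    · rfl
    · intro m hm n hn hmn
      simp only [coe_insert, coe_singleton, Set.mem_insert_iff, Set.mem_singleton_iff] at hm hn
      exact hval m n (by omega) (by omega) hmn
  obtain ⟨a, b, ha, hab⟩ := h.exists_aff_one hA (by rw [hc]; omega) {0, 1, -1}
    (Finset.image (Nat.cast : ℕ → ZMod p) {0, 1, 3, 4}) card_le_three (by rw [hT])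
  have e0 := hab 0 (by simp only [_root_.Finset.mem_insert, _root_.zero_ne_one, _root_.Finset.mem_singleton, _root_.zero_eq_neg, _root_.one_ne_zero, _root_.or_self, _root_.or_false])
  have e1 := hab 1 (by simp only [_root_.Finset.mem_insert, _root_.one_ne_zero, _root_.Finset.mem_singleton, _root_.true_or, _root_.or_true])
  have e2 := hab (-1) (by simp only [_root_.Finset.mem_insert, _root_.neg_eq_zero, _root_.one_ne_zero, _root_.Finset.mem_singleton, _root_.or_true])
  rw [mem_image] at e0 e1 e2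
  obtain ⟨x, hx, hx'⟩ := e0
  obtain ⟨y, hy, hy'⟩ := e1
  obtain ⟨z, hz, hz'⟩ := e2
  have h1 : ((y + z : ℕ) : ZMod p) = ((2 * x : ℕ) : ZMod p) := by
    push_cast
    rw [hx', hy', hz']; ring
  simp only [mem_insert, mem_singleton] at hx hy hz
  have h2 := hval (y + z) (2 * x) (by omega) (by (clear * - hp hx; omega)) h1
  have h3 : y = z := by omega
  have h4 : a * 1 + b = a * (-1) + b := by rw [← hy', ← hz', h3]
  have h5 : (2 : ZMod p) * a = 0 := by linear_combination h4
  rcases mul_eq_zero.1 h5 with h6 | h6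
  · have h7 := hval 2 0 (by omega) (by omega) (by exact_mod_cast h6)
    omega
  · exact ha h6

/-- arithmetic progressions and sets without -/
def s11 : Finset (ZMod 11) := {0, 1, 2, 3}
/-- set -/
def t11 : Finset (ZMod 11) := {0, 1, 2, 4, 5}
/-- set -/
def s13 : Finset (ZMod 13) := {0, 1, 2, 3}
/-- set -/
def t13 : Finset (ZMod 13) := {0, 1, 2, 4, 5}
/-- set -/
def s11' : Finset (ZMod 11) := {0, 1, 2, 3, 4}
/-- set -/
def t11' : Finset (ZMod 11) := {0, 1, 2, 3, 5, 6}

theorem card_s11 : s11.card = 4 := by decide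
theorem card_t11 : t11.card = 5 := by decide
theorem card_s13 : s13.card = 4 := by decide
theorem card_t13 : t13.card = 5 := by decide
theorem card_s11' : s11'.card = 5 := by decide
theorem card_t11' : t11'.card = 6 := by decide

set_option maxRecDepth 100000 in
theorem dec_11_5 : ∀ a b : ZMod 11, a ≠ 0 → ¬ ∀ v ∈ s11, a * v + b ∈ t11 := by decide +kernel

set_option maxRecDepth 100000 in
theorem dec_13_5 : ∀ a b : ZMod 13, a ≠ 0 → ¬ ∀ v ∈ s13, a * v + b ∈ t13 := by decide +kernel

set_option maxRecDepth 100000 in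
theorem dec_11_6 : ∀ a b : ZMod 11, a ≠ 0 → ¬ ∀ v ∈ s11', a * v + b ∈ t11' := by decide +kernel

theorem Hom.false_of_prime {k : ℕ} (h : Hom G Ω k) (hk : 4 ≤ k) {p : ℕ} [hpf : Fact p.Prime] (hA : IsAff G Ω p 1)
    (hn : 2 * k ≤ Fintype.card Ω + 1) (hex : ¬ (Fintype.card Ω = 7 ∧ k = 4)) : False := by
  have hc := hA.card
  rw [pow_one] at hc
  rw [hc] at hn hex
  have hpp := hpf.out
  rcases Nat.lt_or_ge k 5 with hk5 | hk5
  · have hk4 : k = 4 := by omega
    subst hk4
    refine h.false_of_prime_four hA ?_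
    by_contra hcon
    push Not at hcon
    have : 7 ≤ p := by omega
    interval_cases p
    · exact hex ⟨rfl, rfl⟩
    · exact absurd hpp (by norm_num)
    · exact absurd hpp (by norm_num)
    · exact absurd hpp (by norm_num)
  · have h1 := h.choose_le_one (by omega) hA (by rw [hc]; omega)
    have h2 := prime_bound hk5 hn h1
    have h3 : k ≤ 7 := by omega
    have h9 : 9 ≤ p := by omega
    interval_cases p
    · exact absurd hpp (by norm_num)
    · exact absurd hpp (by norm_num)
    · interval_cases k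
      · obtain ⟨a, b, ha, hab⟩ := h.exists_aff_one hA (by rw [hc]; omega) s11 t11
          card_s11.le card_t11.ge
        exact dec_11_5 a b ha hab
      · obtain ⟨a, b, ha, hab⟩ := h.exists_aff_one hA (by rw [hc]; omega) s11' t11'
          card_s11'.le card_t11'.ge
        exact dec_11_6 a b ha hab
      · omega
    · exact absurd hpp (by norm_num)
    · interval_cases k
      · obtain ⟨a, b, ha, hab⟩ := h.exists_aff_one hA (by rw [hc]; omega) s13 t13
          card_s13.le card_t13.ge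
        exact dec_13_5 a b ha hab
      · norm_num [Nat.choose] at h1
      · norm_num [Nat.choose] at h1

theorem numeric {p d : ℕ} (hp : 2 ≤ p) (hd : 2 ≤ d) (h1 : ¬ (p = 2 ∧ d = 2)) (h2 : ¬ (p = 2 ∧ d = 3))
    (h3 : ¬ (p = 3 ∧ d = 2)) : 2 * (d * (p - 1)) + 3 ≤ p ^ d := by
  have step : ∀ d, 1 ≤ d → 2 * (d * (p - 1)) + 3 ≤ p ^ d → 2 * ((d + 1) * (p - 1)) + 3 ≤ p ^ (d + 1) := by
    intro d hd h
    obtain ⟨q, rfl⟩ : ∃ q, p = q + 1 := ⟨p - 1, by omega⟩
    rw [Nat.add_sub_cancel] at h ⊢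
    have h4 : (2 * (d * q) + 3) * 2 ≤ (q + 1) ^ d * (q + 1) := Nat.mul_le_mul h (by omega)
    rw [pow_succ]
    refine le_trans ?_ h4
    nlinarith only [hd]
  have base4 : 4 ≤ p → 2 * (2 * (p - 1)) + 3 ≤ p ^ 2 := by
    intro h4
    obtain ⟨q, rfl⟩ : ∃ q, p = q + 4 := ⟨p - 4, by omega⟩
    have : q + 4 - 1 = q + 3 := by omega
    rw [this]
    nlinarith only []
  rcases Nat.lt_or_ge p 4 with hp4 | hp4
  · interval_cases p
    · have : 4 ≤ d := by omega
      induction d, this using Nat.le_induction with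
      | base => norm_num
      | succ d hd' ih => exact step d (by omega) (ih (by omega) (by omega) (by omega) (by omega))
    · have : 3 ≤ d := by omega
      induction d, this using Nat.le_induction with
      | base => norm_num
      | succ d hd' ih => exact step d (by omega) (ih (by omega) (by omega) (by omega) (by omega))
  · induction d, hd using Nat.le_induction with
    | base => exact base4 hp4
    | succ d hd' ih => exact step d (by omega) (ih (by omega) (by omega) (by omega))

/-- **`(k-1,k)`-homogeneous affine groups.** -/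
theorem Hom.affine {k : ℕ} (h : Hom G Ω k) (hk : 4 ≤ k) (hn : 2 * k ≤ Fintype.card Ω + 1)
    (hex : ¬ (Fintype.card Ω = 7 ∧ k = 4)) (hex' : ¬ (Fintype.card Ω = 9 ∧ k = 5))
    {p d : ℕ} [hpf : Fact p.Prime] (hA : IsAff G Ω p d) : Homog G Ω (k - 1) := by
  have hc := hA.card
  have hpp := hpf.out
  have hp2 := hpp.two_le
  have hkn : k - 1 ≤ Fintype.card Ω := by omega
  rcases Nat.lt_or_ge d 2 with hd2 | hd2
  · interval_cases d
    · rw [pow_zero] at hc; omega
    · exact (h.false_of_prime hk hA hn hex).elim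
  obtain ⟨d', rfl⟩ : ∃ d', d = d' + 1 := ⟨d - 1, by omega⟩
  rcases Nat.lt_or_ge (p ^ d') k with hlt | hge
  · -- `k > p^(d-1)`
    exfalso
    refine h.false_of_blocking hA hkn (by omega) ?_
    rw [← hc]
    by_cases h1 : p = 2 ∧ d' + 1 = 2
    · rw [h1.1, h1.2] at hc; norm_num only [] at hc; omega
    by_cases h2 : p = 2 ∧ d' + 1 = 3
    · have h3 : d' = 2 := by omega
      rw [h2.1, h3] at hlt hc; norm_num only [] at hlt hc; omega
    by_cases h3 : p = 3 ∧ d' + 1 = 2
    · have h4 : d' = 1 := by omega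
      rw [h3.1, h4] at hc ⊢
      norm_num only [] at hc
      omega
    have h4 := numeric hp2 hd2 h1 h2 h3
    rw [← hc] at h4
    omega
  · rcases Nat.lt_or_ge (d' + 2) k with hlt | hge'
    · exact (h.false_of_hyper hA hkn (by omega) hge).elim
    · have hpow : d' + 2 ≤ 2 ^ (d' + 1) := by
        have := (Nat.lt_two_pow_self (n := d' + 1))
        omega
      by_cases hp : p = 2
      · subst hp
        rcases Nat.lt_or_ge k 5 with hk5 | hk5
        · exact h.homog_of_pow (by omega) hA (j := 2) (by omega) (by omega)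
        · exact (h.false_of_two hk5 hA hkn (by omega)).elim
      · exact (h.false_of_cube hk hp hA hkn (by omega)).elim

end

end Cfsg.Agent.H397.KHom
end

-- part: PermutationGroups/KantorReduction
section
/-!
Reduction of Kantor's theorem (2-homogeneous, not 2-transitive groups) to a statement on linear
groups: a solvable group of this kind has a regular normal elementary abelian `p`-subgroup `N`, `p`
odd, and the stabiliser of a point acts on `N` with two orbits of the form `Δ`, `Δ⁻¹`.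
-/

set_option autoImplicit false

namespace Cfsg.Agent.PermutationGroups.KantorReduction

open Cfsg MulAction
open scoped Pointwise

/-- A nontrivial 2-homogeneous group which is not 2-transitive has degree at least 3. -/
theorem three_le_card {α : Type*} [Fintype α] [DecidableEq α] (G : Subgroup (Equiv.Perm α))
    (hne : G ≠ ⊥) (hn2 : ¬ MulAction.IsMultiplyPretransitive G α 2) : 3 ≤ Fintype.card α := by
  by_contra hlt
  obtain ⟨⟨g, hg⟩, hg1'⟩ := Subgroup.ne_bot_iff_exists_ne_one.1 hne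
  have hg1 : g ≠ 1 := fun h => hg1' (Subtype.ext h)
  obtain ⟨a, ha⟩ : ∃ a, g a ≠ a := by
    by_contra hcon
    push Not at hcon
    exact hg1 (Equiv.ext hcon)
  apply hn2
  rw [MulAction.is_two_pretransitive_iff]
  intro x y z w hxy hzw
  -- every element is `a` or `g a`
  have hall : ∀ x : α, x = a ∨ x = g a := by
    intro x
    by_contra hx
    push Not at hx
    have : ({x, a, g a} : Finset α).card = 3 := by
      rw [Finset.card_eq_three]
      exact ⟨x, a, g a, hx.1, hx.2, ha.symm, rfl⟩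
    have h2 : ({x, a, g a} : Finset α).card ≤ Fintype.card α := Finset.card_le_univ _
    omega
  have hgg : g (g a) = a := by
    rcases hall (g (g a)) with h | h
    · exact h
    · exact absurd (g.injective h) ha
  have hgsm : ∀ t : α, (⟨g, hg⟩ : G) • t = g t := fun t => rfl
  rcases hall x with hx | hx <;> rcases hall y with hy | hy <;> rcases hall z with hz | hz <;>
    rcases hall w with hw | hw <;> rw [hx, hy] at hxy <;> rw [hz, hw] at hzw <;>
    rw [hx, hy, hz, hw] <;>
    first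
    | exact absurd rfl hxy
    | exact absurd rfl hzw
    | exact ⟨1, one_smul _ _, one_smul _ _⟩
    | exact ⟨⟨g, hg⟩, by rw [hgsm], by rw [hgsm, hgg]⟩
    | exact ⟨⟨g, hg⟩, by rw [hgsm, hgg], by rw [hgsm]⟩

/-- Structure of a solvable 2-homogeneous group which is not 2-transitive. -/
theorem exists_regular {α : Type*} [Fintype α] [DecidableEq α] (G : Subgroup (Equiv.Perm α))
    (hne : G ≠ ⊥) (h2 : MulAction.IsPretransitive G (Set.powersetCard α 2))
    (hn2 : ¬ MulAction.IsMultiplyPretransitive G α 2)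
    (hsolv : Odd (Nat.card G) → Group.IsSolvable G) :
    Odd (Nat.card G) ∧ ∃ (p : ℕ) (_ : Fact p.Prime) (N : Subgroup G) (a₀ : α), p ≠ 2 ∧ N.Normal ∧
      (∀ x ∈ N, ∀ y ∈ N, x * y = y * x) ∧ (∀ x ∈ N, x ^ p = 1) ∧
      (∀ x : α, stabilizer N x = ⊥) ∧ IsPretransitive N α ∧
      (∀ x ∈ N, ∀ y ∈ N, x ≠ 1 → y ≠ 1 → ∃ h ∈ stabilizer G a₀,
        h * x * h⁻¹ = y ∨ h * x * h⁻¹ = y⁻¹) := by
  have h3 := three_le_card G hne hn2
  obtain ⟨he, hprim⟩ := Cfsg.Agent.S0735.result G h2 h3
  have hodd : Odd (Nat.card G) := by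
    rw [← Nat.not_even_iff_odd]
    intro h
    exact hn2 (he h)
  refine ⟨hodd, ?_⟩
  have hprim := hprim hne
  have hs := hsolv hodd
  haveI hnt : Nontrivial G := (Subgroup.nontrivial_iff_ne_bot G).2 hne
  obtain ⟨p, hp, N, hNn, hNb, hNc, hNp⟩ := Cfsg.Agent.Solvable.SZ.exists_normal_elemAb G hs
  haveI := hNn
  have htrans : IsPretransitive N α :=
    SolvableStructure.PrimitiveSolvable.isPretransitive_of_normal hprim N hNb
  have hreg : ∀ x : α, stabilizer N x = ⊥ := fun x =>
    SolvableStructure.PrimitiveSolvable.stabilizer_eq_bot_of_comm N hNc x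
  obtain ⟨a₀⟩ : Nonempty α := by
    rw [← Fintype.card_pos_iff]; omega
  have hconj : ∀ x ∈ N, ∀ y ∈ N, x ≠ 1 → y ≠ 1 → ∃ h ∈ stabilizer G a₀,
        h * x * h⁻¹ = y ∨ h * x * h⁻¹ = y⁻¹ := by
    intro x hx y hy hx1 hy1
    have hmove : ∀ z ∈ N, z ≠ 1 → a₀ ≠ z • a₀ := by
      intro z hz hz1 h
      apply hz1
      exact RegularNormal.eq_of_smul_eq hreg hz N.one_mem (x := a₀) (by rw [one_smul]; exact h.symm)
    obtain ⟨g, ⟨hg1, hg2⟩ | ⟨hg1, hg2⟩⟩ := Cfsg.Agent.S0735.move_pair G h2 a₀ (x • a₀) a₀ (y • a₀)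
      (hmove x hx hx1) (hmove y hy hy1)
    · refine ⟨g, hg1, Or.inl ?_⟩
      apply RegularNormal.eq_of_smul_eq hreg (hNn.conj_mem x hx g) hy (x := a₀)
      rw [← RegularNormal.smul_smul_eq_conj hg1, hg2]
    · have hh : (y⁻¹ * g) • a₀ = a₀ := by rw [mul_smul, hg1, inv_smul_smul]
      refine ⟨y⁻¹ * g, hh, Or.inr ?_⟩
      apply RegularNormal.eq_of_smul_eq hreg (hNn.conj_mem x hx _) (N.inv_mem hy) (x := a₀)
      rw [← RegularNormal.smul_smul_eq_conj hh, mul_smul, hg2]
  refine ⟨p, ⟨hp⟩, N, a₀, ?_, hNn, hNc, hNp, hreg, htrans, hconj⟩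
  rintro rfl
  apply hn2
  rw [MulAction.is_two_pretransitive_iff]
  intro a b c d hab hcd
  obtain ⟨n, hn, rfl⟩ := RegularNormal.exists_smul_eq htrans a₀ a
  obtain ⟨m, hm, rfl⟩ := RegularNormal.exists_smul_eq htrans a₀ c
  obtain ⟨x, hx, hxa⟩ := RegularNormal.exists_smul_eq htrans a₀ (n⁻¹ • b)
  obtain ⟨y, hy, hyc⟩ := RegularNormal.exists_smul_eq htrans a₀ (m⁻¹ • d)
  have hx1 : x ≠ 1 := by
    rintro rfl
    rw [one_smul, eq_inv_smul_iff] at hxa
    exact hab hxa
  have hy1 : y ≠ 1 := by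
    rintro rfl
    rw [one_smul, eq_inv_smul_iff] at hyc
    exact hcd hyc
  have hyinv : y⁻¹ = y := by
    have := hNp y hy
    rw [sq] at this
    exact inv_eq_of_mul_eq_one_left this
  obtain ⟨h, hh, hxy⟩ := hconj x hx y hy hx1 hy1
  rw [hyinv, or_self] at hxy
  have hh' : h • a₀ = a₀ := hh
  refine ⟨m * h * n⁻¹, ?_, ?_⟩
  · rw [mul_smul, mul_smul, inv_smul_smul, hh']
  · rw [mul_smul, mul_smul, ← hxa, RegularNormal.smul_smul_eq_conj hh', hxy, hyc, smul_inv_smul]

end Cfsg.Agent.PermutationGroups.KantorReduction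
end

-- part: H397/KHomRed
section
/-!
# `(k-1,k)`-homogeneous groups: reduction to almost simple 2-transitive groups
-/

set_option autoImplicit false
set_option linter.unusedSectionVars false

namespace Cfsg.Agent.H397.KHom

open Finset MulAction Cfsg.Agent.H384.TwoTrans
open scoped Pointwise

variable {G Ω : Type*} [Group G] [MulAction G Ω] [Fintype Ω] [DecidableEq Ω]

theorem two_cases [Finite G] [FaithfulSMul G Ω] (h2 : Homog G Ω 2) (h3 : 3 ≤ Fintype.card Ω) :
    (∃ (p d : ℕ) (_ : Fact p.Prime), IsAff G Ω p d) ∨ ∃ T : Subgroup G, AS G Ω T := by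
  classical
  obtain ⟨ω₀⟩ : Nonempty Ω := Fintype.card_pos_iff.1 (by omega)
  by_cases h : IsMultiplyPretransitive G Ω 2
  · rcases reduction h (by rwa [Nat.card_eq_fintype_card]) with ⟨N, hN, hN1, hNc, ⟨p, hp, hNp⟩, hNt, hNr⟩ | h
    · left
      have hpf : Fact p.Prime := ⟨hp⟩
      obtain ⟨d, hd⟩ := exists_isAff p N (fun x hx y hy =>
        congrArg Subtype.val (hNc.is_comm.comm ⟨x, hx⟩ ⟨y, hy⟩)) hNp hNt hNr ω₀
      exact ⟨p, d, hpf, hd⟩
    · exact Or.inr h
  · left
    obtain ⟨P, hP⟩ : ∃ P, P = (toPermHom G Ω).range := ⟨_, rfl⟩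
    have hP2 : IsPretransitive P (Set.powersetCard Ω 2) := by
      have h6 : Homog P Ω 2 := by
        intro I J hI hJ
        obtain ⟨g, hg⟩ := h2 I J hI hJ
        exact ⟨⟨toPermHom G Ω g, by rw [hP]; exact ⟨g, rfl⟩⟩, hg⟩
      exact homog_iff_pretransitive.1 h6
    have hPn : ¬ IsMultiplyPretransitive P Ω 2 := by
      intro h'
      apply h
      rw [is_two_pretransitive_iff] at h' ⊢
      intro a b c d hab hcd
      obtain ⟨⟨x, hx⟩, h1, h2⟩ := h' hab hcd
      rw [hP] at hx
      obtain ⟨g, rfl⟩ := hx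
      exact ⟨g, h1, h2⟩
    have hPne : P ≠ ⊥ := by
      intro hbot
      obtain ⟨a, b, c, hab, hac, hbc⟩ := Fintype.two_lt_card_iff.1 (show 2 < Fintype.card Ω by omega)
      have h5 : ∀ g : G, ∀ x : Ω, g • x = x := by
        intro g x
        have h6 : toPermHom G Ω g ∈ P := by rw [hP]; exact ⟨g, rfl⟩
        rw [hbot, Subgroup.mem_bot] at h6
        exact congrArg (fun σ : Equiv.Perm Ω => σ x) h6
      obtain ⟨g, hg⟩ := h2 {a, b} {a, c} (card_pair hab) (card_pair hac)
      have h7 := hg b (by simp)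
      rw [h5] at h7
      simp only [mem_insert, mem_singleton] at h7
      rcases h7 with h7 | h7
      · exact hab h7.symm
      · exact hbc h7
    obtain ⟨-, p, hpf, N, a₀, -, hN, hNc, hNp, hNr, hNt, -⟩ :=
      PermutationGroups.KantorReduction.exists_regular P hPne hP2 hPn
        (fun hodd => Cfsg.Agent.S0205.result hodd)
    obtain ⟨d, hd⟩ := exists_isAff (G := P) (Ω := Ω) p N hNc hNp
      (fun x y => by
        obtain ⟨n, hn⟩ := hNt.exists_smul_eq x y
        exact ⟨n, n.2, hn⟩)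
      (fun x n hn hnx => by
        have h5 : (⟨n, hn⟩ : N) ∈ stabilizer N x := hnx
        rw [hNr, Subgroup.mem_bot] at h5
        exact congrArg Subtype.val h5) ω₀
    rw [hP] at hd
    exact ⟨p, d, hpf, hd.of_range⟩

/-- **Reduction of S3564 to almost simple 2-transitive groups.** -/
theorem Hom.reduction [Finite G] [FaithfulSMul G Ω] {k : ℕ} (h : Hom G Ω k) (hk : 2 ≤ k)
    (hn : 2 * k ≤ Fintype.card Ω + 1)
    (hex : ¬ ((Fintype.card Ω = 5 ∧ k = 3) ∨ (Fintype.card Ω = 7 ∧ k = 4) ∨ (Fintype.card Ω = 9 ∧ k = 5)))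
    (hAS : ∀ T : Subgroup G, AS G Ω T → 4 ≤ k → Homog G Ω (k - 1)) : Homog G Ω (k - 1) := by
  push Not at hex
  rcases Nat.lt_or_ge k 3 with hk3 | hk3
  · have : k = 2 := by omega
    subst this
    have := h.pretransitive (by omega) hn
    exact homog_one
  rcases Nat.lt_or_ge k 4 with hk4 | hk4
  · have : k = 3 := by omega
    subst this
    exact h.two_homog (by omega) hn (fun h' => hex.1 h'.1 h'.2)
  · have h2 := h.two_homog (by omega) hn (fun h' => hex.1 h'.1 h'.2)
    rcases two_cases h2 (by omega) with ⟨p, d, hpf, hA⟩ | ⟨T, hT⟩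
    · exact h.affine hk4 hn (fun h' => hex.2.1 h'.1 h'.2) (fun h' => hex.2.2 h'.1 h'.2) hA
    · exact hAS T hT hk4

end Cfsg.Agent.H397.KHom
end

-- part: H397/KHomUt
section
/-!
# The `k`-universal transversal property
-/

set_option autoImplicit false
set_option linter.unusedSectionVars false

namespace Cfsg.Agent.H397.KHom

open Finset MulAction Cfsg.Agent.H384.TwoTrans
open scoped Pointwise

/-- the `k`-universal transversal property -/
def Ut (G Ω : Type*) [Group G] [MulAction G Ω] (k : ℕ) : Prop :=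
  ∀ (I : Finset Ω) (f : Ω → Fin k), I.card = k → Function.Surjective f →
    ∃ g : G, Set.InjOn (fun x => f (g • x)) ↑I

variable {G Ω : Type*} [Group G] [MulAction G Ω] [Fintype Ω] [DecidableEq Ω]

theorem Ut.hom {k : ℕ} (h : Ut G Ω k) (hk : 1 ≤ k) (hn : k ≤ Fintype.card Ω) : Hom G Ω k := by
  classical
  obtain ⟨m, rfl⟩ : ∃ m, k = m + 1 := ⟨k - 1, by omega⟩
  intro I J hI hJ
  rw [Nat.add_sub_cancel] at hI
  let σ : I ≃ Fin m := Finset.equivFinOfCardEq hI
  let f : Ω → Fin (m + 1) := fun x => if hx : x ∈ I then (σ ⟨x, hx⟩).castSucc else Fin.last m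
  have hfI : ∀ x (hx : x ∈ I), f x = (σ ⟨x, hx⟩).castSucc := fun x hx => dif_pos hx
  have hfn : ∀ x, x ∉ I → f x = Fin.last m := fun x hx => dif_neg hx
  obtain ⟨z, hz⟩ : ∃ z, z ∉ I := by
    by_contra hcon
    push Not at hcon
    have : (univ : Finset Ω) ⊆ I := fun x _ => hcon x
    have := card_le_card this
    rw [card_univ] at this
    omega
  have hsurj : Function.Surjective f := by
    intro i
    refine Fin.lastCases ⟨z, hfn z hz⟩ (fun j => ?_) i
    refine ⟨(σ.symm j : Ω), ?_⟩
    rw [hfI _ (σ.symm j).2]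
    congr 1
    exact σ.apply_symm_apply j
  obtain ⟨g, hg⟩ := h J f hJ hsurj
  refine ⟨g⁻¹, fun x hx => ?_⟩
  -- `f ∘ g` is onto on `J`
  have himg : J.image (fun x => f (g • x)) = univ := by
    apply eq_univ_of_card
    rw [card_image_of_injOn hg, hJ, Fintype.card_fin]
  have h1 : f x ∈ J.image (fun x => f (g • x)) := by rw [himg]; exact mem_univ _
  rw [mem_image] at h1
  obtain ⟨y, hy, hyx⟩ := h1
  have h2 : g • y ∈ I := by
    by_contra hcon
    rw [hfn _ hcon, hfI x hx] at hyx
    exact (Fin.castSucc_lt_last _).ne hyx.symm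
  rw [hfI _ h2, hfI x hx] at hyx
  have h3 := σ.injective (Fin.castSucc_injective m hyx)
  have h4 : g • y = x := congrArg Subtype.val h3
  rw [← h4, inv_smul_smul]
  exact hy

theorem Ut.of_homog {j : ℕ} (h : Homog G Ω j) : Ut G Ω j := by
  classical
  intro I f hI hf
  choose s hs using hf
  have hinj : Function.Injective s := fun a b hab => by rw [← hs a, ← hs b, hab]
  obtain ⟨g, hg⟩ := h I (univ.image s) hI (by rw [card_image_of_injective _ hinj, card_univ, Fintype.card_fin])
  refine ⟨g, fun x hx y hy hxy => ?_⟩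
  have h1 := hg x hx
  have h2 := hg y hy
  rw [mem_image] at h1 h2
  obtain ⟨i, -, hi⟩ := h1
  obtain ⟨j', -, hj⟩ := h2
  change f (g • x) = f (g • y) at hxy
  rw [← hi, ← hj, hs, hs] at hxy
  apply MulAction.injective g
  change g • x = g • y
  rw [← hi, ← hj, hxy]

/-- primitive groups have the 2-ut property -/
theorem Ut.two_of_primitive (hG : IsPreprimitive G Ω) : Ut G Ω 2 := by
  classical
  intro I f hI hf
  obtain ⟨a, b, hab, rfl⟩ := card_eq_two.1 hI
  by_contra hcon
  push Not at hcon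
  have h1 : ∀ g : G, f (g • a) = f (g • b) := by
    intro g
    by_contra hne
    apply hcon g
    intro x hx y hy hxy
    simp only [coe_insert, coe_singleton, Set.mem_insert_iff, Set.mem_singleton_iff] at hx hy
    rcases hx with rfl | rfl <;> rcases hy with rfl | rfl
    · rfl
    · exact absurd hxy hne
    · exact absurd hxy.symm hne
    · rfl
  let B : Set Ω := {x | ∀ g : G, f (g • x) = f (g • a)}
  have hB : IsBlock G B := by
    rw [isBlock_iff_smul_eq_or_disjoint]
    intro g
    by_cases hd : Disjoint (g • B) B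
    · exact Or.inr hd
    · left
      rw [Set.not_disjoint_iff] at hd
      obtain ⟨_, ⟨x, hx, rfl⟩, hx'⟩ := hd
      -- `f (h g x) = f (h a)` and `f (h x) = f (h a)` for all `h`
      have h2 : ∀ h : G, f (h • g • a) = f (h • a) := by
        intro h
        rw [← mul_smul, ← hx (h * g), mul_smul]
        exact hx' h
      ext y
      constructor
      · rintro ⟨z, hz, rfl⟩ h
        change f (h • g • z) = _
        rw [← mul_smul, hz (h * g), mul_smul, h2]
      · intro hy
        refine ⟨g⁻¹ • y, fun h => ?_, smul_inv_smul g y⟩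
        rw [← mul_smul, hy (h * g⁻¹)]
        have := h2 (h * g⁻¹)
        rw [← mul_smul, inv_mul_cancel_right] at this
        rw [this]
  rcases hG.isTrivialBlock_of_isBlock hB with h2 | h2
  · exact hab (h2 (fun _ => rfl : a ∈ B) (fun g => (h1 g).symm : b ∈ B))
  · obtain ⟨x, hx⟩ := hf 0
    obtain ⟨y, hy⟩ := hf 1
    have hxB : x ∈ B := by rw [h2]; exact Set.mem_univ x
    have hyB : y ∈ B := by rw [h2]; exact Set.mem_univ y
    have h3 := hxB 1
    have h4 := hyB 1
    rw [one_smul] at h3 h4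
    rw [hx] at h3
    rw [hy, ← h3] at h4
    exact absurd h4 (by decide)

section Seven

/-- value table -/
def tab (m i : ℕ) : ℕ := m / 3 ^ i % 3

/-- the check for `AGL(1,7)` -/
def chk7 : Bool :=
  (List.range 2187).all fun m =>
    (!(((List.range 7).any fun i => tab m i == 0) && ((List.range 7).any fun i => tab m i == 1) &&
      ((List.range 7).any fun i => tab m i == 2))) ||
    ((List.range 5).all fun c' => (List.range 6).any fun a' => (List.range 7).any fun b =>
      let x := tab m (b % 7)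
      let y := tab m ((a' + 1 + b) % 7)
      let z := tab m (((a' + 1) * (c' + 2) + b) % 7)
      (x != y) && (x != z) && (y != z))

private noncomputable def allR (p : ℕ → Bool) (n : ℕ) : Bool := Nat.rec true (fun i r => Bool.rec false r (p i)) n

private noncomputable def anyR (p : ℕ → Bool) (n : ℕ) : Bool := Nat.rec false (fun i r => Bool.rec r true (p i)) n

private theorem allR_eq (p : ℕ → Bool) (n : ℕ) : allR p n = (List.range n).all p := by
  induction n with
  | zero => rfl
  | succ n ih =>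
    rw [List.range_succ, List.all_append, ← ih, List.all_cons, List.all_nil, Bool.and_true]
    show (Bool.rec false (allR p n) (p n) : Bool) = _
    cases p n <;> cases allR p n <;> rfl

private theorem anyR_eq (p : ℕ → Bool) (n : ℕ) : anyR p n = (List.range n).any p := by
  induction n with
  | zero => rfl
  | succ n ih =>
    rw [List.range_succ, List.any_append, ← ih, List.any_cons, List.any_nil, Bool.or_false]
    show (Bool.rec (anyR p n) true (p n) : Bool) = _
    cases p n <;> cases anyR p n <;> rfl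

private def tb (m i : ℕ) : ℕ := Nat.mod (Nat.div m (Nat.pow 3 i)) 3

private noncomputable def tri (x y z : ℕ) : Bool := Bool.rec (Nat.beq (Nat.add (Nat.add x y) z) 3) false (Nat.beq x y)

private theorem tri_eq : ∀ x < 3, ∀ y < 3, ∀ z < 3, tri x y z = ((x != y) && (x != z) && (y != z)) := by
  decide +kernel

private noncomputable def chkR : Bool :=
  allR (fun m =>
    (!(anyR (fun i => Nat.beq (tb m i) 0) 7 && anyR (fun i => Nat.beq (tb m i) 1) 7 &&
      anyR (fun i => Nat.beq (tb m i) 2) 7)) ||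
    allR (fun c' => anyR (fun a' => anyR (fun b =>
      tri (tb m (Nat.mod b 7)) (tb m (Nat.mod (Nat.add (Nat.succ a') b) 7))
        (tb m (Nat.mod (Nat.add (Nat.mul (Nat.succ a') (Nat.add c' 2)) b) 7))) 7) 6) 5) 2187

set_option maxRecDepth 1000000 in
private theorem chkR_true : chkR = true := by decide +kernel

theorem chk7_true : chk7 = true := by
  have e1 : ∀ m i t, Nat.beq (tb m i) t = (tab m i == t) := fun m i t =>
    Bool.eq_iff_iff.2 (by rw [Nat.beq_eq, beq_iff_eq]; exact Iff.rfl)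
  have e2 : ∀ m i j k, tri (tb m i) (tb m j) (tb m k) =
      ((tab m i != tab m j) && (tab m i != tab m k) && (tab m j != tab m k)) := fun m i j k =>
    tri_eq _ (Nat.mod_lt _ (by decide)) _ (Nat.mod_lt _ (by decide)) _ (Nat.mod_lt _ (by decide))
  have h := chkR_true
  unfold chkR at h
  simp only [allR_eq, anyR_eq, e1, e2] at h
  unfold chk7
  rw [List.all_eq_true] at h ⊢
  exact fun m hm => h m hm

theorem tab_sum (F : Fin 7 → Fin 3) (i : Fin 7) :
    tab ((F 0 : ℕ) + 3 * F 1 + 9 * F 2 + 27 * F 3 + 81 * F 4 + 243 * F 5 + 729 * F 6) i = F i := by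
  have h0 := (F 0).2
  have h1 := (F 1).2
  have h2 := (F 2).2
  have h3 := (F 3).2
  have h4 := (F 4).2
  have h5 := (F 5).2
  have h6 := (F 6).2
  unfold tab
  fin_cases i <;> simp only [Fin.zero_eta, Fin.mk_one, Fin.reduceFinMk, Fin.isValue,
    Nat.reducePow] <;> omega

theorem seven' (F : Fin 7 → Fin 3) (hF : Function.Surjective F) (c : Fin 7) (h0 : c ≠ 0) (h1 : c ≠ 1) :
    ∃ a b : Fin 7, a ≠ 0 ∧ F b ≠ F (a + b) ∧ F b ≠ F (a * c + b) ∧ F (a + b) ≠ F (a * c + b) := by
  obtain ⟨m, hm⟩ : ∃ m, m = (F 0 : ℕ) + 3 * F 1 + 9 * F 2 + 27 * F 3 + 81 * F 4 + 243 * F 5 + 729 * F 6 :=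
    ⟨_, rfl⟩
  have htab : ∀ i : Fin 7, tab m i.1 = (F i : ℕ) := fun i => by rw [hm]; exact tab_sum F i
  have hm7 : m < 2187 := by
    have g0 := (F 0).2
    have g1 := (F 1).2
    have g2 := (F 2).2
    have g3 := (F 3).2
    have g4 := (F 4).2
    have g5 := (F 5).2
    have g6 := (F 6).2
    (clear * - hm; solve | lia | omega)
  have hchk := chk7_true
  unfold chk7 at hchk
  rw [List.all_eq_true] at hchk
  have h2 := hchk m (List.mem_range.2 hm7)
  rw [Bool.or_eq_true] at h2
  have hsur : ∀ t : Fin 3, ((List.range 7).any fun i => tab m i == t.1) = true := by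
    intro t
    obtain ⟨i, hi⟩ := hF t
    rw [List.any_eq_true]
    refine ⟨i.1, List.mem_range.2 i.2, ?_⟩
    rw [htab, hi]
    exact beq_self_eq_true _
  rcases h2 with h2 | h2
  · exfalso
    have e0 := hsur 0
    have e1 := hsur 1
    have e2 := hsur 2
    simp only [Fin.val_zero, Fin.val_one, Fin.val_two] at e0 e1 e2
    rw [e0, e1, e2] at h2
    exact absurd h2 (by decide)
  · rw [List.all_eq_true] at h2
    obtain ⟨c', hc', hcc⟩ : ∃ c', c' < 5 ∧ c.1 = c' + 2 := by
      have h3 : c.1 ≠ 0 := fun h => h0 (Fin.ext h)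
      have h4 : c.1 ≠ 1 := fun h => h1 (Fin.ext h)
      have h5 := c.2
      exact ⟨c.1 - 2, by omega, by omega⟩
    have h3 := h2 c' (List.mem_range.2 hc')
    rw [List.any_eq_true] at h3
    obtain ⟨a', ha', h4⟩ := h3
    rw [List.any_eq_true] at h4
    obtain ⟨b', hb', h5⟩ := h4
    rw [List.mem_range] at ha' hb'
    let a : Fin 7 := ⟨a' + 1, by omega⟩
    let b : Fin 7 := ⟨b', hb'⟩
    have hab : (a + b).1 = (a' + 1 + b') % 7 := Fin.val_add a b
    have hacb : (a * c + b).1 = ((a' + 1) * (c' + 2) + b') % 7 := by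
      rw [Fin.val_add, Fin.val_mul, hcc, Nat.mod_add_mod]
    have hbb : b' % 7 = b' := Nat.mod_eq_of_lt hb'
    refine ⟨a, b, ?_, ?_⟩
    · intro h
      have : a.1 = 0 := congrArg Fin.val h
      exact absurd this (Nat.succ_ne_zero a')
    · have f1 : tab m (b' % 7) = (F b : ℕ) := by rw [hbb]; exact htab b
      have f2 : tab m ((a' + 1 + b') % 7) = (F (a + b) : ℕ) := by rw [← hab]; exact htab (a + b)
      have f3 : tab m (((a' + 1) * (c' + 2) + b') % 7) = (F (a * c + b) : ℕ) := by
        rw [← hacb]; exact htab (a * c + b)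
      simp only [f1, f2, f3, Bool.and_eq_true, bne_iff_ne, ne_eq] at h5
      obtain ⟨⟨h6, h7⟩, h8⟩ := h5
      exact ⟨fun h => h6 (congrArg Fin.val h), fun h => h7 (congrArg Fin.val h), fun h => h8 (congrArg Fin.val h)⟩

theorem seven (F : ZMod 7 → Fin 3) (hF : Function.Surjective F) (c : ZMod 7) (h0 : c ≠ 0) (h1 : c ≠ 1) :
    ∃ a b : ZMod 7, a ≠ 0 ∧ F b ≠ F (a + b) ∧ F b ≠ F (a * c + b) ∧ F (a + b) ≠ F (a * c + b) :=
  seven' F hF c h0 h1

/-- coordinates in prime degree -/
theorem IsAff.one {p : ℕ} (hA : IsAff G Ω p 1) : ∃ e : Ω ≃ ZMod p,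
    (∀ g : G, ∃ a b : ZMod p, ∀ x, e (g • x) = a * e x + b) ∧ ∀ b, ∃ g : G, ∀ x, e (g • x) = e x + b := by
  obtain ⟨e, h1, h2⟩ := hA
  refine ⟨e.trans (Equiv.funUnique (Fin 1) (ZMod p)), fun g => ?_, fun b => ?_⟩
  · obtain ⟨A, b, hAb⟩ := h1 g
    refine ⟨A (fun _ => 1) 0, b 0, fun x => ?_⟩
    have hlin : A (e x) 0 = A (fun _ => 1) 0 * e x 0 := by
      have h1 : e x = e x 0 • (fun _ => 1) := by
        funext i; rw [Subsingleton.elim i 0]; simp
      conv_lhs => rw [h1]
      rw [map_smul, Pi.smul_apply, smul_eq_mul, mul_comm]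
    change e (g • x) 0 = A (fun _ => 1) 0 * e x 0 + b 0
    rw [hAb, Pi.add_apply, hlin]
  · obtain ⟨g, hg⟩ := h2 (fun _ => b)
    refine ⟨g, fun x => ?_⟩
    change e (g • x) 0 = e x 0 + b
    rw [hg]; rfl

theorem Hom.exists_elt_one {k : ℕ} (h : Hom G Ω k) {p : ℕ} [Fact p.Prime] (e : Ω ≃ ZMod p)
    (h1 : ∀ g : G, ∃ a b : ZMod p, ∀ x, e (g • x) = a * e x + b)
    (S T : Finset (ZMod p)) (hS : S.card = k - 1) (hT : T.card = k) :
    ∃ (g : G) (a b : ZMod p), (∀ x, e (g • x) = a * e x + b) ∧ ∀ v ∈ S, a * v + b ∈ T := by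
  obtain ⟨g, hg⟩ := h (S.map e.symm.toEmbedding) (T.map e.symm.toEmbedding) (by rwa [card_map]) (by rwa [card_map])
  obtain ⟨a, b, hab⟩ := h1 g
  refine ⟨g, a, b, hab, fun v hv => ?_⟩
  have h3 := hg (e.symm v) (mem_map_of_mem _ hv)
  rw [mem_map] at h3
  obtain ⟨t, ht, htv⟩ := h3
  have h4 : e (g • e.symm v) = t := by
    rw [← htv]; exact e.apply_symm_apply t
  rw [hab, Equiv.apply_symm_apply] at h4
  rw [h4]
  exact ht

/-- set -/
def s7 : Finset (ZMod 7) := {0, 1, 3}
/-- set -/
def t7 : Finset (ZMod 7) := {0, 1, 2, 5}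
/-- set -/
def s7' : Finset (ZMod 7) := {0, 1, 2}
/-- set -/
def t7' : Finset (ZMod 7) := {0, 1, 3, 4}

theorem card_s7 : s7.card = 3 := by decide
theorem card_t7 : t7.card = 4 := by decide
theorem card_s7' : s7'.card = 3 := by decide
theorem card_t7' : t7'.card = 4 := by decide

set_option maxRecDepth 100000 in
theorem dec7 : ∀ a b : ZMod 7, (∀ v ∈ s7, a * v + b ∈ t7) → a = 0 ∨ a = 3 ∨ a = 5 ∨ a = 6 := by
  decide +kernel

set_option maxRecDepth 100000 in
theorem dec7' : ∀ a b : ZMod 7, (∀ v ∈ s7', a * v + b ∈ t7') → a = 0 ∨ a = 2 ∨ a = 3 ∨ a = 4 ∨ a = 5 := by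
  decide +kernel

/-- the powers -/
theorem dec7'' : ∀ a a' : ZMod 7, (a = 3 ∨ a = 5 ∨ a = 6) → (a' = 2 ∨ a' = 3 ∨ a' = 4 ∨ a' = 5) →
    ∀ c : ZMod 7, c ≠ 0 → ∃ i < 6, ∃ j < 6, a ^ i * a' ^ j = c := by decide +kernel

theorem Ut.seven (h : Hom G Ω 4) (hA : IsAff G Ω 7 1) : Ut G Ω 3 := by
  have hpf : Fact (Nat.Prime 7) := ⟨by norm_num⟩
  obtain ⟨e, h1, h2⟩ := hA.one
  -- the multipliers
  let M : ZMod 7 → Prop := fun a => ∃ g : G, ∃ b, ∀ x, e (g • x) = a * e x + b
  have hM1 : M 1 := ⟨1, 0, fun x => by rw [one_smul, one_mul, add_zero]⟩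
  have hMmul : ∀ a a', M a → M a' → M (a * a') := by
    rintro a a' ⟨g, b, hg⟩ ⟨g', b', hg'⟩
    refine ⟨g * g', a * b' + b, fun x => ?_⟩
    rw [mul_smul, hg, hg']; ring
  have hMpow : ∀ a, M a → ∀ i : ℕ, M (a ^ i) := by
    intro a ha i
    induction i with
    | zero => rw [pow_zero]; exact hM1
    | succ i ih => rw [pow_succ]; exact hMmul _ _ ih ha
  have hM0 : ¬ M 0 := by
    rintro ⟨g, b, hg⟩
    have h3 : e.symm 0 = e.symm 1 := by
      apply MulAction.injective g
      apply e.injective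
      simp only
      rw [hg, hg, zero_mul, zero_mul]
    exact zero_ne_one (e.symm.injective h3)
  obtain ⟨g, a, b, hg, hab⟩ := h.exists_elt_one e h1 s7 t7 card_s7 card_t7
  obtain ⟨g', a', b', hg', hab'⟩ := h.exists_elt_one e h1 s7' t7' card_s7' card_t7'
  have ha : M a := ⟨g, b, hg⟩
  have ha' : M a' := ⟨g', b', hg'⟩
  have hMall : ∀ c, c ≠ 0 → M c := by
    intro c hc
    obtain ⟨i, -, j, -, hij⟩ := dec7'' a a' ((dec7 a b hab).resolve_left (fun h0 => hM0 (h0 ▸ ha)))
      ((dec7' a' b' hab').resolve_left (fun h0 => hM0 (h0 ▸ ha'))) c hc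
    rw [← hij]
    exact hMmul _ _ (hMpow a ha i) (hMpow a' ha' j)
  have hall : ∀ c b : ZMod 7, c ≠ 0 → ∃ g : G, ∀ x, e (g • x) = c * e x + b := by
    intro c b hc
    obtain ⟨g, b₀, hg⟩ := hMall c hc
    obtain ⟨t, ht⟩ := h2 (b - b₀)
    refine ⟨t * g, fun x => ?_⟩
    rw [mul_smul, ht, hg]; ring
  intro I f hI hf
  obtain ⟨x, y, z, hxy, hxz, hyz, rfl⟩ := card_eq_three.1 hI
  have nuv : e y - e x ≠ 0 := fun h0 => hxy (e.injective (sub_eq_zero.1 h0).symm)
  obtain ⟨c, hc⟩ : ∃ c, c = (e z - e x) / (e y - e x) := ⟨_, rfl⟩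
  have hc0 : c ≠ 0 := by
    rw [hc]
    exact div_ne_zero (fun h0 => hxz (e.injective (sub_eq_zero.1 h0).symm)) nuv
  have hc1 : c ≠ 1 := by
    intro h0
    rw [hc, div_eq_one_iff_eq nuv] at h0
    exact hyz (e.injective (sub_left_inj.1 h0).symm)
  obtain ⟨r, s, hr, d1, d2, d3⟩ := KHom.seven (fun v => f (e.symm v)) (hf.comp e.symm.surjective) c hc0 hc1
  obtain ⟨k, hk⟩ := hall (r / (e y - e x)) (s - r / (e y - e x) * e x) (div_ne_zero hr nuv)
  have ex : k • x = e.symm s := by
    rw [Equiv.eq_symm_apply, hk]; ring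
  have ey : k • y = e.symm (r + s) := by
    rw [Equiv.eq_symm_apply, hk]
    field_simp
    ring
  have ez : k • z = e.symm (r * c + s) := by
    rw [Equiv.eq_symm_apply, hk, hc]
    field_simp
    ring
  refine ⟨k, ?_⟩
  intro u hu v hv huv
  simp only [coe_insert, coe_singleton, Set.mem_insert_iff, Set.mem_singleton_iff] at hu hv
  change f (k • u) = f (k • v) at huv
  rcases hu with rfl | rfl | rfl <;> rcases hv with rfl | rfl | rfl <;>
    first
      | rfl
      | (exfalso; revert huv; rw [ex, ey]; first | exact d1 | exact d1.symm)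
      | (exfalso; revert huv; rw [ex, ez]; first | exact d2 | exact d2.symm)
      | (exfalso; revert huv; rw [ey, ez]; first | exact d3 | exact d3.symm)

end Seven

section Nine

/-- a partition of the affine plane of order 3 -/
def f9 (x y : ZMod 3) : Fin 5 :=
  if x = 0 then (if y = 2 then 1 else 0) else
    if x = 1 then (if y = 0 then 2 else if y = 1 then 3 else 4) else
      (if y = 0 then 3 else if y = 1 then 2 else 4)

set_option maxRecDepth 100000 in
theorem dec9 : ∀ a0 a1 c0 c1 b0 b1 : ZMod 3,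
    ¬ [f9 b0 b1, f9 (c0 + b0) (c1 + b1), f9 (2 * c0 + b0) (2 * c1 + b1), f9 (a0 + b0) (a1 + b1),
      f9 (2 * a0 + b0) (2 * a1 + b1)].Nodup := by decide +kernel

theorem f9_surj : ∀ i : Fin 5, ∃ x y : ZMod 3, f9 x y = i := by decide

theorem not_ut_nine (hA : IsAff G Ω 3 2) : ¬ Ut G Ω 5 := by
  intro hu
  obtain ⟨e, h1, -⟩ := hA
  let v : Fin 5 → (Fin 2 → ZMod 3) := ![![0, 0], ![0, 1], ![0, 2], ![1, 0], ![2, 0]]
  have hv : Function.Injective v := by decide
  let P : Fin 5 → Ω := fun i => e.symm (v i)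
  have hP : Function.Injective P := e.symm.injective.comp hv
  obtain ⟨g, hg⟩ := hu (univ.image P) (fun x => f9 (e x 0) (e x 1))
    (by rw [card_image_of_injective _ hP, card_univ, Fintype.card_fin]) (by
      intro i
      obtain ⟨x, y, hxy⟩ := f9_surj i
      refine ⟨e.symm ![x, y], ?_⟩
      simp only [Equiv.apply_symm_apply]
      exact hxy)
  obtain ⟨A, b, hAb⟩ := h1 g
  have hval : ∀ i, e (g • P i) = A (v i) + b := by
    intro i
    rw [hAb, Equiv.apply_symm_apply]
  have hlin : ∀ w : Fin 2 → ZMod 3, ∀ j, A w j = w 0 * A ![1, 0] j + w 1 * A ![0, 1] j := by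
    intro w j
    have h2 : w = w 0 • ![1, 0] + w 1 • ![0, 1] := by
      funext i
      fin_cases i <;> simp
    conv_lhs => rw [h2]
    rw [map_add, map_smul, map_smul, Pi.add_apply, Pi.smul_apply, Pi.smul_apply, smul_eq_mul, smul_eq_mul]
  have hinj : Function.Injective (fun i => f9 (e (g • P i) 0) (e (g • P i) 1)) := by
    intro i j hij
    have h3 := hg (mem_coe.2 (mem_image_of_mem P (mem_univ i))) (mem_coe.2 (mem_image_of_mem P (mem_univ j))) hij
    exact hP h3
  have hn : (List.ofFn (fun i => f9 (e (g • P i) 0) (e (g • P i) 1))).Nodup := List.nodup_ofFn.2 hinj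
  apply dec9 (A ![1, 0] 0) (A ![1, 0] 1) (A ![0, 1] 0) (A ![0, 1] 1) (b 0) (b 1)
  convert hn using 1
  simp only [List.ofFn_succ, List.ofFn_zero, hval, Pi.add_apply, hlin (v _)]
  simp only [v, Fin.succ, _root_.Fin.isValue, _root_.Matrix.cons_val', _root_.Matrix.cons_val_zero, _root_.Matrix.cons_val_fin_one, _root_.MulZeroClass.zero_mul, _root_.Matrix.cons_val_one, _root_.add_zero, _root_.zero_add, _root_.Nat.reduceAdd, _root_.Nat.zero_mod, _root_.Fin.mk_one, _root_.one_mul, _root_.Fin.coe_ofNat_eq_mod, _root_.Nat.one_mod, _root_.Fin.reduceFinMk, _root_.Matrix.cons_val, _root_.Nat.reduceMod, _root_.Nat.mod_succ]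

end Nine

/-- **Reduction of S3563 to almost simple 2-transitive groups.** -/
theorem Ut.reduction [Finite G] [FaithfulSMul G Ω] {k : ℕ} (hu : Ut G Ω k) (hk : 2 ≤ k)
    (hn : 2 * k ≤ Fintype.card Ω + 1)
    (hAS : ∀ T : Subgroup G, AS G Ω T → 4 ≤ k → Homog G Ω (k - 1)) : Ut G Ω (k - 1) := by
  have h := hu.hom (by omega) (by omega)
  by_cases hex : (Fintype.card Ω = 5 ∧ k = 3) ∨ (Fintype.card Ω = 7 ∧ k = 4) ∨ (Fintype.card Ω = 9 ∧ k = 5)
  · rcases hex with ⟨hc, rfl⟩ | ⟨hc, rfl⟩ | ⟨hc, rfl⟩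
    · have htr := h.pretransitive (by omega) hn
      have hp : (Nat.card Ω).Prime := by rw [Nat.card_eq_fintype_card, hc]; norm_num
      exact Ut.two_of_primitive (IsPreprimitive.of_prime_card hp)
    · have h2 := h.two_homog (by omega) hn (by omega)
      rcases two_cases h2 (by omega) with ⟨p, d, hpf, hA⟩ | ⟨T, hT⟩
      · have hcard := hA.card
        rw [hc] at hcard
        have hpp := hpf.out
        have h7 : p ∣ 7 := by
          rw [hcard]
          refine dvd_pow_self p ?_
          rintro rfl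
          norm_num at hcard
        have hp7 : p = 7 := ((Nat.dvd_prime (by norm_num)).1 h7).resolve_left hpp.one_lt.ne'
        subst hp7
        have hd1 : d = 1 := by
          have : (7 : ℕ) ^ 1 = 7 ^ d := by rw [← hcard]; norm_num
          exact (Nat.pow_right_injective (le_refl 2 |>.trans (by norm_num)) this).symm
        subst hd1
        exact Ut.seven h hA
      · exact Ut.of_homog (hAS T hT (by omega))
    · have h2 := h.two_homog (by omega) hn (by omega)
      rcases two_cases h2 (by omega) with ⟨p, d, hpf, hA⟩ | ⟨T, hT⟩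
      · have hcard := hA.card
        rw [hc] at hcard
        have hpp := hpf.out
        have h9 : p ∣ 3 ^ 2 := by
          rw [show (3 : ℕ) ^ 2 = 9 by norm_num, hcard]
          refine dvd_pow_self p ?_
          rintro rfl
          norm_num at hcard
        have hp3 : p = 3 := (Nat.prime_dvd_prime_iff_eq hpp (by norm_num)).1 (hpp.dvd_of_dvd_pow h9)
        subst hp3
        have hd2 : d = 2 := by
          have : (3 : ℕ) ^ 2 = 3 ^ d := by rw [← hcard]; norm_num
          exact (Nat.pow_right_injective (le_refl 2 |>.trans (by norm_num)) this).symm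
        subst hd2
        exact (not_ut_nine hA hu).elim
      · exact Ut.of_homog (hAS T hT (by omega))
  · exact Ut.of_homog (h.reduction hk hn hex hAS)

end Cfsg.Agent.H397.KHom
end

-- part: H447/KRowCo
section
/-!
# Rows `hs`, `co3` of S3564 (helper447)
-/

set_option autoImplicit false
set_option linter.unusedSectionVars false

namespace Cfsg.Agent.H447.KRowCo

open MulAction Cfsg Cfsg.Agent.H397.KHom Cfsg.Agent.H384.TwoTrans Cfsg.Agent.H391.KOrb
open Cfsg.Agent.H447.KRowTools Cfsg.Agent.H447.MElems Cfsg.Agent.H447.KRowSmall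
open Cfsg.Agent.H447.KRowMathieu
open scoped Pointwise

theorem card_HS : Nat.card Spor.HS = 44352000 := by
  rw [← LeechPack.X100.map_G2, Subgroup.card_map_of_injective Co0.subtype_injective]
  exact LeechPack.X100.card_G2

theorem pair_Co3 : SixPair Spor.Co3 := by
  obtain ⟨f, hf⟩ := Cfsg.Agent.H921.Spor.Co.exists_Co3
  exact pair_M23.map f hf

universe u v

variable {G : Type u} {Ω : Type v} [Group G] [MulAction G Ω] {T : Subgroup G} [DecidableEq Ω] [Fintype Ω]

theorem choose_dvd_of_homog [Finite G] {j : ℕ} (hj : j ≤ Fintype.card Ω) (h : Homog G Ω j) :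
    (Fintype.card Ω).choose j ∣ Nat.card G := by
  rw [homog_iff_pretransitive] at h
  obtain ⟨I, -, hI⟩ := Finset.exists_subset_card_eq (s := (Finset.univ : Finset Ω))
        (n := j) (by rw [Finset.card_univ]; omega)
  have h1 := index_stabilizer_of_transitive G (⟨I, hI⟩ : Set.powersetCard Ω j)
  rw [Set.powersetCard.card, Nat.card_eq_fintype_card] at h1
  rw [← h1]
  exact Subgroup.index_dvd_card _

theorem row_hs (A : AS G Ω T) (hT : Spor.IsoHS T) (hn : Nat.card Ω = 176) {k : ℕ}
    (hk : 4 ≤ k) (h2k : 2 * k ≤ Fintype.card Ω + 1) (h : Hom G Ω k) : Homog G Ω (k - 1) := by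
  have := A.finG
  obtain ⟨e⟩ := hT
  have hc : Nat.card T = 44352000 := by rw [Nat.card_congr e.toEquiv, card_HS]
  rw [Nat.card_eq_fintype_card] at hn
  have hG : Nat.card G ≤ 88704000 := by
    have h1 := card_dvd_of_out A e
    rw [Cfsg.Agent.S2072.result, card_HS] at h1
    exact Nat.le_of_dvd (by norm_num) h1
  rcases (show k = 4 ∨ k = 5 ∨ 6 ≤ k by omega) with rfl | rfl | hk6
  · exact homog_of_dvd_card (p := 2) (a := 2) A Nat.prime_two h (by rw [hn]; norm_num)
  · exact prime A (by norm_num) h (by rw [hc]; norm_num)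
  · by_contra hnot
    have h2 : Nat.choose 176 5 = 1328902960 := by decide +kernel
    rcases bound h hk6 h2k hnot with h1 | h1
    · rw [hn, h2] at h1
      omega
    · have := h1 5 (by omega)
      rw [hn, h2] at this
      omega

theorem row_co3 (A : AS G Ω T) (hT : Spor.IsoCo3 T) (hn : Nat.card Ω = 276) {k : ℕ}
    (hk : 4 ≤ k) (h2k : 2 * k ≤ Fintype.card Ω + 1) (h : Hom G Ω k) : Homog G Ω (k - 1) := by
  have := A.finG
  obtain ⟨e⟩ := hT
  have hc : Nat.card T = 495766656000 := by
    rw [Nat.card_congr e.toEquiv, Cfsg.Agent.H49.CoStab.card_co3]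
  rw [Nat.card_eq_fintype_card] at hn
  have hGd : Nat.card G ∣ 495766656000 := by
    have h1 := card_dvd_of_out A e
    rwa [Cfsg.Agent.S2071.result, Cfsg.Agent.H49.CoStab.card_co3, one_mul] at h1
  rcases (show k = 4 ∨ k = 5 ∨ k = 6 ∨ k = 7 ∨ 8 ≤ k by omega) with rfl | rfl | rfl | rfl | hk8
  · exact homog_of_dvd_card (p := 2) (a := 2) A Nat.prime_two h (by rw [hn]; norm_num)
  · exact prime A (by norm_num) h (by rw [hc]; norm_num)
  · exact six A h (SixPair.transfer e pair_Co3)
  · exact prime A (by norm_num) h (by rw [hc]; norm_num)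
  · by_contra hnot
    obtain ⟨s, hs3, hsk, hs1, hs2, hmono, -⟩ := h.exists_level (by omega) h2k (by omega) hnot
    have hs : s = 3 := by
      by_contra hne
      have h3 : Homog G Ω 3 := hs1.mono (by omega) (by omega)
      have h4 := (choose_dvd_of_homog (by omega) h3).trans hGd
      rw [hn, show Nat.choose 276 3 = 3466100 by decide +kernel] at h4
      omega
    have h5 := choose_le_numOrb_mul (G := G) (Ω := Ω) 7
    have h6 : numOrb G Ω 7 ≤ 3 := by rw [← hs]; exact hmono 7 (by omega)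
    have h7 : Nat.card G ≤ 495766656000 := Nat.le_of_dvd (by norm_num) hGd
    have h8 := h5.trans (Nat.mul_le_mul h6 h7)
    rw [hn] at h8
    revert h8
    decide +kernel

end Cfsg.Agent.H447.KRowCo
end

-- part: H397/KHomMain
section
/-!
# `(k-1,k)`-homogeneous almost simple groups: all rows of `Known2` (helper397, helper391, helper447)

`of_known2` : the conclusion of S3564 for `k ≥ 4` and almost simple 2-transitive groups, from the classification of
the 2-transitive groups (`Known2`); `hom_main`, `ut_main` : S3564 and S3563 from this classification.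
-/

set_option autoImplicit false
set_option linter.unusedSectionVars false

namespace Cfsg.Agent.H397.KHomMain

open MulAction Cfsg.Agent.H397.KHom Cfsg.Agent.H384.TwoTrans

universe u v

variable {G : Type u} {Ω : Type v} [Group G] [MulAction G Ω] {T : Subgroup G} [DecidableEq Ω] [Fintype Ω]

theorem of_known2 (A : AS G Ω T) (hK : Known2 T (Nat.card Ω)) {k : ℕ} (hk : 4 ≤ k) (h2k : 2 * k ≤ Fintype.card Ω + 1) (h : Hom G Ω k) : Homog G Ω (k - 1) := by
  have hc : Nat.card Ω = Fintype.card Ω := Nat.card_eq_fintype_card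
  generalize hN : Nat.card Ω = N at hK
  cases hK with
  | alt n hn e => exact Cfsg.Agent.H447.KRowSmall.row_alt A hN hn e hk h2k
  | psl F d n hd hd2 e hn =>
    rcases hd.eq_or_lt with rfl | hd3
    · refine Cfsg.Agent.H391.KPslTwo.psl2 A e ?_ hk (by rw [hc]; exact h2k) h
      have h4 := hd2 rfl
      have h5 : Fintype.card F ^ 2 - 1 = (Fintype.card F + 1) * (Fintype.card F - 1) := by
        have := Nat.sq_sub_sq (Fintype.card F) 1
        rwa [one_pow] at this
      rw [h5] at hn
      rw [hN]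
      exact Nat.eq_of_mul_eq_mul_right (by omega) hn
    · exfalso
      rw [← hN] at hn
      obtain ⟨I, J, hI, hJ, hIJ⟩ := Cfsg.Agent.H391.PslRow.sets A hd3 e hn hk (by rw [hc]; exact h2k)
      obtain ⟨g, hg⟩ := h I J hI hJ
      obtain ⟨x, hx, hx'⟩ := hIJ g
      exact hx' (hg x hx)
  | sp F m n hF hm e hn =>
    obtain ⟨e⟩ := e
    exact Cfsg.Agent.H397.KHomSp.row_sp A hF hm e (by rw [← hc, hN]; exact hn) hk h2k h
  | psu F q n hq hF e hn =>
    exact Cfsg.Agent.H391.KRankOne.psu A hq hF e (by rw [← hc, hN]; exact hn) hk h2k h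
  | sz F m n hm hF e hn =>
    exact Cfsg.Agent.H391.KRankOne.sz A hm hF e (by rw [← hc, hN]; exact hn) hk h2k h
  | ree K m n hm hK e hn =>
    exact Cfsg.Agent.H391.KRankOne.ree A hm hK e (by rw [← hc, hN]; exact hn) hk h2k h
  | psl2_8 F hF e => exact Cfsg.Agent.H391.KRankOne.psl2_8 A hF e (by rw [← hc, hN]) hk h2k h
  | psl2_9 F hF e => exact Cfsg.Agent.H447.KRowSmall.row_psl2_9 A hN F hF e hk h2k
  | psl2_11 F hF e =>
    obtain ⟨e⟩ := e
    exact Cfsg.Agent.H397.KHomRows.row_psl2_11 A hF e (by rw [← hc, hN]) hk h2k h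
  | psl4_2 F hF e => exact Cfsg.Agent.H447.KRowSmall.row_psl4_2 A hN F hF e hk h2k
  | a7 e =>
    obtain ⟨e⟩ := e
    exact Cfsg.Agent.H397.KHomRows.row_a7 A e (by rw [← hc, hN]) hk h2k h
  | m11 hT => exact Cfsg.Agent.H447.KRowMathieu.row_m11 A hT (Or.inl hN) hk h2k h
  | m11' hT => exact Cfsg.Agent.H447.KRowMathieu.row_m11 A hT (Or.inr hN) hk h2k h
  | m12 hT => exact Cfsg.Agent.H447.KRowMathieu.row_m12 A hT hN hk h2k h
  | m22 hT => exact Cfsg.Agent.H447.KRowMathieu.row_m22 A hT hN hk h2k h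
  | m23 hT => exact Cfsg.Agent.H447.KRowM23.row_m23 A hT hN hk h2k h
  | m24 hT => exact Cfsg.Agent.H447.KRowM23.row_m24 A hT hN hk h2k h
  | hs hT => exact Cfsg.Agent.H447.KRowCo.row_hs A hT hN hk h2k h
  | co3 hT => exact Cfsg.Agent.H447.KRowCo.row_co3 A hT hN hk h2k h

/-- **S3564 from the classification of the almost simple 2-transitive groups.** -/
theorem hom_main [Finite G] [FaithfulSMul G Ω] (hK : ∀ T : Subgroup G, AS G Ω T → Known2 T (Nat.card Ω))
    (n k : ℕ) (hn : Fintype.card Ω = n) (hk : 2 ≤ k) (hk2 : 2 * k ≤ n + 1)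
    (hexc : ¬ ((n = 5 ∧ k = 3) ∨ (n = 7 ∧ k = 4) ∨ (n = 9 ∧ k = 5)))
    (hhom : (∀ I J : Finset Ω, I.card = k - 1 → J.card = k → ∃ g : G, ∀ x ∈ I, g • x ∈ J)) :
    (∀ I J : Finset Ω, I.card = k - 1 → J.card = k - 1 → ∃ g : G, ∀ x ∈ I, g • x ∈ J) := by
  subst hn
  exact Hom.reduction hhom hk hk2 hexc fun T A hk4 => of_known2 A (hK T A) hk4 hk2 hhom

/-- **S3563 from the classification of the almost simple 2-transitive groups.** -/
theorem ut_main [Finite G] [FaithfulSMul G Ω] (hK : ∀ T : Subgroup G, AS G Ω T → Known2 T (Nat.card Ω))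
    (n k : ℕ) (hn : Fintype.card Ω = n) (hk : 2 ≤ k) (hk2 : 2 * k ≤ n + 1)
    (hut : (∀ (I : Finset Ω) (f : Ω → Fin k), I.card = k → Function.Surjective f →
      ∃ g : G, Set.InjOn (fun x => f (g • x)) ↑I)) :
    (∀ (I : Finset Ω) (f : Ω → Fin (k - 1)), I.card = (k - 1) → Function.Surjective f →
      ∃ g : G, Set.InjOn (fun x => f (g • x)) ↑I) := by
  subst hn
  exact Ut.reduction hut hk hk2 fun T A hk4 => of_known2 A (hK T A) hk4 hk2
    (Ut.hom hut (by omega) (by omega))

end Cfsg.Agent.H397.KHomMain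
end

private theorem dce_838391deb569 : _root_.True := by
  try have : _root_.True := by simp only [_root_.Cfsg.Agent.H397.KHomSp.gram.eq_1]
  try have : _root_.True := by simp only [_root_.Cfsg.Agent.H397.KHomSp.qf.eq_1]
  exact _root_.True.intro
end
end
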